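import Cfsg.Agent.Lib.Comp.HNn.Perm

set_option maxRecDepth 100000
set_option Elab.async false

namespace Cfsg.Lib.Comp.HNn

universe u

theorem card : Nat.card (cl (gp nets) L) = 177408000 := card_of_ord HN.n_ord nets_iv nets_rel lb

def Lc : List ℕ := [1,2,3,4,5,64,65,66,67,68,69,70,71,72,73,74,75,76,77,78,79,80,81,82,83,84,85,86,87,88,89,90,91,92,93,94]

theorem cl_lc : cl (gp nets) Lc = cl (gp nets) L := by
  rw [show Lc = L ++ slp.map (·.1) by decide +kernel]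
  exact cl_eq_of_slpB nets_ok (by norm_num) slp_ok

noncomputable def Lv : List Lev := [([3,4,64,65,66,67,68,69,70,71,72],[1,5,1,3,64,5,66,68,70,3,1,68,5,3,70,1,66,1],0,0,1408),
 ([66,67,68,69,70,71,72],[3,64,66,68,70,3,66,64,3],1,1,50),
 ([70,71,72],[66,68,66,70,72,66,68,66,70,68,66,68],204,204,252),
 ([],[70,72,70,70,70],9,9,10)]

theorem ex : Exact nets Lv Lc := exact_of_beq (n := 177408000) (by rw [cl_lc]; exact card.le) (by decide +kernel)

noncomputable def tb : ℕ → ℕ → ℕ := tbx 1536 (tbk 11 4 prs11 nets 256)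

theorem tb_ok : TbA nets tb := tbA_tbx nets_ok (tbk_eq tr11 (by norm_num) (by norm_num) (by norm_num) nets_ok)

def B : List ℕ := [0,1,204,9]

def civ : ℕ → ℕ := fun x => look (nat_lit 0x5d5e5b5c595a57585556535451524f504d4e4b4c494a4846474445424340413f3e3d3c3b3a393837363534333231302f2e2d2c2b2a292827262524232221201f1e1d1c1b1a191817161514131211100f0e0d0c0b0a09080607050304010200) 8 x

def al : ℕ → ℕ := fun x => x

def j1 : List ℕ := [2,2]

def j2 : List ℕ := [1,1]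

theorem ctl : Ctl nets tb B Lc civ (cl (gp nets) L) :=
  ctl_of tb_ok (by rw [← cl_lc, show B = bases Lv by decide +kernel]; exact ex.isBase nets_ok) (fun _ ha => cl_lc ▸ mem_cl ha) (by decide +kernel)

noncomputable def D0 : List (ℕ × ℕ × List ℕ) := [(82,0,[71,4,73,64,66,70,75,72,64]),
 (81,0,[65,72,76,71,67,65,74,3,70]),
 (80,0,[3,77,74,77,76,77,66,68,78]),
 (79,0,[77,69,67,78,75,78,73,78,4]),
 (78,0,[72,65,73,66,72,75,4,69,67]),
 (77,0,[66,68,3,76,72,67,74,64,72]),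
 (76,0,[65,69,72,70,69,73,69,4,72]),
 (75,0,[72,3,68,74,68,71,72,68,64]),
 (74,0,[69,67,4,68,67,68,68,4,66]),
 (73,0,[67,3,69,69,66,69,3,66,68]),
 (72,0,[69,66,66,69,69,69,67,67,69,66,66]),
 (71,0,[69,66,69,66,69,69,66,69,66]),
 (70,0,[67,68,67,68,68,67,68,67,68]),
 (69,0,[64,64,3,3,3,3,64,64]),
 (68,0,[65,65,4,4,4,4,65,65]),
 (67,0,[65,3,65]),
 (66,0,[64,4,64]),
 (3,1,[4]),
 (4,2,[3]),
 (64,3,[2,4,1]),
 (65,4,[2,3,1])]

noncomputable def L0 : List ℕ := mapL (·.1) D0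

theorem lev0 : (∀ g ∈ cl (gp nets) L, g 0 < 1408) ∧ ∀ g ∈ cl (gp nets) L, g 0 = 0 → g ∈ cl (gp nets) L0 :=
  Exact.ctl nets_ok ex cl_lc (by decide +kernel)

theorem l0_sub : ∀ a ∈ L0, a ∈ Lc := sub_of_subB (by decide +kernel)

theorem l0_fix : ∀ g ∈ cl (gp nets) L0, g 0 = 0 := fix_letters tb_ok (by decide +kernel)

end Cfsg.Lib.Comp.HNn
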