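import Cfsg.Agent.Lib.Comp.HNn.X2

set_option maxRecDepth 100000
set_option Elab.async false

namespace Cfsg.Lib.Comp.HNn

universe u

noncomputable def p3_S : List (List ℕ) := [[1],
 [],
 [2]]

noncomputable def p3_Y : List (ℕ × List ℕ × List (List ℕ)) := [(3,[3],[[64],
 [64],
 [3]]),
 (4,[4],[[65],
 [65],
 [4]]),
 (64,[64],[[3],
 [3],
 [64]]),
 (65,[65],[[4],
 [4],
 [65]]),
 (66,[66],[[66],
 [66],
 [66]]),
 (67,[67],[[67],
 [67],
 [67]]),
 (68,[68],[[69,70,69,69],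
 [69,70,69,69],
 [68]]),
 (69,[69],[[68,68,71,68],
 [68,68,71,68],
 [69]]),
 (70,[70],[[69,71,71],
 [69,71,71],
 [70]]),
 (71,[71],[[69,69,72],
 [69,69,72],
 [71]]),
 (72,[72],[[68,70],
 [68,70],
 [72]])]

theorem p3_Y_ok : allL p3_Y (fun d => cnd (eqW tb B Lc [d.1] d.2.1) (syB tb B Lc L0 al d.1 p3_S d.2.2 d.2.1) false) = true := by
  decide +kernel

noncomputable def p3_T0 : CT := (CT.br [] [0,2,31,33,34,0,2,25,27,24,33,32,25] (CT.cons 0 (CT.leaf [] [([],289,[]),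
 ([],293,[]),
 ([],294,[])] [1])
 CT.nil))

theorem p3_T0_ok : ctB nets tb B Lc civ L0 al xF 390 p3_S (mapL (·.1) p3_Y) 0 p3_T0 true Lv Lc [] = true := by decide +kernel

noncomputable def p3_T1 : CT := (CT.br [] [37,35,39,37,36,37,35,38,37,39,37,36,37] (CT.cons 904 (CT.leaf [3,72,82,67,73,92,93,91] [([],300,[73,80,82,71]),
 ([],339,[68,68,80,65]),
 ([],340,[79,79,77,80])] [75,77,9,76,71])
 (CT.cons 554 (CT.leaf [69,64,74,68,1,91,91] [([],299,[3,64,77,64,68]),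
 ([100],322,[68,81,4,72]),
 ([10],317,[70,78,80,81])] [75,71,77,74,78])
 (CT.cons 204 (CT.leaf [4,5,4,5] [([],298,[73,68,72,82]),
 ([],313,[4,64,66,81]),
 ([],324,[4,65,65,78,74])] [73,6,78,71,9])
 (CT.cons 154 (CT.leaf [3,75,3,78,70,92,82] [([],297,[3,75,71,74,72]),
 ([12],305,[65,71,78,69]),
 ([],309,[76,78,70,74])] [77,74,79,76,70])
 (CT.cons 104 (CT.leaf [2,5] [([],296,[]),
 ([12],306,[65,71,78,69]),
 ([],291,[65,71,78,69])] [71,77,73,74,6])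
 (CT.cons 54 (CT.leaf [1,5] [([],295,[]),
 ([],302,[]),
 ([],306,[])] [])
 (CT.cons 53 (CT.leaf [1,1] [([],294,[]),
 ([0],289,[]),
 ([],290,[])] [])
 (CT.cons 52 (CT.leaf [1] [([],293,[]),
 ([],292,[]),
 ([],293,[])] [])
 (CT.cons 51 (CT.leaf [2] [([],292,[]),
 ([],294,[]),
 ([0,0],289,[])] [])
 (CT.cons 1 (CT.leaf [5] [([],291,[]),
 ([70,7],295,[3,82,3,70]),
 ([127,120],303,[4,67,67,78])] [79,76,70,74,6])
 (CT.cons 0 (CT.leaf [] [([],290,[]),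
 ([],290,[]),
 ([],292,[])] [])
 CT.nil))))))))))))

theorem p3_T1_ok : ctB nets tb B Lc civ L0 al xF 390 p3_S (mapL (·.1) p3_Y) 1 p3_T1 true Lv Lc [] = true := by decide +kernel

noncomputable def p3_T2 : CT := (CT.br [] [5,42,6,5,42,5,43,5,42,5,42,5,42,5] (CT.cons 968 (CT.leaf [65,70,74,80,92,93,91] [([],318,[74,80,82]),
 ([],341,[3,65,69,74,69]),
 ([],369,[74,81,4,74])] [86,81,85,83])
 (CT.cons 563 (CT.leaf [80,81,73,4,5,88,82] [([],317,[70,65,67,71]),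
 ([72,76,8],299,[76,69,69,73]),
 ([],319,[76,69,69,73])] [89,80,86,82,10])
 (CT.cons 557 (CT.leaf [3,64,69,74,69,5,87,85] [([],316,[3,69,72,76,74]),
 ([100],319,[3,64,82,68,80]),
 ([12],307,[76,66,74,79])] [82,82,11,81])
 (CT.cons 534 (CT.leaf [4,69,79,69,65,87,73,87] [([],315,[3,66,82,76,76]),
 ([86,82],308,[4,66,73,82,79]),
 ([101,18],323,[68,79,82,69])] [87,83,87])
 (CT.cons 492 (CT.leaf [5,3,5] [([],314,[]),
 ([],361,[64,78,72,69]),
 ([],363,[70,67,68])] [89,12,88,10])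
 (CT.cons 458 (CT.leaf [3,5,4,5] [([],313,[73,4,77,80]),
 ([100],328,[65,76,82,71]),
 ([],322,[70,74,81,3])] [86,11,89])
 (CT.cons 424 (CT.leaf [72,3,69,5,3,5] [([],312,[69,65,67,70]),
 ([],377,[75,65,82,66]),
 ([],337,[64,64,80,66,74])] [86,82,84,12])
 (CT.cons 167 (CT.leaf [3,68,67,78,3,92,82] [([],311,[79,71,74,79]),
 ([],355,[71,67,68,72]),
 ([],315,[70,65,4,73])] [])
 (CT.cons 154 (CT.leaf [3,75,3,78,70,92,82] [([],310,[3,75,71,74,72]),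
 ([127,120],303,[72,66,71]),
 ([],296,[72,66,71])] [84,88,10])
 (CT.cons 53 (CT.leaf [1,1] [([],309,[]),
 ([],291,[]),
 ([70,7],297,[3,79,65,74,81])] [10,86])
 (CT.cons 9 (CT.leaf [3,5] [([],308,[]),
 ([],325,[73,4,67]),
 ([],355,[67,67,4,69])] [11,85,11,12])
 (CT.cons 6 (CT.leaf [66,70,76,3,5] [([],307,[3,65,4,75,79]),
 ([82],317,[72,65,77,82]),
 ([78,75],298,[3,75,66,71,4])] [85,83,80,13])
 (CT.cons 1 (CT.leaf [5] [([],306,[]),
 ([],296,[]),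
 ([],305,[])] [89,81,12,84])
 (CT.cons 0 (CT.leaf [] [([],305,[]),
 ([12],310,[72,68,73,67]),
 ([127,120],302,[66,71,71,67])] [88,83,87,10,10])
 CT.nil)))))))))))))))

theorem p3_T2_ok : ctB nets tb B Lc civ L0 al xF 390 p3_S (mapL (·.1) p3_Y) 2 p3_T2 true Lv Lc [] = true := by decide +kernel

noncomputable def p3_T3 : CT := (CT.br [] [45,46,47,45,7,46,47,45,48,46,47,45] (CT.cons 847 (CT.leaf [75,4,72,79,5,87,77] [([],350,[4,71,82,75,74]),
 ([112,24,22],366,[75,69,72,78]),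
 ([93,17,14],345,[75,65,75,65])] [99,99])
 (CT.cons 736 (CT.leaf [70,80,74,75,87,83,5] [([],349,[74,68,79,72]),
 ([99,14],347,[3,67,75,71]),
 ([110,22],376,[4,76,74,65])] [15,98])
 (CT.cons 630 (CT.leaf [3,75,69,78,5,87,77] [([],348,[81,67,68,66]),
 ([131,137],386,[3,3,66,77,70]),
 ([116,110],366,[65,81,77,66])] [14,91,14])
 (CT.cons 546 (CT.leaf [67,4,5,65,5] [([],347,[64,82,65,75]),
 ([24],371,[82,72,80,65]),
 ([103,100],320,[67,71,65,78])] [17,95])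
 (CT.cons 517 (CT.leaf [66,64,5,3,5] [([],346,[65,71,80,71]),
 ([25,111],379,[78,80,82]),
 ([112,110,22],378,[3,73,73,73,3])] [99,14,91])
 (CT.cons 482 (CT.leaf [5,65,5] [([],345,[]),
 ([96],348,[3,68,67,78,81]),
 ([30,130,30,30],385,[73,4,78,64])] [90,97])
 (CT.cons 280 (CT.leaf [64,3,5,4,5] [([],344,[68,67,78,79]),
 ([109,21,19],320,[4,67,78,65]),
 ([90,17],349,[3,76,65,68,4])] [94,93])
 (CT.cons 191 (CT.leaf [66,82,65,68,92,82] [([],343,[80,66,73,71]),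
 ([],370,[69,76,73,77]),
 ([],342,[64,74,74,81])] [92,17,15])
 (CT.cons 140 (CT.leaf [70,70,64,2,5] [([],342,[72,69,73,70]),
 ([],337,[3,67,72,65]),
 ([83,84,13],318,[72,78,71,66])] [96,16,16])
 (CT.cons 90 (CT.leaf [70,70,64,1,5] [([],341,[3,71,4,65,77]),
 ([112,22],354,[3,73,68,76,79]),
 ([115,22],377,[3,65,81,72,69])] [92,17,15])
 (CT.cons 53 (CT.leaf [1,1] [([],340,[]),
 ([8,73,6],300,[73,4,71,71]),
 ([],335,[73,4,71,71])] [99,95,16])
 (CT.cons 52 (CT.leaf [1] [([],339,[]),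
 ([],338,[3,64,68,80,3]),
 ([],339,[66,72,81,3])] [99,15])
 (CT.cons 51 (CT.leaf [2] [([],338,[]),
 ([],340,[71,73,68,77]),
 ([73,75,9,6],300,[64,64,70,81])] [91,98,17])
 (CT.cons 16 (CT.leaf [70,70,64,5] [([],337,[80,66,73,71]),
 ([83,85,10],312,[75,78,72,68]),
 ([],370,[67,71,67,71])] [94,92,91])
 (CT.cons 2 (CT.leaf [65,4,5] [([],336,[80,67,76]),
 ([109,105],330,[82,70,76,3]),
 ([100,103,18],331,[64,77,4,66])] [14,91])
 (CT.cons 0 (CT.leaf [] [([],335,[]),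
 ([],335,[3,73,66,76,64]),
 ([],338,[3,71,75,67])] [90,96,91])
 CT.nil)))))))))))))))))

theorem p3_T3_ok : ctB nets tb B Lc civ L0 al xF 390 p3_S (mapL (·.1) p3_Y) 3 p3_T3 true Lv Lc [] = true := by decide +kernel

noncomputable def p3_T4 : CT := (CT.br [] [53,50,54,53,10,54,53,52,54,53,54,53,54] (CT.cons 554 (CT.leaf [69,64,74,68,1,91,91] [([],334,[3,64,77,64,68]),
 ([134,32,130],387,[64,73,76,78]),
 ([110,23],353,[70,73,78,80])] [20,103,104,18])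
 (CT.cons 529 (CT.leaf [3,5,64,5] [([],333,[74,81,71,75]),
 ([112],376,[75,74,81,79]),
 ([99,14],344,[69,80,76,72])] [20,18,18])
 (CT.cons 500 (CT.leaf [65,71,65,77,87,1,91] [([],332,[69,76,65,70]),
 ([],360,[4,81,4,78,75]),
 ([],388,[3,81,67,82,78])] [105,101,20])
 (CT.cons 379 (CT.leaf [3,69,78,72,80,92,92,83] [([],331,[78,72,81,74]),
 ([90],349,[75,74,66,81]),
 ([94,15],336,[76,73,70])] [109,107,100])
 (CT.cons 335 (CT.leaf [68,66,3,5,3,5] [([],330,[68,82,71,68]),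
 ([106,21],333,[3,3,74,72,69]),
 ([111,23],371,[4,69,65,79])] [106,18,20,18])
 (CT.cons 189 (CT.leaf [68,78,80,65,92,82] [([],329,[65,69,71,4]),
 ([],351,[3,82,71,67]),
 ([],327,[4,66,77,65,82])] [108,106,18,18])
 (CT.cons 162 (CT.leaf [4,75,3,78,70,92,82] [([],328,[3,3,77,66,66]),
 ([100],324,[72,77,81,3]),
 ([71,76,8],299,[75,82,76,4])] [19,104,19])
 (CT.cons 141 (CT.leaf [70,3,2,5] [([],327,[73,69,77,76]),
 ([],321,[4,66,66,71,81]),
 ([128,126,129],301,[4,79,64,71,3])] [101,109,101])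
 (CT.cons 91 (CT.leaf [70,3,1,5] [([],326,[76,74,75,78]),
 ([],356,[79,72,67,77]),
 ([],357,[74,78,78,71])] [100,18])
 (CT.cons 63 (CT.leaf [3,69,64,1,5] [([],325,[80,77,82,80]),
 ([],363,[72,82,3,76]),
 ([86,82],308,[67,71,78,71])] [106,106,21])
 (CT.cons 53 (CT.leaf [1,1] [([],324,[]),
 ([71,73],298,[71,75,71,4]),
 ([10],316,[77,64,3,66])] [104,100,104])
 (CT.cons 20 (CT.leaf [3,69,64,5] [([],323,[67,4,81]),
 ([82,11,11],314,[82,71,72,75]),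
 ([],365,[76,74,77,4])] [107,100,20,19])
 (CT.cons 19 (CT.leaf [4,4,5] [([],322,[3,66,3,76,72]),
 ([80],307,[4,68,71,3]),
 ([82],313,[3,70,64,78])] [105,21,21])
 (CT.cons 14 (CT.leaf [70,3,5] [([],321,[65,69,71,4]),
 ([123,126,125,26],304,[75,73,69,69]),
 ([],351,[75,73,69,69])] [101,105,102])
 (CT.cons 1 (CT.leaf [5] [([],320,[]),
 ([90,15],344,[80,69]),
 ([103,100,18],330,[69,77,74,72])] [108,106,105])
 (CT.cons 0 (CT.leaf [] [([],319,[]),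
 ([10],316,[74,78,69,77]),
 ([],328,[65,70,72,77])] [106,18,21])
 CT.nil)))))))))))))))))

theorem p3_T4_ok : ctB nets tb B Lc civ L0 al xF 390 p3_S (mapL (·.1) p3_Y) 4 p3_T4 true Lv Lc [] = true := by decide +kernel

noncomputable def p3_T5 : CT := (CT.br [] [12,57,11,12,56,57,12,57,56,12] (CT.cons 1133 (CT.leaf [65,82,79,75,93,92,88] [([],380,[3,3,77,75,67]),
 ([116,23],375,[74,64,66,78]),
 ([117,24,23],375,[76,73,67,75])] [111,24])
 (CT.cons 1076 (CT.leaf [3,66,79,82,5,94,91] [([],379,[64,76,66,76,80]),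
 ([24,115,22],368,[75,69,77,74]),
 ([135,135,32],386,[77,73,70,65])] [118,24,22])
 (CT.cons 1048 (CT.leaf [4,65,68,76,78,2,87,92,93] [([],378,[73,4,66,74]),
 ([99,95,14],345,[64,79,64,80]),
 ([14,94,15],346,[73,69,66,68])] [115,110,24])
 (CT.cons 900 (CT.leaf [73,73,66,1,87,73,87] [([],377,[66,76,73,70]),
 ([],342,[67,78,73,73]),
 ([],341,[74,65,65,77])] [114,112,25])
 (CT.cons 808 (CT.leaf [3,73,68,81,3,5,87,85] [([],376,[67,77,76,77]),
 ([97,15],336,[71,71,73,71]),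
 ([109,19],333,[64,71,73,66])] [22,114,22])
 (CT.cons 759 (CT.leaf [74,72,75,3,1,87,73,87] [([],375,[3,66,80,81,77]),
 ([25],367,[79,73,76,82]),
 ([22,24],367,[75,65,75,68])] [114,22,24])
 (CT.cons 733 (CT.leaf [81,80,4,68,5,87,77] [([],374,[71,79,70,4]),
 ([22,116,23],380,[3,75,3,79,71]),
 ([25,23],380,[78,71,64,70])] [115,117,22])
 (CT.cons 587 (CT.leaf [3,64,74,77,5,87,77] [([],373,[76,70,4,64]),
 ([],373,[78,69,75,69]),
 ([24,22],352,[64,64,79,81])] [114,110])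
 (CT.cons 491 (CT.leaf [66,70,5,4,5] [([],372,[65,69,74,78]),
 ([24,22],352,[65,72,65,79]),
 ([111],372,[64,75,81,72])] [22,118,23])
 (CT.cons 472 (CT.leaf [5,4,5] [([],371,[]),
 ([108,20],331,[68,73,79,70]),
 ([98,16],347,[64,78,76,65])] [117,25,22])
 (CT.cons 454 (CT.leaf [69,67,4,5,4,5] [([],370,[74,66,74]),
 ([],343,[64,3,76,71]),
 ([112,22],354,[65,75,82,79])] [112,25,22])
 (CT.cons 444 (CT.leaf [4,69,5,64,5] [([],369,[3,67,74,4,82]),
 ([88,84,11],318,[67,71,82,82]),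
 ([],343,[3,72,4,70,76])] [25,111,23])
 (CT.cons 330 (CT.leaf [4,64,64,5,64,5] [([],368,[4,67,81,68,71]),
 ([135,130,30],385,[3,72,78,82,71]),
 ([96,90],350,[3,3,3,77,72])] [112,111])
 (CT.cons 283 (CT.leaf [65,70,5,64,5] [([],367,[4,78,70,66,66]),
 ([111],374,[3,67,81,67,75]),
 ([115,116,23],374,[73,64,69,70])] [114,116,22])
 (CT.cons 251 (CT.leaf [64,71,65,5,4,5] [([],366,[3,3,76,76]),
 ([94,17,15],350,[66,76,82,71]),
 ([24],379,[3,76,74,68,79])] [114,22,25])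
 (CT.cons 201 (CT.leaf [65,81,69,67,92,82] [([],365,[68,73,75,66]),
 ([101,18],323,[3,70,81,74,3]),
 ([83,87],311,[64,69,78,79])] [114,25])
 (CT.cons 196 (CT.leaf [71,72,75,82,92,82] [([],364,[3,82,69,77,79]),
 ([134,32,130],383,[3,65,80,64]),
 ([23,24,22],362,[81,68,81,80])] [117])
 (CT.cons 152 (CT.leaf [3,64,68,70,64,2,5] [([],363,[73,79,72,66]),
 ([10,13],315,[64,80,74,72]),
 ([10,13],314,[74,67,81,66])] [115,117,22])
 (CT.cons 148 (CT.leaf [68,4,2,5] [([],362,[3,66,72,77,82]),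
 ([117,110,23],353,[69,82,4,68]),
 ([108,19,101],332,[77,71,74,76])] [114,116,23])
 (CT.cons 102 (CT.leaf [3,64,68,70,64,1,5] [([],361,[73,79,72,66]),
 ([],365,[69,66,70,67]),
 ([101,18],325,[77,69,81,73])] [110,22,24])
 (CT.cons 93 (CT.leaf [70,64,1,5] [([],360,[79,81,77,4]),
 ([134,32,130],389,[3,69,77,67,81]),
 ([],387,[73,67,73,82])] [110,23])
 (CT.cons 55 (CT.leaf [65,4,1,5] [([],359,[3,71,71,74,69]),
 ([36,145,34,34],382,[66,66,64,64]),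
 ([24,22],373,[3,66,3,72,64])] [25,23])
 (CT.cons 53 (CT.leaf [1,1] [([],358,[]),
 ([27,127,26],301,[4,65,67,77,67]),
 ([],329,[65,67,72])] [25,117,22])
 (CT.cons 52 (CT.leaf [1] [([],357,[]),
 ([],327,[3,3,69,67,73]),
 ([],326,[3,81,4,74,82])] [116,111])
 (CT.cons 51 (CT.leaf [2] [([],356,[]),
 ([],358,[67,72,76,76]),
 ([127,29,26],304,[65,79,76,74])] [114,118])
 (CT.cons 48 (CT.leaf [69,71,65,5] [([],355,[3,71,81,73,65]),
 ([12,11],311,[70,72,76,72]),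
 ([],361,[68,72,69])] [118,110,23])
 (CT.cons 21 (CT.leaf [4,5] [([],354,[]),
 ([115,22],369,[77,80,75,64]),
 ([85,88,13,10],312,[72,74,69,81])] [114,22,25])
 (CT.cons 18 (CT.leaf [70,64,5] [([],353,[67,65,80,64]),
 ([105,20,18],334,[4,78,66,75]),
 ([],383,[4,78,66,75])] [116,110,24])
 (CT.cons 2 (CT.leaf [65,4,5] [([],352,[80,67,76]),
 ([116,23],359,[72,78,81,75]),
 ([140,140,140],382,[72,78,81,75])] [116,115,23])
 (CT.cons 0 (CT.leaf [] [([],351,[]),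
 ([],329,[3,65,74,81,79]),
 ([],356,[65,65,74,77])] [112,24])
 CT.nil)))))))))))))))))))))))))))))))

theorem p3_T5_ok : ctB nets tb B Lc civ L0 al xF 390 p3_S (mapL (·.1) p3_Y) 5 p3_T5 true Lv Lc [] = true := by decide +kernel

noncomputable def p3_T6 : CT := (CT.br [] [13,60,14,64,60,61,62,63,13,60,62,61,13] (CT.cons 62 (CT.leaf [4,4,1,5] [([],304,[64,79,82,65]),
 ([],357,[3,66,3,76,72]),
 ([],321,[3,75,65,4,65])] [122,28,121,125,121])
 (CT.cons 53 (CT.leaf [1,1] [([],303,[]),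
 ([],297,[3,75,71,74,72]),
 ([],310,[3,75,71,74,72])] [])
 (CT.cons 52 (CT.leaf [1] [([],302,[]),
 ([12],309,[65,71,78,69]),
 ([],295,[65,71,78,69])] [127,124,129,129,121])
 (CT.cons 9 (CT.leaf [3,5] [([],301,[]),
 ([],326,[3,67,68,76,73]),
 ([],358,[3,65,79,77])] [120,123,124,29,123,26])
 CT.nil)))))

theorem p3_T6_ok : ctB nets tb B Lc civ L0 al xF 390 p3_S (mapL (·.1) p3_Y) 6 p3_T6 true Lv Lc [] = true := by decide +kernel

noncomputable def p3_T7 : CT := (CT.br [] [66,69,15,16,67,69,66,68,15,69,16] (CT.cons 181 (CT.leaf [3,74,4,76,74,91,68] [([],389,[75,70,69,4]),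
 ([134,32,130],388,[79,75,4,82]),
 ([107,104,104],334,[66,77,69,67,77])] [135,33,131])
 (CT.cons 53 (CT.leaf [1,1] [([],388,[]),
 ([101,105],332,[3,3,3,71,71]),
 ([112,25],364,[76,82,67,68])] [136,131,33,31])
 (CT.cons 38 (CT.leaf [4,68,65,5] [([],387,[64,80,75,65]),
 ([112,25],362,[3,69,70,82,66]),
 ([117,110,23],360,[4,64,70,65,73])] [136,131,33,31])
 (CT.cons 37 (CT.leaf [65,67,4,5] [([],386,[70,66,68,71]),
 ([114,22],378,[64,74,78,69]),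
 ([91,97],348,[76,80,66,3])] [31,139,30])
 (CT.cons 12 (CT.leaf [72,3,5] [([],385,[3,70,81,72,4]),
 ([98,15],346,[3,69,71,81,64]),
 ([111,117],368,[72,79,64,71])] [33,131,30])
 (CT.cons 6 (CT.leaf [66,70,76,3,5] [([],384,[3,65,4,75,79]),
 ([30,132,30],384,[67,65,65,79]),
 ([136,32,30],384,[3,64,64,70,65])] [131,137,32])
 (CT.cons 0 (CT.leaf [] [([],383,[]),
 ([112,25],364,[69,67,78,74]),
 ([],389,[70,75,67,65])] [135,33,131])
 CT.nil))))))))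

theorem p3_T7_ok : ctB nets tb B Lc civ L0 al xF 390 p3_S (mapL (·.1) p3_Y) 7 p3_T7 true Lv Lc [] = true := by decide +kernel

noncomputable def p3_T8 : CT := (CT.br [] [18,74,70,18,71,74,18,70,73,74,18,70,74,18,18] (CT.cons 53 (CT.leaf [1,1] [([],382,[]),
 ([24,22],372,[3,64,81,75,72]),
 ([24,22],359,[72,3,78,66])] [36,145,146,37,34])
 (CT.cons 21 (CT.leaf [4,5] [([],381,[]),
 ([148,148],381,[3,67,76,66,3]),
 ([141],381,[68,80,78,80])] [147,140,142,142])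
 CT.nil)))

theorem p3_T8_ok : ctB nets tb B Lc civ L0 al xF 390 p3_S (mapL (·.1) p3_Y) 8 p3_T8 true Lv Lc [] = true := by decide +kernel

noncomputable def p3_T : ℕ → CT := nth CT.nil [p3_T0,
 p3_T1,
 p3_T2,
 p3_T3,
 p3_T4,
 p3_T5,
 p3_T6,
 p3_T7,
 p3_T8]

theorem p3_T_ok : ∀ k < 9, ctB nets tb B Lc civ L0 al xF 390 p3_S (mapL (·.1) p3_Y) k (p3_T k) true Lv Lc [] = true := by
  intro k hk
  interval_cases k
  exacts [p3_T0_ok, p3_T1_ok, p3_T2_ok, p3_T3_ok, p3_T4_ok, p3_T5_ok, p3_T6_ok, p3_T7_ok, p3_T8_ok]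

end Cfsg.Lib.Comp.HNn
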