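import Cfsg.Agent.Lib.Comp.HNn.X2

set_option maxRecDepth 100000
set_option Elab.async false

namespace Cfsg.Lib.Comp.HNn

universe u

noncomputable def p5_S : List (List ℕ) := [[],
 [],
 [],
 [],
 []]

noncomputable def p5_Y : List (ℕ × List ℕ × List (List ℕ)) := [(3,[3],[[3],
 [3],
 [3],
 [3],
 [3]]),
 (4,[4],[[4],
 [4],
 [4],
 [4],
 [4]]),
 (64,[64],[[64],
 [64],
 [64],
 [64],
 [64]]),
 (65,[65],[[65],
 [65],
 [65],
 [65],
 [65]]),
 (66,[66],[[66],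
 [66],
 [66],
 [66],
 [66]]),
 (67,[67],[[67],
 [67],
 [67],
 [67],
 [67]]),
 (68,[68],[[68],
 [68],
 [68],
 [68],
 [68]]),
 (69,[69],[[69],
 [69],
 [69],
 [69],
 [69]]),
 (70,[70],[[70],
 [70],
 [70],
 [70],
 [70]]),
 (71,[71],[[71],
 [71],
 [71],
 [71],
 [71]]),
 (72,[72],[[72],
 [72],
 [72],
 [72],
 [72]])]

theorem p5_Y_ok : allL p5_Y (fun d => cnd (eqW tb B Lc [d.1] d.2.1) (syB tb B Lc L0 al d.1 p5_S d.2.2 d.2.1) false) = true := by
  decide +kernel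

noncomputable def p5_T0 : CT := (CT.br [] [0,2,31,33,34,0,2,25,27,24,33,32,25] (CT.cons 0 (CT.leaf [] [([],289,[]),
 ([],290,[]),
 ([],292,[]),
 ([],293,[]),
 ([],294,[])] [0,0])
 CT.nil))

theorem p5_T0_ok : ctB nets tb B Lc civ L0 al xF 390 p5_S (mapL (·.1) p5_Y) 0 p5_T0 true Lv Lc [] = true := by decide +kernel

noncomputable def p5_T1 : CT := (CT.br [] [37,35,39,37,36,37,35,38,37,39,37,36,37] (CT.cons 904 (CT.leaf [3,72,82,67,73,92,93,91] [([],300,[73,80,82,71]),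
 ([],335,[73,80,82,71]),
 ([],338,[68,4,72,77]),
 ([],339,[3,73,76,67]),
 ([],340,[64,71,75,77])] [77,8,75,71,7])
 (CT.cons 554 (CT.leaf [69,64,74,68,1,91,91] [([],299,[3,64,77,64,68]),
 ([],319,[3,64,77,64,68]),
 ([12],307,[3,64,66,70,74]),
 ([82],313,[76,73,75,69]),
 ([],324,[80,82,73,71])] [73,75,72,75,8])
 (CT.cons 204 (CT.leaf [4,5,4,5] [([],298,[73,68,72,82]),
 ([10],316,[74,75,70]),
 ([],328,[80,68,64,64]),
 ([],322,[73,70,81,3]),
 ([10],317,[82,3,71,76])] [71,75,77,78,8])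
 (CT.cons 154 (CT.leaf [3,75,3,78,70,92,82] [([],297,[3,75,71,74,72]),
 ([],310,[3,75,71,74,72]),
 ([127,120],302,[82,70,80,76]),
 ([],306,[82,70,80,76]),
 ([],291,[82,70,80,76])] [76,9,7,74,6])
 (CT.cons 104 (CT.leaf [2,5] [([],296,[]),
 ([],305,[]),
 ([],309,[69,71,66,69]),
 ([],295,[69,71,66,69]),
 ([127,120],303,[72,73,82,79])] [77,6,72,76,7])
 (CT.cons 54 (CT.leaf [1,5] [([],295,[]),
 ([127,120],303,[72,66,71]),
 ([],296,[72,66,71]),
 ([],305,[72,66,71]),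
 ([],309,[69,70,72,66])] [70,77,71,72,9])
 (CT.cons 53 (CT.leaf [1,1] [([],294,[]),
 ([0,0],289,[]),
 ([],290,[]),
 ([],292,[]),
 ([],293,[])] [])
 (CT.cons 52 (CT.leaf [1] [([],293,[]),
 ([],294,[]),
 ([0,0],289,[]),
 ([],290,[]),
 ([],292,[])] [])
 (CT.cons 51 (CT.leaf [2] [([],292,[]),
 ([],293,[]),
 ([],294,[]),
 ([0,0],289,[]),
 ([],290,[])] [])
 (CT.cons 1 (CT.leaf [5] [([],291,[]),
 ([70,7],297,[3,79,65,74,81]),
 ([],310,[3,79,65,74,81]),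
 ([127,120],302,[65,75,77,65]),
 ([],306,[65,75,77,65])] [79,76,70,74,6])
 (CT.cons 0 (CT.leaf [] [([],290,[]),
 ([],292,[]),
 ([],293,[]),
 ([],294,[]),
 ([0,0],289,[])] [])
 CT.nil))))))))))))

theorem p5_T1_ok : ctB nets tb B Lc civ L0 al xF 390 p5_S (mapL (·.1) p5_Y) 1 p5_T1 true Lv Lc [] = true := by decide +kernel

noncomputable def p5_T2 : CT := (CT.br [] [5,42,6,5,42,5,43,5,42,5,42,5,42,5] (CT.cons 968 (CT.leaf [65,70,74,80,92,93,91] [([],318,[74,80,82]),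
 ([],343,[76,82,68,66]),
 ([112,22],354,[3,71,71,81,70]),
 ([115,22],377,[67,71,3,78]),
 ([],337,[64,80,68,64])] [12,85,82])
 (CT.cons 563 (CT.leaf [80,81,73,4,5,88,82] [([],317,[70,65,67,71]),
 ([78,75],298,[4,69,75,71]),
 ([10],316,[77,82,79,73]),
 ([],328,[65,80,77,65]),
 ([],322,[69,82,72])] [87,83,84])
 (CT.cons 557 (CT.leaf [3,64,69,74,69,5,87,85] [([],316,[3,69,72,76,74]),
 ([],328,[69,82,82,78]),
 ([],322,[73,81,76,67]),
 ([10],317,[74,64,68,80]),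
 ([78,75],298,[3,77,64,70,78])] [10,83,10,13])
 (CT.cons 534 (CT.leaf [4,69,79,69,65,87,73,87] [([],315,[3,66,82,76,76]),
 ([10,13],314,[66,72,66,3]),
 ([],365,[3,78,82,70]),
 ([101,18],325,[3,78,4,69,76]),
 ([],355,[68,73,79,79])] [88,85,81,11])
 (CT.cons 492 (CT.leaf [5,3,5] [([],314,[]),
 ([],365,[66,73,3,79]),
 ([101,18],325,[3,76,66,73,71]),
 ([],355,[74,75,77,66]),
 ([],315,[69,78,73,70])] [82,89,89,10])
 (CT.cons 458 (CT.leaf [3,5,4,5] [([],313,[73,4,77,80]),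
 ([],324,[80,64,78,3]),
 ([71,76,8],299,[4,77,65,82,68]),
 ([],319,[4,77,65,82,68]),
 ([12],307,[65,82,74,66])] [80,86,10,87])
 (CT.cons 424 (CT.leaf [72,3,69,5,3,5] [([],312,[69,65,67,70]),
 ([],370,[65,82,74,72]),
 ([],342,[4,66,3,78,65]),
 ([],341,[74,69,80,70]),
 ([],369,[76,64,75,66])] [11,80,12,11])
 (CT.cons 167 (CT.leaf [3,68,67,78,3,92,82] [([],311,[79,71,74,79]),
 ([],361,[67,69,71,66]),
 ([],363,[76,82,73]),
 ([86,82],308,[4,66,68]),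
 ([101,18],323,[69,73,80,66])] [84,10,86,13])
 (CT.cons 154 (CT.leaf [3,75,3,78,70,92,82] [([],310,[3,75,71,74,72]),
 ([127,120],302,[82,70,80,76]),
 ([],306,[82,70,80,76]),
 ([],291,[82,70,80,76]),
 ([70,7],297,[78,75,75])] [85,86,85,80])
 (CT.cons 53 (CT.leaf [1,1] [([],309,[]),
 ([],295,[]),
 ([127,120],303,[72,66,71]),
 ([],296,[72,66,71]),
 ([],305,[72,66,71])] [86,89,10,10])
 (CT.cons 9 (CT.leaf [3,5] [([],308,[]),
 ([101,18],323,[73,3,69,78]),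
 ([83,87],311,[64,69,74,66,69]),
 ([],361,[3,78,70,72]),
 ([],363,[3,75,66,69,77])] [88,81,86,82])
 (CT.cons 6 (CT.leaf [66,70,76,3,5] [([],307,[3,65,4,75,79]),
 ([82],313,[64,68,70,72]),
 ([],324,[79,3,82,72]),
 ([71,76,8],299,[65,68,72,75]),
 ([],319,[65,68,72,75])] [12,84,84])
 (CT.cons 1 (CT.leaf [5] [([],306,[]),
 ([],291,[]),
 ([70,7],297,[3,79,65,74,81]),
 ([],310,[3,79,65,74,81]),
 ([127,120],302,[65,75,77,65])] [87,80,10,10])
 (CT.cons 0 (CT.leaf [] [([],305,[]),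
 ([],309,[69,71,66,69]),
 ([],295,[69,71,66,69]),
 ([127,120],303,[72,73,82,79]),
 ([],296,[72,73,82,79])] [83,89,80,12])
 CT.nil)))))))))))))))

theorem p5_T2_ok : ctB nets tb B Lc civ L0 al xF 390 p5_S (mapL (·.1) p5_Y) 2 p5_T2 true Lv Lc [] = true := by decide +kernel

noncomputable def p5_T3 : CT := (CT.br [] [45,46,47,45,7,46,47,45,48,46,47,45] (CT.cons 847 (CT.leaf [75,4,72,79,5,87,77] [([],350,[4,71,82,75,74]),
 ([24],379,[70,82,4,70]),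
 ([112,110,22],378,[66,70,78,81]),
 ([91,97],348,[66,79,78,67]),
 ([30,130,30,30],385,[65,73,77,3])] [92,90,90])
 (CT.cons 736 (CT.leaf [70,80,74,75,87,83,5] [([],349,[74,68,79,72]),
 ([94,15],336,[64,82,3,66]),
 ([109,19],333,[4,81,81,71,82]),
 ([111,23],371,[70,3,66,81]),
 ([103,100],320,[72,81,64])] [14,95])
 (CT.cons 630 (CT.leaf [3,75,69,78,5,87,77] [([],348,[81,67,68,66]),
 ([30,130,30,30],385,[3,69,77,76]),
 ([96,90],350,[3,66,81,80,64]),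
 ([24],379,[67,81,80,67]),
 ([112,110,22],378,[81,70,77,74])] [90,14,16])
 (CT.cons 546 (CT.leaf [67,4,5,65,5] [([],347,[64,82,65,75]),
 ([110,22],376,[4,79,76,74]),
 ([99,14],344,[66,80,74,4]),
 ([103,100,18],330,[74,71,64,71]),
 ([100,103,18],331,[71,4,66,68])] [98,16])
 (CT.cons 517 (CT.leaf [66,64,5,3,5] [([],346,[65,71,80,71]),
 ([111,117],368,[4,66,75,80,64]),
 ([135,135,32],386,[74,3,71,72]),
 ([116,110],366,[3,70,78,65,74]),
 ([93,17,14],345,[3,64,76,71])] [16,95,15])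
 (CT.cons 482 (CT.leaf [5,65,5] [([],345,[]),
 ([14,94,15],346,[3,3,68,4,78]),
 ([111,117],368,[78,81,73,65]),
 ([135,135,32],386,[3,64,80,66,64]),
 ([116,110],366,[69,82,64,73])] [93,16,16])
 (CT.cons 280 (CT.leaf [64,3,5,4,5] [([],344,[68,67,78,79]),
 ([103,100,18],330,[3,64,73,79]),
 ([100,103,18],331,[81,70,3,71]),
 ([98,16],347,[3,71,74,74,66]),
 ([110,22],376,[74,80,3,73])] [99,14])
 (CT.cons 191 (CT.leaf [66,82,65,68,92,82] [([],343,[80,66,73,71]),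
 ([112,22],354,[70,65,75,78]),
 ([115,22],377,[78,69,71]),
 ([],337,[3,68,70,80,76]),
 ([83,84,13],318,[72,78,72,69])] [93,96,91])
 (CT.cons 140 (CT.leaf [70,70,64,2,5] [([],342,[72,69,73,70]),
 ([],341,[4,71,65,65]),
 ([],369,[80,67,76,77]),
 ([85,88,13,10],312,[3,79,78,67]),
 ([],370,[69,71,67,68])] [97,92,90])
 (CT.cons 90 (CT.leaf [70,70,64,1,5] [([],341,[3,71,4,65,77]),
 ([],369,[78,4,76,70]),
 ([85,88,13,10],312,[71,78,3,68]),
 ([],370,[77,81,78,78]),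
 ([],342,[4,79,71,74])] [90,16,15])
 (CT.cons 53 (CT.leaf [1,1] [([],340,[]),
 ([73,75,9,6],300,[64,72,3,65]),
 ([],335,[64,72,3,65]),
 ([],338,[4,77,71]),
 ([],339,[67,82,66,72])] [94,96])
 (CT.cons 52 (CT.leaf [1] [([],339,[]),
 ([],340,[78,66,74,82]),
 ([73,75,9,6],300,[3,75,82,75,77]),
 ([],335,[3,75,82,75,77]),
 ([],338,[77,69,75,64])] [95,96])
 (CT.cons 51 (CT.leaf [2] [([],338,[]),
 ([],339,[3,68,81,80,72]),
 ([],340,[65,82,77,72]),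
 ([73,75,9,6],300,[80,80,82,73]),
 ([],335,[80,80,82,73])] [90,16,16])
 (CT.cons 16 (CT.leaf [70,70,64,5] [([],337,[80,66,73,71]),
 ([83,84,13],318,[79,81,72,3]),
 ([],343,[3,68,70,80,76]),
 ([112,22],354,[3,3,65,74,3]),
 ([115,22],377,[75,69,79,79])] [93,96,91])
 (CT.cons 2 (CT.leaf [65,4,5] [([],336,[80,67,76]),
 ([109,19],333,[3,3,66,81]),
 ([111,23],371,[74,69,75,3]),
 ([103,100],320,[3,73,4,74,68]),
 ([90,17],349,[4,81,64,78])] [93,14,94])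
 (CT.cons 0 (CT.leaf [] [([],335,[]),
 ([],338,[81,73,67,77]),
 ([],339,[3,76,80,78,3]),
 ([],340,[4,66,77,71,72]),
 ([73,75,9,6],300,[69,78,78,4])] [96,16,16])
 CT.nil)))))))))))))))))

theorem p5_T3_ok : ctB nets tb B Lc civ L0 al xF 390 p5_S (mapL (·.1) p5_Y) 3 p5_T3 true Lv Lc [] = true := by decide +kernel

noncomputable def p5_T4 : CT := (CT.br [] [53,50,54,53,10,54,53,52,54,53,54,53,54] (CT.cons 554 (CT.leaf [69,64,74,68,1,91,91] [([],334,[3,64,77,64,68]),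
 ([],383,[3,64,77,64,68]),
 ([23,24,22],362,[81,78,66,70]),
 ([117,110,23],360,[80,69,74,65]),
 ([],388,[65,70,77,74])] [107,104,104])
 (CT.cons 529 (CT.leaf [3,5,64,5] [([],333,[74,81,71,75]),
 ([111,23],371,[4,65,73,73]),
 ([103,100],320,[73,75,77,64]),
 ([90,17],349,[4,72,3,67,69]),
 ([94,15],336,[66,79,70,80])] [104,21,18,18])
 (CT.cons 500 (CT.leaf [65,71,65,77,87,1,91] [([],332,[69,76,65,70]),
 ([112,25],364,[3,3,67,80,69]),
 ([],389,[71,77,74,78]),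
 ([],387,[3,75,81,69,72]),
 ([110,23],353,[3,74,4,80,65])] [103,107,101,19])
 (CT.cons 379 (CT.leaf [3,69,78,72,80,92,92,83] [([],331,[78,72,81,74]),
 ([98,16],347,[3,67,78,71,64]),
 ([110,22],376,[81,66,64,68]),
 ([99,14],344,[3,76,67,4,79]),
 ([103,100,18],330,[67,76,78,67])] [100,103,18])
 (CT.cons 335 (CT.leaf [68,66,3,5,3,5] [([],330,[68,82,71,68]),
 ([100,103,18],331,[65,78,76,78]),
 ([98,16],347,[65,74,74,77]),
 ([110,22],376,[80,4,80,81]),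
 ([99,14],344,[67,80,76,73])] [103,100,18])
 (CT.cons 189 (CT.leaf [68,78,80,65,92,82] [([],329,[65,69,71,4]),
 ([],356,[72,64,77,71]),
 ([],357,[65,69,79,73,82]),
 ([],321,[3,69,78,69,4]),
 ([128,126,129],301,[3,3,80,77,71])] [107,103])
 (CT.cons 162 (CT.leaf [4,75,3,78,70,92,82] [([],328,[3,3,77,66,66]),
 ([],322,[70,77,70,77]),
 ([10],317,[4,73,65,67,72]),
 ([78,75],298,[3,81,80,75]),
 ([10],316,[3,82,70,72])] [107,100,105])
 (CT.cons 141 (CT.leaf [70,3,2,5] [([],327,[73,69,77,76]),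
 ([],326,[4,78,4,67,78]),
 ([],358,[65,72,77,70]),
 ([127,29,26],304,[80,4,74,78]),
 ([],351,[80,4,74,78])] [105,20,105])
 (CT.cons 91 (CT.leaf [70,3,1,5] [([],326,[76,74,75,78]),
 ([],358,[3,65,78,78,73]),
 ([127,29,26],304,[70,74,70,73]),
 ([],351,[70,74,70,73]),
 ([],327,[4,66,72,74,65])] [109,101,18])
 (CT.cons 63 (CT.leaf [3,69,64,1,5] [([],325,[80,77,82,80]),
 ([],355,[3,64,3,77,77]),
 ([],315,[64,76,65,79]),
 ([10,13],314,[66,82,82,70]),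
 ([],365,[71,72,67,71])] [106,106,21])
 (CT.cons 53 (CT.leaf [1,1] [([],324,[]),
 ([71,76,8],299,[64,74,64,77]),
 ([],319,[64,74,64,77]),
 ([12],307,[71,82,70,4]),
 ([82],313,[82,66,71])] [109,20,103])
 (CT.cons 20 (CT.leaf [3,69,64,5] [([],323,[67,4,81]),
 ([83,87],311,[72,73]),
 ([],361,[78,81,72,80]),
 ([],363,[70,67,79,78]),
 ([86,82],308,[82,80,76,80])] [19,107,104])
 (CT.cons 19 (CT.leaf [4,4,5] [([],322,[3,66,3,76,72]),
 ([10],317,[81,80,66,71]),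
 ([78,75],298,[3,65,4,81,76]),
 ([10],316,[68,73,69,67]),
 ([],328,[71,76,73,4])] [18,106,18])
 (CT.cons 14 (CT.leaf [70,3,5] [([],321,[65,69,71,4]),
 ([128,126,129],301,[3,64,81,80,3]),
 ([],329,[72,79,81,72]),
 ([],356,[4,69,3,65]),
 ([],357,[73,71,72,76])] [105,18,109])
 (CT.cons 1 (CT.leaf [5] [([],320,[]),
 ([90,17],349,[77,70,65,81]),
 ([94,15],336,[72,77,82,77]),
 ([109,19],333,[3,74,70,75,68]),
 ([111,23],371,[3,67,72,4,82])] [106,104,20])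
 (CT.cons 0 (CT.leaf [] [([],319,[]),
 ([12],307,[68,80,64,77]),
 ([82],313,[79,69,81,80]),
 ([],324,[75,71,75,68]),
 ([71,76,8],299,[66,71,66,72])] [108,103,20])
 CT.nil)))))))))))))))))

theorem p5_T4_ok : ctB nets tb B Lc civ L0 al xF 390 p5_S (mapL (·.1) p5_Y) 4 p5_T4 true Lv Lc [] = true := by decide +kernel

noncomputable def p5_T5 : CT := (CT.br [] [12,57,11,12,56,57,12,57,56,12] (CT.cons 1133 (CT.leaf [65,82,79,75,93,92,88] [([],380,[3,3,77,75,67]),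
 ([25,23],380,[71,77,67,77]),
 ([25,23],380,[76,68,67,72]),
 ([25,23],380,[3,75,71,73,70]),
 ([25,23],380,[3,66,73,80,76])] [25,23])
 (CT.cons 1076 (CT.leaf [3,66,79,82,5,94,91] [([],379,[64,76,66,76,80]),
 ([112,110,22],378,[3,76,76,74,76]),
 ([91,97],348,[66,72,65,82]),
 ([30,130,30,30],385,[3,74,3,70,4]),
 ([96,90],350,[3,66,81,80,77])] [117,22])
 (CT.cons 1048 (CT.leaf [4,65,68,76,78,2,87,92,93] [([],378,[73,4,66,74]),
 ([91,97],348,[79,3,64,79]),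
 ([30,130,30,30],385,[3,71,68,73,65]),
 ([96,90],350,[3,81,69,79]),
 ([24],379,[65,82,68,67])] [112,110,23])
 (CT.cons 900 (CT.leaf [73,73,66,1,87,73,87] [([],377,[66,76,73,70]),
 ([],337,[68,77,75,70]),
 ([83,84,13],318,[65,79,79]),
 ([],343,[3,68,66,77,65]),
 ([112,22],354,[3,66,70,67])] [112,116])
 (CT.cons 808 (CT.leaf [3,73,68,81,3,5,87,85] [([],376,[67,77,76,77]),
 ([99,14],344,[3,79,72,79,3]),
 ([103,100,18],330,[4,77,73,80,67]),
 ([100,103,18],331,[73,79,82,64]),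
 ([98,16],347,[3,78,74,69,4])] [110,22])
 (CT.cons 759 (CT.leaf [74,72,75,3,1,87,73,87] [([],375,[3,66,80,81,77]),
 ([117,24,23],375,[79,66,66,64]),
 ([117,24,23],375,[74,80,78,82]),
 ([117,24,23],375,[73,65,81,69]),
 ([117,24,23],375,[72,75,66,66])] [117,24,23])
 (CT.cons 733 (CT.leaf [81,80,4,68,5,87,77] [([],374,[71,79,70,4]),
 ([115,116,23],374,[72,79,72,78]),
 ([115,116,23],374,[67,75,74,3]),
 ([115,116,23],374,[81,4,82,80]),
 ([115,116,23],374,[3,3,70,64,71])] [115,116,23])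
 (CT.cons 587 (CT.leaf [3,64,74,77,5,87,77] [([],373,[76,70,4,64]),
 ([24,22],352,[71,81,71,3]),
 ([111],372,[4,73,70,65]),
 ([24,22],359,[73,69,72,68]),
 ([140,140,140],382,[73,69,72,68])] [111,117,22])
 (CT.cons 491 (CT.leaf [66,70,5,4,5] [([],372,[65,69,74,78]),
 ([24,22],359,[3,66,73,82]),
 ([140,140,140],382,[3,66,73,82]),
 ([24,22],373,[64,79,72,67]),
 ([24,22],352,[3,65,81,76,65])] [115,116])
 (CT.cons 472 (CT.leaf [5,4,5] [([],371,[]),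
 ([103,100],320,[67,78,4,69]),
 ([90,17],349,[3,65,77,73,70]),
 ([94,15],336,[3,72,80,4,72]),
 ([109,19],333,[73,66,76,72])] [117,23])
 (CT.cons 454 (CT.leaf [69,67,4,5,4,5] [([],370,[74,66,74]),
 ([],342,[3,81,74,64,74]),
 ([],341,[3,66,69,75,78]),
 ([],369,[3,66,81,81]),
 ([85,88,13,10],312,[81,70,74,80])] [25,111,22])
 (CT.cons 444 (CT.leaf [4,69,5,64,5] [([],369,[3,67,74,4,82]),
 ([85,88,13,10],312,[77,79,4]),
 ([],370,[3,3,74,80]),
 ([],342,[69,81,77,67]),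
 ([],341,[3,64,76,73,65])] [24,116,22])
 (CT.cons 330 (CT.leaf [4,64,64,5,64,5] [([],368,[4,67,81,68,71]),
 ([135,135,32],386,[76,67,81,64]),
 ([116,110],366,[75,64,66]),
 ([93,17,14],345,[67,74,74,77]),
 ([14,94,15],346,[66,68,4,66])] [117,117])
 (CT.cons 283 (CT.leaf [65,70,5,64,5] [([],367,[4,78,70,66,66]),
 ([22,24],367,[78,69,66,74]),
 ([22,24],367,[68,79,79,69,75]),
 ([22,24],367,[3,76,67,4]),
 ([22,24],367,[3,78,64,82,70])] [22,24])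
 (CT.cons 251 (CT.leaf [64,71,65,5,4,5] [([],366,[3,3,76,76]),
 ([93,17,14],345,[78,71,81,73]),
 ([14,94,15],346,[72,80,72,79]),
 ([111,117],368,[69,66,77,82]),
 ([135,135,32],386,[71,76,65,71])] [116,116])
 (CT.cons 201 (CT.leaf [65,81,69,67,92,82] [([],365,[68,73,75,66]),
 ([101,18],325,[74,65,68,76]),
 ([],355,[4,69,65]),
 ([],315,[66,72,81,74]),
 ([10,13],314,[74,75,77,72])] [117,25,23])
 (CT.cons 196 (CT.leaf [71,72,75,82,92,82] [([],364,[3,82,69,77,79]),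
 ([],389,[4,75,72,78]),
 ([],387,[68,66,3,71]),
 ([110,23],353,[3,80,81,3]),
 ([108,19,101],332,[67,80,82,80])] [115,25])
 (CT.cons 152 (CT.leaf [3,64,68,70,64,2,5] [([],363,[73,79,72,66]),
 ([86,82],308,[64,3,64,71]),
 ([101,18],323,[73,75,64,73]),
 ([83,87],311,[71,3,74,68]),
 ([],361,[76,65,67,69])] [25,111,22])
 (CT.cons 148 (CT.leaf [68,4,2,5] [([],362,[3,66,72,77,82]),
 ([117,110,23],360,[69,79,82,82]),
 ([],388,[65,78,66,75]),
 ([107,104,104],334,[72,66,78]),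
 ([],383,[72,66,78])] [23,24,22])
 (CT.cons 102 (CT.leaf [3,64,68,70,64,1,5] [([],361,[73,79,72,66]),
 ([],363,[3,71,74,3,68]),
 ([86,82],308,[65,68,75,78]),
 ([101,18],323,[3,67,65,68,78]),
 ([83,87],311,[3,77,66,73])] [117,110])
 (CT.cons 93 (CT.leaf [70,64,1,5] [([],360,[79,81,77,4]),
 ([],388,[4,75,72,68,4]),
 ([107,104,104],334,[3,68,68,80,70]),
 ([],383,[3,68,68,80,70]),
 ([23,24,22],362,[3,73,4,79,78])] [117,110,23])
 (CT.cons 55 (CT.leaf [65,4,1,5] [([],359,[3,71,71,74,69]),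
 ([140,140,140],382,[3,71,71,74,69]),
 ([24,22],373,[4,71,81,72,3]),
 ([24,22],352,[64,81,3,77,73]),
 ([111],372,[75,82,73,71])] [111,25])
 (CT.cons 53 (CT.leaf [1,1] [([],358,[]),
 ([127,29,26],304,[73,75,80,64]),
 ([],351,[73,75,80,64]),
 ([],327,[4,71,3,77]),
 ([],326,[78,76,70,74])] [116,111,25])
 (CT.cons 52 (CT.leaf [1] [([],357,[]),
 ([],321,[71,71,74,75]),
 ([128,126,129],301,[67,75,68,4]),
 ([],329,[72,81,78,79]),
 ([],356,[74,81,66,71])] [112,117,22])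
 (CT.cons 51 (CT.leaf [2] [([],356,[]),
 ([],357,[69,64,79,66]),
 ([],321,[75,3,67,80]),
 ([128,126,129],301,[3,3,80,65,72]),
 ([],329,[4,65,81,75,64])] [112,117,23])
 (CT.cons 48 (CT.leaf [69,71,65,5] [([],355,[3,71,81,73,65]),
 ([],315,[70,81,79,69]),
 ([10,13],314,[71,67,73,68]),
 ([],365,[3,78,69,3]),
 ([101,18],325,[4,81,72,78,75])] [117,115,22])
 (CT.cons 21 (CT.leaf [4,5] [([],354,[]),
 ([115,22],377,[75,82,66,70]),
 ([],337,[76,77,73,73]),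
 ([83,84,13],318,[65,75,66,76,81]),
 ([],343,[78,66,3,79])] [110,25])
 (CT.cons 18 (CT.leaf [70,64,5] [([],353,[67,65,80,64]),
 ([108,19,101],332,[66,69,77,73]),
 ([112,25],364,[3,76,80,78,79]),
 ([],389,[65,80,71,71]),
 ([],387,[3,65,72,73])] [117,117])
 (CT.cons 2 (CT.leaf [65,4,5] [([],352,[80,67,76]),
 ([111],372,[4,74,81,79,72]),
 ([24,22],359,[71,4,64,69]),
 ([140,140,140],382,[71,4,64,69]),
 ([24,22],373,[76,77,65,65])] [24,114,23])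
 (CT.cons 0 (CT.leaf [] [([],351,[]),
 ([],327,[81,78,66]),
 ([],326,[3,65,75,67,78]),
 ([],358,[74,67,75,78]),
 ([127,29,26],304,[77,66,81,4])] [24,22,22])
 CT.nil)))))))))))))))))))))))))))))))

theorem p5_T5_ok : ctB nets tb B Lc civ L0 al xF 390 p5_S (mapL (·.1) p5_Y) 5 p5_T5 true Lv Lc [] = true := by decide +kernel

noncomputable def p5_T6 : CT := (CT.br [] [13,60,14,64,60,61,62,63,13,60,62,61,13] (CT.cons 62 (CT.leaf [4,4,1,5] [([],304,[64,79,82,65]),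
 ([],351,[64,79,82,65]),
 ([],327,[73,77,80,66]),
 ([],326,[71,73,66,73]),
 ([],358,[75,64,66,3])] [122,129,122,128,124])
 (CT.cons 53 (CT.leaf [1,1] [([],303,[]),
 ([],296,[]),
 ([],305,[]),
 ([],309,[69,71,66,69]),
 ([],295,[69,71,66,69])] [124,123,28,120,124])
 (CT.cons 52 (CT.leaf [1] [([],302,[]),
 ([],306,[]),
 ([],291,[]),
 ([70,7],297,[3,79,65,74,81]),
 ([],310,[3,79,65,74,81])] [27,123,28,122,127])
 (CT.cons 9 (CT.leaf [3,5] [([],301,[]),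
 ([],329,[69,76,67,76]),
 ([],356,[71,77,3]),
 ([],357,[66,75,67,75]),
 ([],321,[3,67,77,74,65])] [124,123,129,125,29])
 CT.nil)))))

theorem p5_T6_ok : ctB nets tb B Lc civ L0 al xF 390 p5_S (mapL (·.1) p5_Y) 6 p5_T6 true Lv Lc [] = true := by decide +kernel

noncomputable def p5_T7 : CT := (CT.br [] [66,69,15,16,67,69,66,68,15,69,16] (CT.cons 181 (CT.leaf [3,74,4,76,74,91,68] [([],389,[75,70,69,4]),
 ([],387,[4,64,79,67,70]),
 ([110,23],353,[3,3,79,82,64]),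
 ([108,19,101],332,[70,81,3,78]),
 ([112,25],364,[4,77,3,80])] [31,132,30])
 (CT.cons 53 (CT.leaf [1,1] [([],388,[]),
 ([107,104,104],334,[67,65,68,82]),
 ([],383,[67,65,68,82]),
 ([23,24,22],362,[81,68,4,65]),
 ([117,110,23],360,[3,67,77,67,79])] [])
 (CT.cons 38 (CT.leaf [4,68,65,5] [([],387,[64,80,75,65]),
 ([110,23],353,[64,79,68,3]),
 ([108,19,101],332,[64,70,67,71,77]),
 ([112,25],364,[69,75,75,74]),
 ([],389,[4,4,71,66])] [30,139,30])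
 (CT.cons 37 (CT.leaf [65,67,4,5] [([],386,[70,66,68,71]),
 ([116,110],366,[3,3,66,76]),
 ([93,17,14],345,[3,78,82,77]),
 ([14,94,15],346,[3,82,79,82,67]),
 ([111,117],368,[3,80,72,75,69])] [138,33,132])
 (CT.cons 12 (CT.leaf [72,3,5] [([],385,[3,70,81,72,4]),
 ([96,90],350,[3,3,70,77]),
 ([24],379,[73,75,4,70]),
 ([112,110,22],378,[3,3,80,66,64]),
 ([91,97],348,[76,73,75,81])] [138,136,32,30])
 (CT.cons 6 (CT.leaf [66,70,76,3,5] [([],384,[3,65,4,75,79]),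
 ([136,32,30],384,[3,70,75,73,78]),
 ([136,32,30],384,[4,81,74,72,80]),
 ([136,32,30],384,[81,3,66]),
 ([136,32,30],384,[74,4,74,71])] [136,32,30])
 (CT.cons 0 (CT.leaf [] [([],383,[]),
 ([23,24,22],362,[65,73,75,67,69]),
 ([117,110,23],360,[67,71,67,4]),
 ([],388,[73,71,82,74]),
 ([107,104,104],334,[])] [])
 CT.nil))))))))

theorem p5_T7_ok : ctB nets tb B Lc civ L0 al xF 390 p5_S (mapL (·.1) p5_Y) 7 p5_T7 true Lv Lc [] = true := by decide +kernel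

noncomputable def p5_T8 : CT := (CT.br [] [18,74,70,18,71,74,18,70,73,74,18,70,74,18,18] (CT.cons 53 (CT.leaf [1,1] [([],382,[]),
 ([24,22],373,[82,80,72,80]),
 ([24,22],352,[3,69,64,73,77]),
 ([111],372,[66,68,78,78]),
 ([24,22],359,[64,3,77,65,68])] [149,147,149,140,140])
 (CT.cons 21 (CT.leaf [4,5] [([],381,[]),
 ([141],381,[71,75,77,75]),
 ([141],381,[3,66,80,75,79]),
 ([141],381,[4,73,69,79,72]),
 ([141],381,[73,72,74])] [37,37,141,149])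
 CT.nil)))

theorem p5_T8_ok : ctB nets tb B Lc civ L0 al xF 390 p5_S (mapL (·.1) p5_Y) 8 p5_T8 true Lv Lc [] = true := by decide +kernel

noncomputable def p5_T : ℕ → CT := nth CT.nil [p5_T0,
 p5_T1,
 p5_T2,
 p5_T3,
 p5_T4,
 p5_T5,
 p5_T6,
 p5_T7,
 p5_T8]

theorem p5_T_ok : ∀ k < 9, ctB nets tb B Lc civ L0 al xF 390 p5_S (mapL (·.1) p5_Y) k (p5_T k) true Lv Lc [] = true := by
  intro k hk
  interval_cases k
  exacts [p5_T0_ok, p5_T1_ok, p5_T2_ok, p5_T3_ok, p5_T4_ok, p5_T5_ok, p5_T6_ok, p5_T7_ok, p5_T8_ok]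

end Cfsg.Lib.Comp.HNn
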