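import Cfsg.Agent.Lib.Comp.HNn.X2

set_option maxRecDepth 100000
set_option Elab.async false

namespace Cfsg.Lib.Comp.HNn

universe u

noncomputable def pJ_S : List (List ℕ) := [[2,2],
 [1,1]]

noncomputable def pJ_Y : List (ℕ × List ℕ × List (List ℕ)) := [(3,[3],[[3],
 [3]]),
 (4,[4],[[4],
 [4]]),
 (64,[64],[[64],
 [64]]),
 (65,[65],[[65],
 [65]]),
 (66,[66],[[66],
 [66]]),
 (67,[67],[[67],
 [67]]),
 (68,[68],[[68],
 [68]]),
 (69,[69],[[69],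
 [69]]),
 (70,[70],[[70],
 [70]]),
 (71,[71],[[71],
 [71]]),
 (72,[72],[[72],
 [72]])]

theorem pJ_Y_ok : allL pJ_Y (fun d => cnd (eqW tb B Lc [d.1] d.2.1) (syB tb B Lc L0 al d.1 pJ_S d.2.2 d.2.1) false) = true := by
  decide +kernel

noncomputable def pJ_T0 : CT := (CT.br [] [0,2,31,33,34,0,2,25,27,24,33,32,25] (CT.cons 0 (CT.leaf [] [([],289,[]),
 ([],294,[])] [])
 CT.nil))

theorem pJ_T0_ok : ctB nets tb B Lc civ L0 al xF 390 pJ_S (mapL (·.1) pJ_Y) 0 pJ_T0 true Lv Lc [] = true := by decide +kernel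

noncomputable def pJ_T1 : CT := (CT.br [] [37,35,39,37,36,37,35,38,37,39,37,36,37] (CT.cons 904 (CT.leaf [3,72,82,67,73,92,93,91] [([],300,[73,80,82,71]),
 ([],340,[73,80,82,71])] [])
 (CT.cons 554 (CT.leaf [69,64,74,68,1,91,91] [([],299,[3,64,77,64,68]),
 ([],324,[3,64,77,64,68])] [])
 (CT.cons 204 (CT.leaf [4,5,4,5] [([],298,[73,68,72,82]),
 ([],317,[64,73,80,3])] [])
 (CT.cons 154 (CT.leaf [3,75,3,78,70,92,82] [([],297,[3,75,71,74,72]),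
 ([],306,[])] [])
 (CT.cons 104 (CT.leaf [2,5] [([],296,[]),
 ([],309,[])] [])
 (CT.cons 54 (CT.leaf [1,5] [([],295,[]),
 ([],303,[])] [])
 (CT.cons 53 (CT.leaf [1,1] [([],294,[]),
 ([],289,[])] [])
 (CT.cons 52 (CT.leaf [1] [([],293,[]),
 ([],290,[])] [])
 (CT.cons 51 (CT.leaf [2] [([],292,[]),
 ([],292,[])] [])
 (CT.cons 1 (CT.leaf [5] [([],291,[]),
 ([70,7],291,[3,64,68,4,65])] [6,76,73,73,70])
 (CT.cons 0 (CT.leaf [] [([],290,[]),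
 ([],293,[])] [])
 CT.nil))))))))))))

theorem pJ_T1_ok : ctB nets tb B Lc civ L0 al xF 390 pJ_S (mapL (·.1) pJ_Y) 1 pJ_T1 true Lv Lc [] = true := by decide +kernel

noncomputable def pJ_T2 : CT := (CT.br [] [5,42,6,5,42,5,43,5,42,5,42,5,42,5] (CT.cons 968 (CT.leaf [65,70,74,80,92,93,91] [([],318,[74,80,82]),
 ([],337,[76,82,68,66])] [])
 (CT.cons 563 (CT.leaf [80,81,73,4,5,88,82] [([],317,[70,65,67,71]),
 ([],298,[77,64,81,64])] [])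
 (CT.cons 557 (CT.leaf [3,64,69,74,69,5,87,85] [([],316,[3,69,72,76,74]),
 ([],322,[73,71,72,65])] [])
 (CT.cons 534 (CT.leaf [4,69,79,69,65,87,73,87] [([],315,[3,66,82,76,76]),
 ([10,13],315,[68,70,79,69])] [13,80,80])
 (CT.cons 492 (CT.leaf [5,3,5] [([],314,[]),
 ([],355,[66,73,3,79])] [])
 (CT.cons 458 (CT.leaf [3,5,4,5] [([],313,[73,4,77,80]),
 ([],319,[80,64,78,3])] [])
 (CT.cons 424 (CT.leaf [72,3,69,5,3,5] [([],312,[69,65,67,70]),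
 ([],369,[4,80,64,72,73])] [])
 (CT.cons 167 (CT.leaf [3,68,67,78,3,92,82] [([],311,[79,71,74,79]),
 ([],363,[67,69,71,66])] [])
 (CT.cons 154 (CT.leaf [3,75,3,78,70,92,82] [([],310,[3,75,71,74,72]),
 ([],302,[])] [])
 (CT.cons 53 (CT.leaf [1,1] [([],309,[]),
 ([],296,[])] [])
 (CT.cons 9 (CT.leaf [3,5] [([],308,[]),
 ([],323,[70,77,64,80])] [])
 (CT.cons 6 (CT.leaf [66,70,76,3,5] [([],307,[3,65,4,75,79]),
 ([10],307,[75,73,3,64])] [84,87,84,12])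
 (CT.cons 1 (CT.leaf [5] [([],306,[]),
 ([],297,[3,75,71,74,72])] [])
 (CT.cons 0 (CT.leaf [] [([],305,[]),
 ([],305,[69,71,66,69])] [13,88,82,82])
 CT.nil)))))))))))))))

theorem pJ_T2_ok : ctB nets tb B Lc civ L0 al xF 390 pJ_S (mapL (·.1) pJ_Y) 2 pJ_T2 true Lv Lc [] = true := by decide +kernel

noncomputable def pJ_T3 : CT := (CT.br [] [45,46,47,45,7,46,47,45,48,46,47,45] (CT.cons 847 (CT.leaf [75,4,72,79,5,87,77] [([],350,[4,71,82,75,74]),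
 ([],378,[3,74,79,71,74])] [])
 (CT.cons 736 (CT.leaf [70,80,74,75,87,83,5] [([],349,[74,68,79,72]),
 ([],349,[3,76,65,77,77])] [94,92,91])
 (CT.cons 630 (CT.leaf [3,75,69,78,5,87,77] [([],348,[81,67,68,66]),
 ([],385,[64,70,73,70])] [])
 (CT.cons 546 (CT.leaf [67,4,5,65,5] [([],347,[64,82,65,75]),
 ([],376,[4,78,66,79])] [])
 (CT.cons 517 (CT.leaf [66,64,5,3,5] [([],346,[65,71,80,71]),
 ([],366,[69,70,64,81])] [])
 (CT.cons 482 (CT.leaf [5,65,5] [([],345,[]),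
 ([92,15,15],345,[70,67,82,78])] [92,15,15])
 (CT.cons 280 (CT.leaf [64,3,5,4,5] [([],344,[68,67,78,79]),
 ([],331,[4,69,69,77,79])] [])
 (CT.cons 191 (CT.leaf [66,82,65,68,92,82] [([],343,[80,66,73,71]),
 ([],377,[3,72,65,70])] [])
 (CT.cons 140 (CT.leaf [70,70,64,2,5] [([],342,[72,69,73,70]),
 ([],342,[3,73,66,69,4])] [91,14,17])
 (CT.cons 90 (CT.leaf [70,70,64,1,5] [([],341,[3,71,4,65,77]),
 ([],370,[65,74,79,67])] [])
 (CT.cons 53 (CT.leaf [1,1] [([],340,[]),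
 ([],300,[])] [])
 (CT.cons 52 (CT.leaf [1] [([],339,[]),
 ([],335,[78,66,74,82])] [])
 (CT.cons 51 (CT.leaf [2] [([],338,[]),
 ([],338,[3,68,81,80,72])] [97,94,93])
 (CT.cons 16 (CT.leaf [70,70,64,5] [([],337,[80,66,73,71]),
 ([],318,[75,73,76,78])] [])
 (CT.cons 2 (CT.leaf [65,4,5] [([],336,[80,67,76]),
 ([],320,[75,73,68,65])] [])
 (CT.cons 0 (CT.leaf [] [([],335,[]),
 ([],339,[81,73,67,77])] [])
 CT.nil)))))))))))))))))

theorem pJ_T3_ok : ctB nets tb B Lc civ L0 al xF 390 pJ_S (mapL (·.1) pJ_Y) 3 pJ_T3 true Lv Lc [] = true := by decide +kernel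

noncomputable def pJ_T4 : CT := (CT.br [] [53,50,54,53,10,54,53,52,54,53,54,53,54] (CT.cons 554 (CT.leaf [69,64,74,68,1,91,91] [([],334,[3,64,77,64,68]),
 ([],388,[3,64,77,64,68])] [])
 (CT.cons 529 (CT.leaf [3,5,64,5] [([],333,[74,81,71,75]),
 ([],371,[69,76,80,70])] [])
 (CT.cons 500 (CT.leaf [65,71,65,77,87,1,91] [([],332,[69,76,65,70]),
 ([],353,[3,82,72,4])] [])
 (CT.cons 379 (CT.leaf [3,69,78,72,80,92,92,83] [([],331,[78,72,81,74]),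
 ([],344,[67,71,79,76])] [])
 (CT.cons 335 (CT.leaf [68,66,3,5,3,5] [([],330,[68,82,71,68]),
 ([100,18,20],330,[66,64,76,71])] [100,100,108])
 (CT.cons 189 (CT.leaf [68,78,80,65,92,82] [([],329,[65,69,71,4]),
 ([],357,[72,64,77,71])] [])
 (CT.cons 162 (CT.leaf [4,75,3,78,70,92,82] [([],328,[3,3,77,66,66]),
 ([],328,[3,78,66,64])] [100,103,19])
 (CT.cons 141 (CT.leaf [70,3,2,5] [([],327,[73,69,77,76]),
 ([],327,[4,82,74,76])] [100,105,107])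
 (CT.cons 91 (CT.leaf [70,3,1,5] [([],326,[76,74,75,78]),
 ([],351,[3,65,78,78,73])] [])
 (CT.cons 63 (CT.leaf [3,69,64,1,5] [([],325,[80,77,82,80]),
 ([],365,[3,64,3,77,77])] [])
 (CT.cons 53 (CT.leaf [1,1] [([],324,[]),
 ([],299,[])] [])
 (CT.cons 20 (CT.leaf [3,69,64,5] [([],323,[67,4,81]),
 ([],308,[64,75])] [])
 (CT.cons 19 (CT.leaf [4,4,5] [([],322,[3,66,3,76,72]),
 ([],316,[76,72,75,69])] [])
 (CT.cons 14 (CT.leaf [70,3,5] [([],321,[65,69,71,4]),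
 ([],301,[71,66,71])] [])
 (CT.cons 1 (CT.leaf [5] [([],320,[]),
 ([],336,[72,74,74])] [])
 (CT.cons 0 (CT.leaf [] [([],319,[]),
 ([],313,[65,68,78,71])] [])
 CT.nil)))))))))))))))))

theorem pJ_T4_ok : ctB nets tb B Lc civ L0 al xF 390 pJ_S (mapL (·.1) pJ_Y) 4 pJ_T4 true Lv Lc [] = true := by decide +kernel

noncomputable def pJ_T5 : CT := (CT.br [] [12,57,11,12,56,57,12,57,56,12] (CT.cons 1133 (CT.leaf [65,82,79,75,93,92,88] [([],380,[3,3,77,75,67]),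
 ([],367,[4,71,66,81,67])] [])
 (CT.cons 1076 (CT.leaf [3,66,79,82,5,94,91] [([],379,[64,76,66,76,80]),
 ([114,25],379,[4,77,68,79,82])] [114,25])
 (CT.cons 1048 (CT.leaf [4,65,68,76,78,2,87,92,93] [([],378,[73,4,66,74]),
 ([],350,[4,66,68,71])] [])
 (CT.cons 900 (CT.leaf [73,73,66,1,87,73,87] [([],377,[66,76,73,70]),
 ([],343,[68,77,75,70])] [])
 (CT.cons 808 (CT.leaf [3,73,68,81,3,5,87,85] [([],376,[67,77,76,77]),
 ([],347,[65,73,4,75,70])] [])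
 (CT.cons 759 (CT.leaf [74,72,75,3,1,87,73,87] [([],375,[3,66,80,81,77]),
 ([],374,[69,78,69,73])] [])
 (CT.cons 733 (CT.leaf [81,80,4,68,5,87,77] [([],374,[71,79,70,4]),
 ([],375,[80,64,76,76])] [])
 (CT.cons 587 (CT.leaf [3,64,74,77,5,87,77] [([],373,[76,70,4,64]),
 ([],372,[3,64,82,74,64])] [])
 (CT.cons 491 (CT.leaf [66,70,5,4,5] [([],372,[65,69,74,78]),
 ([],373,[68,74,76,80])] [])
 (CT.cons 472 (CT.leaf [5,4,5] [([],371,[]),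
 ([],333,[74,82,73,78])] [])
 (CT.cons 454 (CT.leaf [69,67,4,5,4,5] [([],370,[74,66,74]),
 ([],341,[71,81,3,68])] [])
 (CT.cons 444 (CT.leaf [4,69,5,64,5] [([],369,[3,67,74,4,82]),
 ([],312,[3,69,82,69,3])] [])
 (CT.cons 330 (CT.leaf [4,64,64,5,64,5] [([],368,[4,67,81,68,71]),
 ([],386,[68,4,78,82])] [])
 (CT.cons 283 (CT.leaf [65,70,5,64,5] [([],367,[4,78,70,66,66]),
 ([],380,[3,65,72,76,74])] [])
 (CT.cons 251 (CT.leaf [64,71,65,5,4,5] [([],366,[3,3,76,76]),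
 ([],346,[71,75,75])] [])
 (CT.cons 201 (CT.leaf [65,81,69,67,92,82] [([],365,[68,73,75,66]),
 ([],325,[69,79,72,81,75])] [])
 (CT.cons 196 (CT.leaf [71,72,75,82,92,82] [([],364,[3,82,69,77,79]),
 ([],387,[4,75,72,78])] [])
 (CT.cons 152 (CT.leaf [3,64,68,70,64,2,5] [([],363,[73,79,72,66]),
 ([],311,[68,3,73,68])] [])
 (CT.cons 148 (CT.leaf [68,4,2,5] [([],362,[3,66,72,77,82]),
 ([114,110],362,[3,66,69,64,71])] [114,110])
 (CT.cons 102 (CT.leaf [3,64,68,70,64,1,5] [([],361,[73,79,72,66]),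
 ([],361,[3,71,74,3,68])] [114,114])
 (CT.cons 93 (CT.leaf [70,64,1,5] [([],360,[79,81,77,4]),
 ([],383,[4,75,72,68,4])] [])
 (CT.cons 55 (CT.leaf [65,4,1,5] [([],359,[3,71,71,74,69]),
 ([],382,[3,71,71,74,69])] [])
 (CT.cons 53 (CT.leaf [1,1] [([],358,[]),
 ([],304,[])] [])
 (CT.cons 52 (CT.leaf [1] [([],357,[]),
 ([],329,[71,71,74,75])] [])
 (CT.cons 51 (CT.leaf [2] [([],356,[]),
 ([],356,[69,64,79,66])] [118,115])
 (CT.cons 48 (CT.leaf [69,71,65,5] [([],355,[3,71,81,73,65]),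
 ([],314,[71,81,69,3])] [])
 (CT.cons 21 (CT.leaf [4,5] [([],354,[]),
 ([111,23],354,[4,69,77,69,3])] [23,25,22])
 (CT.cons 18 (CT.leaf [70,64,5] [([],353,[67,65,80,64]),
 ([],332,[75,74,77,64])] [])
 (CT.cons 2 (CT.leaf [65,4,5] [([],352,[80,67,76]),
 ([116,23],352,[69,73,69,77])] [24,115,25])
 (CT.cons 0 (CT.leaf [] [([],351,[]),
 ([],326,[68,66,73,82])] [])
 CT.nil)))))))))))))))))))))))))))))))

theorem pJ_T5_ok : ctB nets tb B Lc civ L0 al xF 390 pJ_S (mapL (·.1) pJ_Y) 5 pJ_T5 true Lv Lc [] = true := by decide +kernel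

noncomputable def pJ_T6 : CT := (CT.br [] [13,60,14,64,60,61,62,63,13,60,62,61,13] (CT.cons 62 (CT.leaf [4,4,1,5] [([],304,[64,79,82,65]),
 ([],358,[64,79,82,65])] [])
 (CT.cons 53 (CT.leaf [1,1] [([],303,[]),
 ([],295,[])] [])
 (CT.cons 52 (CT.leaf [1] [([],302,[]),
 ([],310,[3,75,71,74,72])] [])
 (CT.cons 9 (CT.leaf [3,5] [([],301,[]),
 ([],321,[69,76,67,76])] [])
 CT.nil)))))

theorem pJ_T6_ok : ctB nets tb B Lc civ L0 al xF 390 pJ_S (mapL (·.1) pJ_Y) 6 pJ_T6 true Lv Lc [] = true := by decide +kernel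

noncomputable def pJ_T7 : CT := (CT.br [] [66,69,15,16,67,69,66,68,15,69,16] (CT.cons 181 (CT.leaf [3,74,4,76,74,91,68] [([],389,[75,70,69,4]),
 ([],389,[4,64,79,67,70])] [30,139,132,30])
 (CT.cons 53 (CT.leaf [1,1] [([],388,[]),
 ([],334,[])] [])
 (CT.cons 38 (CT.leaf [4,68,65,5] [([],387,[64,80,75,65]),
 ([],364,[3,67,67,80,78])] [])
 (CT.cons 37 (CT.leaf [65,67,4,5] [([],386,[70,66,68,71]),
 ([],368,[78,80,75,4])] [])
 (CT.cons 12 (CT.leaf [72,3,5] [([],385,[3,70,81,72,4]),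
 ([],348,[68,67,78,71])] [])
 (CT.cons 6 (CT.leaf [66,70,76,3,5] [([],384,[3,65,4,75,79]),
 ([137,32,30],384,[65,76,65,78])] [135,31,31])
 (CT.cons 0 (CT.leaf [] [([],383,[]),
 ([],360,[3,67,77,67,79])] [])
 CT.nil))))))))

theorem pJ_T7_ok : ctB nets tb B Lc civ L0 al xF 390 pJ_S (mapL (·.1) pJ_Y) 7 pJ_T7 true Lv Lc [] = true := by decide +kernel

noncomputable def pJ_T8 : CT := (CT.br [] [18,74,70,18,71,74,18,70,73,74,18,70,74,18,18] (CT.cons 53 (CT.leaf [1,1] [([],382,[]),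
 ([],359,[])] [])
 (CT.cons 21 (CT.leaf [4,5] [([],381,[]),
 ([140,140],381,[71,75,77,75])] [146,36,141,35])
 CT.nil)))

theorem pJ_T8_ok : ctB nets tb B Lc civ L0 al xF 390 pJ_S (mapL (·.1) pJ_Y) 8 pJ_T8 true Lv Lc [] = true := by decide +kernel

noncomputable def pJ_T : ℕ → CT := nth CT.nil [pJ_T0,
 pJ_T1,
 pJ_T2,
 pJ_T3,
 pJ_T4,
 pJ_T5,
 pJ_T6,
 pJ_T7,
 pJ_T8]

theorem pJ_T_ok : ∀ k < 9, ctB nets tb B Lc civ L0 al xF 390 pJ_S (mapL (·.1) pJ_Y) k (pJ_T k) true Lv Lc [] = true := by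
  intro k hk
  interval_cases k
  exacts [pJ_T0_ok, pJ_T1_ok, pJ_T2_ok, pJ_T3_ok, pJ_T4_ok, pJ_T5_ok, pJ_T6_ok, pJ_T7_ok, pJ_T8_ok]

end Cfsg.Lib.Comp.HNn
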