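import Cfsg.Agent.Lib.Comp.HNn.Tz1

set_option maxRecDepth 100000
set_option Elab.async false

namespace Cfsg.Lib.Comp.HNn

universe u

noncomputable def pz_T6 : CT := (CT.br [] [13,60,14,64,60,61,62,63,13,60,62,61,13] (CT.cons 62 (CT.br [4,4,1,5] [271,272,270,271,272,270,271] (CT.cons 52 (CT.leaf [4,4,1,5] [([],304,[64,79,82,65]),
 ([],355,[67,65,65]),
 ([],310,[3,68,82,68,80])] [127,29,27])
 (CT.cons 784 (CT.leaf [4,4,1,5,4] [([],304,[3,78,78,79]),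
 ([115,24],353,[81,74,71,71]),
 ([],321,[4,75,4,78])] [121,123,127,122,29])
 (CT.cons 569 (CT.leaf [64,66,69,4,88,75] [([],304,[3,68,65,80,77]),
 ([114],354,[75,64,73,80]),
 ([],358,[71,72,80,69])] [122,128,128,125])
 (CT.cons 625 (CT.leaf [66,76,82,3,2,91,3] [([],304,[4,68,3,71]),
 ([],352,[3,77,64,66,72]),
 ([],358,[66,66,68,78])] [28,121,123,29])
 (CT.cons 512 (CT.leaf [73,81,64,72,93,69] [([],304,[69,80,78,3]),
 ([22],357,[4,65,74,65,76]),
 ([104],321,[64,64,70,69,3])] [121,124,128,124,29])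
 CT.nil))))))
 (CT.cons 53 (CT.br [1,1] [266,267,268,269,266,268,269,266] (CT.cons 154 (CT.leaf [1,1] [([],303,[]),
 ([],292,[]),
 ([],295,[])] [128,26,128,26,128,26])
 (CT.cons 164 (CT.leaf [4,1,1] [([],303,[4]),
 ([78,70,6],299,[72,75,75,64]),
 ([102],321,[80,69,71])] [29,26,129,123,126,26])
 (CT.cons 155 (CT.leaf [65,4,1,1] [([],303,[65,4]),
 ([9,78,6],298,[78,65,65,69]),
 ([],310,[3,67,69,76,81])] [29,126,123,120,27])
 CT.nil))))
 (CT.cons 52 (CT.br [1] [262,264,265,262,264,265,262,264,264] (CT.cons 54 (CT.leaf [1] [([],302,[]),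
 ([],305,[]),
 ([],310,[80,3,81])] [123,126,123,128,28])
 (CT.cons 69 (CT.leaf [65,1] [([],302,[4]),
 ([87,81],314,[66,69,70,66]),
 ([],358,[3,70,81,64,69])] [126,123,129,123,124])
 (CT.cons 55 (CT.leaf [4,65,1] [([],302,[65,4]),
 ([84],317,[71,71,77,81]),
 ([75,7],295,[74,68,76,82])] [125,128,123,126,121])
 CT.nil))))
 (CT.cons 9 (CT.br [3,5] [260,261,259,261,260,259,260,259] (CT.cons 0 (CT.leaf [3,5] [([],301,[]),
 ([],324,[75,64,78,73]),
 ([78,74],295,[3,66,72,66,81])] [129,27,123])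
 (CT.cons 206 (CT.leaf [3,5,3] [([],301,[3]),
 ([],332,[68,4,74,76]),
 ([],358,[3,64,66,73])] [27,127,27,126,26])
 (CT.cons 493 (CT.leaf [3,5,65] [([],301,[65]),
 ([100],327,[4,71,74,77,70]),
 ([100],321,[3,80,76,4,71])] [126,29,26,126,27])
 (CT.cons 529 (CT.leaf [3,5,64] [([],301,[64]),
 ([],330,[4,67,65,77,82]),
 ([],321,[73,75,75,70])] [125,126,29,128,125])
 (CT.cons 632 (CT.leaf [3,72,73,77,66,2,87,73] [([],301,[66,70,76,3]),
 ([104],329,[3,79,4,80]),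
 ([22],358,[3,69,70,76,81])] [121,27,129,125,120])
 CT.nil))))))
 CT.nil)))))

theorem pz_T6_ok : ctB nets tb B Lc civ L0 al xF 390 pz_S (mapL (·.1) pz_Y) 6 pz_T6 true Lv Lc [] = true := by decide +kernel

noncomputable def pz_T7_0 : CT := (CT.br [3,74,4,76,74,91,68] [282,283] (CT.cons 492 (CT.leaf [3,74,4,76,74,91,68] [([],389,[75,70,69,4]),
 ([30,130],388,[3,65,73,72,79]),
 ([108,104],334,[67,73,69,75])] [33,30,30])
 (CT.cons 477 (CT.leaf [64,76,74,80,1,87,68] [([],389,[73,64,77,70]),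
 ([136,139],385,[3,67,73,78,73]),
 ([15,95],348,[3,69,70,66,79])] [138,137,132])
 (CT.cons 530 (CT.leaf [65,65,76,69,91,69] [([],389,[75,70,69]),
 ([32],388,[3,67,81,65]),
 ([18,100,100],334,[4,67,82,77,77])] [33,31,131])
 (CT.cons 585 (CT.leaf [3,71,80,72,75,1,93] [([],389,[64,82,77,64]),
 ([138,33],388,[72,65,79,82]),
 ([19,102],334,[3,65,74,79,70])] [136,130])
 (CT.cons 531 (CT.leaf [64,76,69,91,69] [([],389,[81,66,71,76]),
 ([137,131,30],387,[70,75,82,65]),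
 ([115,22,22],368,[3,64,3,66])] [131,139,132])
 (CT.cons 705 (CT.leaf [3,71,80,72,75,1,93,4] [([],389,[80,82,74,67]),
 ([30,33,30],388,[3,64,78,3,64]),
 ([106,106,18],334,[3,72,81,64,78])] [32,137,30])
 (CT.cons 290 (CT.leaf [71,76,76,3,1,87,68] [([],389,[75,70,69,3]),
 ([132,134,30],386,[75,80,67,80]),
 ([117,22],364,[64,68,72,65])] [32,139,31])
 (CT.cons 359 (CT.leaf [78,73,4,78,91,68] [([],389,[73,73,72,65]),
 ([31,135],389,[4,73,75,67,68]),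
 ([31,135],389,[3,70,64,76])] [30,139,135])
 (CT.cons 346 (CT.leaf [3,3,67,75,80,1,87,68] [([],389,[3,81,3,76,3]),
 ([131,33],387,[71,71,3,67]),
 ([118,24],368,[76,78,79,78])] [33,136])
 (CT.cons 383 (CT.leaf [3,81,76,77,65,1,94] [([],389,[64,79,81,73]),
 ([139,132,30],386,[80,73,77,69]),
 ([24,114],364,[64,3,74,75,82])] [135,33,139,30])
 (CT.cons 445 (CT.leaf [3,65,81,74,81,1,87] [([],389,[78,82,72,79]),
 ([136,139],384,[78,73,70,82]),
 ([137,132],384,[78,76,80,78])] [130])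
 (CT.cons 711 (CT.leaf [3,82,79,67,71,1,93,4] [([],389,[71,82,71,75]),
 ([135,136,30],383,[4,72,79,66,78]),
 ([117,25,22],368,[65,74,64,78])] [134,30])
 (CT.cons 438 (CT.leaf [3,74,4,76,74,91,3] [([],389,[76,76,81,79]),
 ([137,132,32],389,[4,81,76,3]),
 ([137,132,32],389,[66,70,80,80])] [137,132,32])
 (CT.cons 244 (CT.leaf [77,73,70,73,87,2] [([],389,[3,64,74,68,73]),
 ([32,32,30],385,[3,74,80,70]),
 ([97,93,14],348,[65,71,64,70])] [33,134,30])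
 (CT.cons 752 (CT.leaf [80,80,64,77,1,93,4] [([],389,[65,75,72,74]),
 ([139,32],383,[66,72,74,80]),
 ([114,110],360,[4,65,70,3,71])] [33,138])
 (CT.cons 395 (CT.leaf [66,80,77,79,91,82] [([],389,[4,73,71,77,70]),
 ([136,136],388,[3,3,73,67,65]),
 ([107,101,18,18],334,[3,69,72,4])] [138,30,130])
 (CT.cons 384 (CT.leaf [76,3,70,66,87,2] [([],389,[3,79,82,80]),
 ([31,131,30],386,[67,71,76,67]),
 ([116,23],360,[4,81,66,80])] [138,33,132])
 (CT.cons 449 (CT.leaf [3,64,74,81,70,91,89] [([],389,[64,3,65,78]),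
 ([134,31,32],385,[4,74,82,77,76]),
 ([96,91,16],348,[4,69,81,76,72])] [137,33])
 (CT.cons 53 (CT.leaf [3,79,78,3,68,92,82] [([],389,[64,75,64,78,68]),
 ([130,31,31],387,[64,71,64,69]),
 ([116],360,[3,76,68,81,76])] [31,132,30])
 (CT.cons 453 (CT.leaf [79,67,68,76,92] [([],389,[3,72,73,72,68]),
 ([],383,[4,69,70,77,81]),
 ([117],364,[3,64,74,76,69])] [136,135,136,30])
 CT.nil)))))))))))))))))))))

noncomputable def pz_T7_1 : CT := (CT.br [1,1] [280,281] (CT.cons 154 (CT.leaf [1,1] [([],388,[]),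
 ([106,19],331,[67,68,73,79,82]),
 ([90,94,14],348,[67,75,75,75])] [33,134])
 (CT.cons 164 (CT.leaf [4,1,1] [([],388,[4]),
 ([21,18],332,[4,77,70,78]),
 ([115,22,22],368,[67,68,4,70])] [138,130,30])
 (CT.cons 184 (CT.leaf [3,1,1] [([],388,[3]),
 ([103,18],334,[72,80,71,77]),
 ([32,139],389,[65,73,75,65])] [31,130,32])
 (CT.cons 169 (CT.leaf [65,1,1] [([],388,[65]),
 ([105],331,[4,67,75,77]),
 ([15],348,[79,74,78,81])] [135,132,32])
 (CT.cons 185 (CT.leaf [64,1,1] [([],388,[64]),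
 ([105,109],334,[64,79,73,73]),
 ([131,31],389,[64,74,3,77])] [138,132,33])
 (CT.cons 162 (CT.leaf [4,4,1,1] [([],388,[4,4]),
 ([101,106,21],333,[76,72,76]),
 ([25,115],364,[3,64,64,79,82])] [30,138,130])
 (CT.cons 155 (CT.leaf [65,4,1,1] [([],388,[65,4]),
 ([18,100,100],334,[82,74,81]),
 ([31,32,31],389,[65,71])] [33,134,33])
 (CT.cons 175 (CT.leaf [67,4,1,1] [([],388,[67,4]),
 ([106,104,20],330,[3,65,73,64,77]),
 ([19,101,104],334,[72,78,64,72])] [132,31,32])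
 (CT.cons 176 (CT.leaf [66,3,1,1] [([],388,[66,3]),
 ([100,21],332,[72,3,79,4]),
 ([116,110],368,[76,4,72,3])] [136,33,30])
 (CT.cons 179 (CT.leaf [3,3,3,1,1] [([],388,[3,3,3]),
 ([109,101],334,[4,73,81,71,67]),
 ([32,137,30],389,[3,74,78,65,78])] [33,131,31])
 (CT.cons 187 (CT.leaf [72,3,1,1] [([],388,[72,3]),
 ([104,19],320,[69,71,68,80]),
 ([],348,[66,76,82,73])] [30,139,132,30])
 (CT.cons 157 (CT.leaf [3,67,4,1,1] [([],388,[3,67,4]),
 ([100],330,[69,4,80,78]),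
 ([102,108,19],334,[4,68,71,76])] [132,31,132])
 (CT.cons 165 (CT.leaf [72,4,1,1] [([],388,[72,4]),
 ([102,18],334,[78,72,77,3]),
 ([139,135],384,[74,78,72,64])] [136,131,132])
 (CT.cons 170 (CT.leaf [72,65,1,1] [([],388,[72,65]),
 ([106,21],325,[3,82,64,75]),
 ([117,24,23],368,[3,69,72,81,81])] [137,132,130])
 (CT.cons 195 (CT.leaf [3,70,3,1,1] [([],388,[3,70,3]),
 ([107,101,18,18],334,[79,74,79,75]),
 ([136,136],389,[64,66,73,64])] [138,30,130])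
 (CT.cons 177 (CT.leaf [68,67,4,1,1] [([],388,[68,67,4]),
 ([106,102,101],332,[67,75,72,79]),
 ([117,110,22],360,[77,73,79,82])] [139,31])
 (CT.cons 168 (CT.leaf [70,4,1,1] [([],388,[70,4]),
 ([100,103],332,[3,68,70,70,75]),
 ([116,25],360,[65,80,82,65])] [31,136,31])
 (CT.cons 202 (CT.leaf [72,68,4,1,1] [([],388,[72,68,4]),
 ([108,106,18],332,[3,82,65,77]),
 ([22,24],364,[64,71,74,3])] [131,136,32])
 (CT.cons 171 (CT.leaf [69,64,1,1] [([],388,[69,64]),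
 ([102],327,[3,79,77,4]),
 ([109,107],334,[69,64])] [32,32,30])
 (CT.cons 181 (CT.leaf [4,68,65,1,1] [([],388,[4,68,65]),
 ([104,19],326,[4,78,67,67,4]),
 ([114],364,[3,69,70,73,76])] [30,139,132,30])
 CT.nil)))))))))))))))))))))

noncomputable def pz_T7_2 : CT := (CT.br [4,68,65,5] [278,279] (CT.cons 0 (CT.leaf [4,68,65,5] [([],387,[64,80,75,65]),
 ([],351,[4,73,79,3,78]),
 ([104,100],334,[4,68,65])] [])
 (CT.cons 396 (CT.leaf [4,68,65,5,4] [([],387,[66,74,78,72]),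
 ([24,22],362,[67,79,72,75]),
 ([25],364,[67,71,77,82])] [136,134,32])
 (CT.cons 381 (CT.leaf [4,68,65,5,3] [([],387,[3,82,78,64,74]),
 ([111,115,22],366,[68,3,80,74]),
 ([94,17],348,[66,82,3,78])] [131,132])
 (CT.cons 400 (CT.leaf [4,68,65,5,65] [([],387,[3,73,73,70,79]),
 ([23,117],366,[72,3,80,80]),
 ([16,95,91],348,[64,78,75,73,71])] [30,32,135])
 (CT.cons 409 (CT.leaf [4,68,65,5,64] [([],387,[64,80,75]),
 ([114,22,24],380,[68,3,64,81]),
 ([117,22,22],368,[4,75,73,78,72])] [139,137,33])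
 (CT.cons 333 (CT.leaf [4,68,65,5,4,4] [([],387,[3,73,75,77]),
 ([114,111,22],368,[65,80,67,75]),
 ([138,33,30],389,[73,77,79,65])] [32,130])
 (CT.cons 627 (CT.leaf [4,75,64,79,4,2,87,73] [([],387,[69,66,75,74]),
 ([111,23],374,[68,71,79,67]),
 ([115],360,[80,4,67,82])] [138,132])
 (CT.cons 393 (CT.leaf [3,82,4,66,77,2,88,67] [([],387,[66,69,72,75]),
 ([114],371,[3,65,4,80,3]),
 ([104,104,101],334,[79,71,78,64])] [32,134,138])
 (CT.cons 229 (CT.leaf [4,68,4,64,5,3] [([],387,[76,79,70,67]),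
 ([],370,[70,66,70,3]),
 ([90,94],348,[75,67,72,77])] [31,139,33])
 (CT.cons 355 (CT.leaf [4,68,65,72,5,3] [([],387,[65,79,81,76]),
 ([117],360,[80,3,71,81]),
 ([136,136],384,[64,64,68,65])] [32,32,30])
 (CT.cons 724 (CT.leaf [66,79,68,2,87,73] [([],387,[3,78,79,75]),
 ([114,25],375,[76,69,67,79]),
 ([118],360,[64,77,77,64])] [135,137,31])
 (CT.cons 271 (CT.leaf [4,68,65,72,5,65] [([],387,[65,72,66,78]),
 ([24,115,24],368,[67,82,67,74]),
 ([134,33,31],389,[65,78,72,73])] [135,137,32])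
 (CT.cons 487 (CT.leaf [3,70,74,80,1,1,91] [([],387,[65,75,80,81]),
 ([23,25],362,[3,65,73,81,77]),
 ([112,117,22],364,[80,71,73,4])] [136,33,135])
 (CT.cons 443 (CT.leaf [4,68,65,71,5,3] [([],387,[81,78,73]),
 ([116],360,[80,70,74,69]),
 ([],389,[3,74,78,66,73])] [139,31,33])
 (CT.cons 253 (CT.leaf [4,68,65,70,5,3] [([],387,[70,81,3,69]),
 ([110,25],380,[81,81,78,74]),
 ([116,23],360,[3,72,75,79])] [32,139])
 (CT.cons 337 (CT.leaf [4,68,65,70,5,4] [([],387,[69,70,75,73]),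
 ([114,116,23],367,[3,71,79,66,70]),
 ([112,25],368,[82,74,67,82])] [131])
 (CT.cons 782 (CT.leaf [79,72,66,66,2,87,73] [([],387,[72,80,76,69]),
 ([25,23],353,[3,76,4,73]),
 ([102,106,18],334,[64,75,74,79])] [31,131,33])
 (CT.cons 347 (CT.leaf [4,68,65,71,5,65] [([],387,[4,74,77,4,80]),
 ([111,22],367,[3,65,76,68]),
 ([111],360,[4,64,76,79,82])] [30,33,30])
 (CT.cons 731 (CT.leaf [82,67,76,74,2,87,73] [([],387,[78,71,81]),
 ([25,112,23],379,[64,78,72,80]),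
 ([25,117,23],368,[64,70,77,69,71])] [135,32,30])
 (CT.cons 385 (CT.leaf [3,65,74,4,5,65] [([],387,[74,4,68]),
 ([25],372,[3,67,82,70,74]),
 ([24],360,[4,82,76,64])] [138,30,130])
 CT.nil)))))))))))))))))))))

noncomputable def pz_T7_3 : CT := (CT.br [65,67,4,5] [277] (CT.cons 0 (CT.leaf [65,67,4,5] [([],386,[70,66,68,71]),
 ([],353,[78,70,70,77]),
 ([105,102],334,[65,67,4])] [])
 (CT.cons 332 (CT.leaf [65,67,4,5,4] [([],386,[65,70,73,75]),
 ([110,25,22],379,[4,72,81,69]),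
 ([22],364,[66,81,75,66])] [32,30,132])
 (CT.cons 319 (CT.leaf [65,67,4,5,3] [([],386,[74,65,67]),
 ([117,22],364,[73,76,78,81]),
 ([137,131,30],389,[4,66,64,69])] [134,31,32])
 (CT.cons 230 (CT.leaf [65,67,4,5,65] [([],386,[68,68,77,70]),
 ([117,112],366,[3,66,70,77,69]),
 ([92,92,14],348,[76,64,73,66])] [32,137,138])
 (CT.cons 290 (CT.leaf [65,67,4,5,64] [([],386,[4,81,4,82,70]),
 ([116,116,22],367,[79,72,80,74]),
 ([118,22],364,[64,66,75,70])] [136,136,33,30])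
 (CT.cons 339 (CT.leaf [4,72,69,80,2,88,67] [([],386,[74,65,4,64]),
 ([112,24],353,[80,68,67,72]),
 ([18,106,18,18],334,[71,67,77,72])] [31,130])
 (CT.cons 275 (CT.leaf [69,75,77,5,4] [([],386,[66,66,81,69]),
 ([25],354,[82,82,3,66]),
 ([111,25],360,[74,67,68,75])] [31,130,138])
 (CT.cons 359 (CT.leaf [68,74,81,5,3] [([],386,[3,76,80,81,72]),
 ([116,23],360,[72,66,75,78]),
 ([135,137,30],389,[75,4,66])] [30,139,135])
 (CT.cons 456 (CT.leaf [4,73,80,3,74,1,1,91] [([],386,[66,71,74,82]),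
 ([24,115,24],378,[72,68,79,82]),
 ([15,91],348,[3,79,4,74,77])] [30,33,135])
 (CT.cons 446 (CT.leaf [3,73,77,5,3] [([],386,[3,65,69,70,75]),
 ([22],367,[3,75,67,79,75]),
 ([22,110],368,[4,79,74,78])] [30,32,135])
 (CT.cons 781 (CT.leaf [3,71,74,65,73,2,87,73] [([],386,[69,78,68,80]),
 ([115,117],374,[4,64,3,71]),
 ([118,110],368,[75,77,79,3])] [138,137,132])
 (CT.cons 401 (CT.leaf [3,73,77,5,4] [([],386,[3,68,67,81,67]),
 ([24,114],364,[65,72,4,68]),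
 ([30,132],389,[64,3,71,76,70])] [32,136,32])
 (CT.cons 435 (CT.leaf [3,73,77,5,65] [([],386,[78,64,80]),
 ([110],368,[67,78,65,70]),
 ([30,131,30],384,[65,73,64,68])] [139,135,130])
 (CT.cons 490 (CT.leaf [73,81,1,1,91] [([],386,[3,75,3,78,70]),
 ([112,117],367,[72,66,70,73]),
 ([112,111,22],368,[72,79,70,3])] [30])
 (CT.cons 406 (CT.leaf [65,67,4,71,5,3] [([],386,[80,66,78,82]),
 ([22,25],366,[64,3,77,80]),
 ([92,14],348,[66,68,80,3])] [30,130,31])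
 (CT.cons 444 (CT.leaf [65,67,4,69,5,3] [([],386,[71,79,71,78]),
 ([23,117],378,[4,70,64,76]),
 ([97,93,15],348,[74,77,82,64])] [131,139,32])
 (CT.cons 402 (CT.leaf [65,67,4,68,5,4] [([],386,[76,73,71,66]),
 ([115,24,22],366,[69,72,79,72]),
 ([96,99],348,[4,79,74,70])] [132,30,32])
 (CT.cons 268 (CT.leaf [3,82,76,70,75,2,94,82] [([],386,[4,79,65,4]),
 ([114,22],376,[74,69,79]),
 ([95,14],348,[3,67,75,69,71])] [137,139])
 (CT.cons 351 (CT.leaf [3,65,78,66,5,3] [([],386,[76,65,65,69]),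
 ([111,23],380,[64,70,74]),
 ([23],368,[3,76,80,76])] [134,33,31])
 (CT.cons 411 (CT.leaf [74,4,67,74,5,4] [([],386,[3,66,72,80,73]),
 ([],365,[68,81,3,80]),
 ([],334,[73,73,68,79])] [139,132])
 (CT.cons 542 (CT.leaf [4,67,71,76,80,5,4] [([],386,[65,70,80,3,73]),
 ([24],352,[74,64,69,65]),
 ([118,115],368,[64,70,78,66])] [134,33,30])
 (CT.cons 340 (CT.leaf [65,67,4,71,5,4] [([],386,[80,73,70,72]),
 ([23,24],375,[3,68,67,79]),
 ([117,22,22],368,[3,77,80,75,73])] [136,136,131])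
 (CT.cons 442 (CT.leaf [65,67,4,70,5,65] [([],386,[64,77,4,77]),
 ([118,110,23],380,[76,73,77,73]),
 ([116,114],368,[3,67,68,76,69])] [33,136,134])
 (CT.cons 384 (CT.leaf [3,67,67,65,81,5,4] [([],386,[66,64,73,73]),
 ([],379,[72,68,81,67]),
 ([114,22],360,[64,74,76,82])] [32,134,138])
 (CT.cons 450 (CT.leaf [65,67,4,70,5,4] [([],386,[70,66,68,4]),
 ([111],368,[3,65,73,72,4]),
 ([136,32],384,[68,76,68,72])] [132,130,32])
 (CT.cons 358 (CT.leaf [65,67,4,71,5,65] [([],386,[65,71,76,69]),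
 ([111,115,22],379,[68,73,73,77]),
 ([117],360,[3,70,70,76,76])] [33,30,130])
 (CT.cons 348 (CT.leaf [3,67,67,65,81,5,65] [([],386,[65,67,79,64]),
 ([114,22],377,[64,76,74,65]),
 ([94,90],348,[3,64,77,79,66])] [134,31,33])
 (CT.cons 487 (CT.leaf [81,75,79,1,1,91] [([],386,[64,71,73,70]),
 ([116,111],380,[66,71,79,67]),
 ([114],364,[4,69,79,73])] [30,30,137])
 (CT.cons 471 (CT.leaf [66,78,76,76,5,65] [([],386,[4,67,4,72]),
 ([25,118],378,[76,68,82,4]),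
 ([94,15],348,[64,64,81,79])] [30,137,130])
 (CT.cons 727 (CT.leaf [68,70,4,73,2,93,69] [([],386,[3,74,70,4,73]),
 ([116,24],370,[3,3,70,76,69]),
 ([15,97,16],348,[76,66,75,70])] [31,135])
 CT.nil)))))))))))))))))))))))))))))))

noncomputable def pz_T7_4 : CT := (CT.br [72,3,5] [276] (CT.cons 0 (CT.leaf [72,3,5] [([],385,[3,70,81,72,4]),
 ([],336,[67,68,64,70]),
 ([106,21],334,[72,3])] [])
 (CT.cons 462 (CT.leaf [72,3,5,4] [([],385,[64,70,65,67,78]),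
 ([97],342,[68,4,65,76]),
 ([97,94],348,[3,68,68,4,69])] [137,135])
 (CT.cons 206 (CT.leaf [72,3,5,3] [([],385,[3,70,81,72]),
 ([16,16,15],346,[75,72,82,75]),
 ([114,114],364,[71,68,79,69])] [139,131,30,30])
 (CT.cons 496 (CT.leaf [72,3,5,65] [([],385,[70,4,74,66]),
 ([96,93],342,[3,82,79,4]),
 ([96,90],348,[69,73,67,4])] [134,136])
 (CT.cons 529 (CT.leaf [72,3,5,64] [([],385,[70,72,75,79]),
 ([96,99],346,[77,3,74,75]),
 ([],364,[79,71,4,64])] [33,30,130,30])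
 (CT.cons 268 (CT.leaf [72,3,5,4,4] [([],385,[80,76,68,80]),
 ([99,93],345,[75,80,76,67]),
 ([95,95,15],348,[4,73,77,69,78])] [137,139])
 (CT.cons 793 (CT.leaf [68,74,71,68,2,87,73] [([],385,[64,71,3,81,72]),
 ([93],341,[69,67,82,69]),
 ([25],364,[79,64,78,65])] [136,139,32])
 (CT.cons 258 (CT.leaf [69,74,81,77,2,88,67] [([],385,[64,3,77,67]),
 ([99,93],348,[67,80,70,3]),
 ([139,131],384,[3,79,81,80,64])] [136,139,139])
 (CT.cons 537 (CT.leaf [72,3,67,5,4] [([],385,[3,64,64,69,67]),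
 ([90,90,15],350,[80,70,76,71]),
 ([22,117],368,[3,74,64,74,69])] [134,31,32])
 (CT.cons 358 (CT.leaf [72,3,66,5,3] [([],385,[4,78,70,73]),
 ([97,95,15],350,[74,72,67,65]),
 ([115,117],360,[64,68,67,82,75])] [138,32,32])
 (CT.cons 228 (CT.leaf [74,75,65,67,1,1,91] [([],385,[71,67,74,72]),
 ([98,97],346,[72,73,79,3]),
 ([116,116,22],368,[75,75,78,4])] [139,33,30])
 (CT.cons 425 (CT.leaf [72,3,72,5,3] [([],385,[81,78,68,64]),
 ([96,14],350,[75,69,81,72]),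
 ([114,23],360,[65,75,81,64])] [136,33,30])
 (CT.cons 828 (CT.leaf [4,4,78,81,71,2,87,73] [([],385,[4,67,78,66]),
 ([14],344,[77,80,75,4]),
 ([104],334,[64,71,73,3])] [139,135,32])
 (CT.cons 294 (CT.leaf [72,3,72,5,4] [([],385,[70,76,68]),
 ([90,14],350,[66,64,64,70]),
 ([24,114,25],368,[67,74,3,79])] [32,135,30])
 (CT.cons 345 (CT.leaf [72,3,72,5,65] [([],385,[4,64,73,80]),
 ([17,95],348,[64,70,72,76,66]),
 ([139,30],384,[78,71,77,64])] [131,136,30])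
 (CT.cons 392 (CT.leaf [3,70,75,70,77,1,1,91] [([],385,[70,4,74,4]),
 ([14,95],350,[4,72,66]),
 ([118,24],368,[73,67,80,64])] [131,136,31])
 (CT.cons 250 (CT.leaf [72,3,71,5,3] [([],385,[4,64,79,69,80]),
 ([17],345,[69,71,71,82]),
 ([92,91,15],348,[66,73,76,69])] [137,132,30,30])
 (CT.cons 340 (CT.leaf [70,74,69,5,4] [([],385,[82,70,67]),
 ([98,96],346,[3,70,72,82,3]),
 ([110,22,22],368,[67,4,75,69])] [136,136,131])
 (CT.cons 319 (CT.leaf [65,76,3,80,5,4] [([],385,[74,82,79,72]),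
 ([96,91,16],348,[64,74,69]),
 ([137,33],389,[69,66,76,74])] [134,31,32])
 (CT.cons 721 (CT.leaf [3,69,64,72,68,2,87,73] [([],385,[71,82,3,81]),
 ([96,15],344,[3,64,79,76,65]),
 ([104,106],334,[3,71,3,78,66])] [137,132,30])
 (CT.cons 508 (CT.leaf [72,78,81,67,2,88,67] [([],385,[4,67,80,68]),
 ([90,15],347,[64,66,3,68]),
 ([24,22],368,[75,80,67,80])] [130,132])
 (CT.cons 375 (CT.leaf [72,3,71,5,65] [([],385,[3,73,68,70,79]),
 ([97,93,14],348,[4,76,82,69]),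
 ([32,32,30],389,[71,67,82,72])] [32,132,32,30])
 (CT.cons 322 (CT.leaf [72,3,68,5,65] [([],385,[71,74,76,77]),
 ([15,95],348,[66,71,74,68]),
 ([130],389,[4,82,67,82,72])] [32,30,132])
 (CT.cons 234 (CT.leaf [72,3,67,67,5,4] [([],385,[75,71,65,78]),
 ([91,97,14],345,[65,77,74,82]),
 ([92,14],348,[3,68,71,71,74])] [130,30,130])
 (CT.cons 518 (CT.leaf [68,66,74,4,5,65] [([],385,[3,68,72,80,76]),
 ([16,99,15],346,[70,69,3,80]),
 ([22,118],368,[78,69,75,71])] [130,138,32])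
 (CT.cons 484 (CT.leaf [72,3,70,5,64] [([],385,[70,65,72,73]),
 ([90,17],347,[69,78,65,80]),
 ([115,25],360,[64,70,73,64])] [138,32,134])
 (CT.cons 389 (CT.leaf [67,74,82,71,1,1,91] [([],385,[3,64,78,75,3]),
 ([99,16,14],345,[72,79,75,78]),
 ([99,95],348,[65,78,76,65])] [33,137])
 (CT.cons 520 (CT.leaf [76,79,73,71,1,1,91] [([],385,[64,70,77,73]),
 ([92,92,14],345,[70,76,68,76]),
 ([16,91],348,[67,79,75,4])] [130,132])
 (CT.cons 711 (CT.leaf [65,76,78,80,5,79] [([],385,[73,66,71,77]),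
 ([96],341,[3,72,79,72,68]),
 ([114,116],368,[65,76,67,71,80])] [134,30])
 (CT.cons 638 (CT.leaf [68,74,4,78,2,87,73] [([],385,[79,73,77,81]),
 ([14,16],343,[71,72,65,74]),
 ([23,118],368,[3,3,80,69,72])] [135,30,32])
 CT.nil)))))))))))))))))))))))))))))))

noncomputable def pz_T7_6 : CT := (CT.br [] [273,274] (CT.cons 1 (CT.leaf [] [([],383,[]),
 ([117],378,[3,76,82,4]),
 ([14,14,14],348,[4,4,74,78,78])] [131,132,30])
 (CT.cons 21 (CT.leaf [4] [([],383,[4]),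
 ([118,24,22],379,[69,82,65,78]),
 ([117,110],368,[71,67,67,76])] [135,137,30])
 (CT.cons 9 (CT.leaf [3] [([],383,[3]),
 ([22,22],375,[3,67,69,76,82]),
 ([22,110],364,[69,71,74,4])] [33,138,33])
 (CT.cons 31 (CT.leaf [65] [([],383,[65]),
 ([24,111],378,[64,77,75,64]),
 ([15],348,[71,67,82,79])] [33,137,131])
 (CT.cons 10 (CT.leaf [64] [([],383,[64]),
 ([117,25,22],367,[3,81,4,71,68]),
 ([24,111],364,[4,68,77,81,64])] [138,132,33])
 (CT.cons 19 (CT.leaf [4,4] [([],383,[4,4]),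
 ([22,117],368,[64,71,75,64]),
 ([134,30],389,[69,3,68])] [30,138,130])
 (CT.cons 2 (CT.leaf [65,4] [([],383,[65,4]),
 ([118],374,[68,73,3,75]),
 ([24,115],364,[3,82,79,74])] [30,136,134])
 (CT.cons 27 (CT.leaf [67,4] [([],383,[67,4]),
 ([115,24],374,[74,71,73,77]),
 ([115,24],360,[81,68,82])] [139,33,136])
 (CT.cons 28 (CT.leaf [66,3] [([],383,[66,3]),
 ([111,24],379,[74,70,70]),
 ([117,24,23],368,[67,75,78,66])] [33,139,130,30])
 (CT.cons 36 (CT.leaf [3,3,3] [([],383,[3,3,3]),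
 ([110],380,[69,70,80,75]),
 ([23,110],364,[70,80,69])] [31,32,31])
 (CT.cons 12 (CT.leaf [72,3] [([],383,[72,3]),
 ([115],376,[3,70,79,71]),
 ([16,16,15],348,[3,64,68,67,76])] [30,130,30,30])
 (CT.cons 4 (CT.leaf [3,67,4] [([],383,[3,67,4]),
 ([111,23],375,[64,3,80,68,70]),
 ([25],360,[80,77,71,4])] [130,132,32])
 (CT.cons 22 (CT.leaf [72,4] [([],383,[72,4]),
 ([25,115,22],364,[70,72,4,73]),
 ([137,139],384,[68,3,76,77])] [139,135])
 (CT.cons 32 (CT.leaf [72,65] [([],383,[72,65]),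
 ([24,23],354,[80,73,70,75]),
 ([115,25],368,[3,71,80,78,69])] [33,136,31])
 (CT.cons 42 (CT.leaf [3,70,3] [([],383,[3,70,3]),
 ([25],373,[4,4,69,73,64]),
 ([24],364,[65,67,81])] [138,30,130])
 (CT.cons 29 (CT.leaf [68,67,4] [([],383,[68,67,4]),
 ([116,25],353,[80,70,3,69]),
 ([102,101],334,[3,77,81,66,82])] [30,137,30])
 (CT.cons 25 (CT.leaf [70,4] [([],383,[70,4]),
 ([117,24],353,[76,68,64,75]),
 ([104,100,18],334,[3,80,73,65,65])] [31,136,31])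
 (CT.cons 49 (CT.leaf [72,68,4] [([],383,[72,68,4]),
 ([114,110],360,[66,76,82,70]),
 ([33,138],389,[64,66,81,78])] [139,32])
 (CT.cons 33 (CT.leaf [69,64] [([],383,[69,64]),
 ([],356,[74,77,80,73]),
 ([22,117],360,[79,81,77,4])] [32,132,32,30])
 (CT.cons 38 (CT.leaf [4,68,65] [([],383,[4,68,65]),
 ([117],364,[71,73,81,64]),
 ([130,31,31],389,[4,4,71,66])] [30,139,30])
 CT.nil)))))))))))))))))))))

noncomputable def pz_T7 : CT := (CT.br [] [66,69,15,16,67,69,66,68,15,69,16] (CT.cons 181 pz_T7_0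
 (CT.cons 53 pz_T7_1
 (CT.cons 38 pz_T7_2
 (CT.cons 37 pz_T7_3
 (CT.cons 12 pz_T7_4
 (CT.cons 6 (CT.br [66,70,76,3,5] [275,275,275,275] (CT.cons 0 (CT.leaf [66,70,76,3,5] [([],384,[3,65,4,75,79]),
 ([],388,[3,76,72,76,74]),
 ([101,105,19],334,[67,4,77,74])] [31,132,30])
 (CT.cons 442 (CT.leaf [66,70,76,3,5,4] [([],384,[75,74,78,80]),
 ([132,134,30],386,[3,78,68]),
 ([111],368,[4,80,76,64,3])] [134,30,30,30])
 (CT.cons 292 (CT.leaf [66,70,76,3,5,3] [([],384,[68,75,64,80]),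
 ([130,32],384,[3,69,72,67,81]),
 ([134,138,30],389,[64,70,77,77])] [136,32])
 (CT.cons 351 (CT.leaf [66,70,76,3,5,65] [([],384,[4,65,67,78]),
 ([138,30,33],386,[78,72,81,75]),
 ([110],368,[4,4,78,3,69])] [33,134,31])
 (CT.cons 557 (CT.leaf [65,75,80,70,64,2,87,73] [([],384,[3,3,74,66,76]),
 ([137,134],385,[3,76,4,69,65]),
 ([94,16],348,[73,77,65,76])] [139,131])
 (CT.cons 364 (CT.leaf [3,71,73,80,67,2,88,67] [([],384,[64,77,68,4]),
 ([139,137,30],383,[64,70,73]),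
 ([116],364,[81,71,80,69])] [139,32,30])
 (CT.cons 345 (CT.leaf [68,64,79,71,5,4] [([],384,[65,67,65,67]),
 ([136,33],389,[73,81,73,71]),
 ([134,138,30],384,[67,80,72,66])] [32,132,30])
 (CT.cons 575 (CT.leaf [76,69,67,70,2,87,73] [([],384,[65,78,81,77]),
 ([131,136,30],385,[3,67,69,79,65]),
 ([17,95],348,[3,81,70,82])] [139,30])
 (CT.cons 455 (CT.leaf [3,66,82,77,79,5,4] [([],384,[81,3,69,78]),
 ([139,135,30],384,[76,68,65,72]),
 ([30,132],384,[67,73,82,4])] [135,33,31])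
 (CT.cons 468 (CT.leaf [3,69,82,82,1,1,91] [([],384,[67,65,70,64]),
 ([137,33],387,[67,82,73,4]),
 ([22,24],360,[65,74,74,72])] [136,139,31])
 CT.nil)))))))))))
 (CT.cons 0 pz_T7_6
 CT.nil))))))))

theorem pz_T7_ok : ctB nets tb B Lc civ L0 al xF 390 pz_S (mapL (·.1) pz_Y) 7 pz_T7 true Lv Lc [] = true := by decide +kernel

noncomputable def pz_T8 : CT := (CT.br [] [18,74,70,18,71,74,18,70,73,74,18,70,74,18,18] (CT.cons 53 (CT.br [1,1] [287,288,287,288,288] (CT.cons 154 (CT.leaf [1,1] [([],382,[]),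
 ([114,111,22],375,[65,74,75,69]),
 ([],359,[3,64,77,72,74])] [146,146,149,34])
 (CT.cons 164 (CT.leaf [4,1,1] [([],382,[4]),
 ([23],359,[73,81,71,67]),
 ([140,140],381,[3,74,78,65])] [148,141,143,140])
 (CT.cons 184 (CT.leaf [3,1,1] [([],382,[3]),
 ([23,110],374,[76,76,67]),
 ([116,23],359,[3,3,69,74,66])] [144,35,142,140,35])
 (CT.cons 169 (CT.leaf [65,1,1] [([],382,[65]),
 ([115,23],379,[3,73,75,78,71]),
 ([118,22],359,[4,77,72,78])] [145,37,140,142,34])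
 (CT.cons 162 (CT.leaf [4,4,1,1] [([],382,[4,4]),
 ([118,23],362,[65,70,79,3,68]),
 ([25],359,[4,66,70,72,81])] [37,142,36,143,34])
 (CT.cons 197 (CT.leaf [68,4,1,1] [([],382,[68,4]),
 ([24,22],352,[3,68,73,69,67]),
 ([111],359,[76,73,70,3])] [145,143,35,145])
 (CT.cons 177 (CT.leaf [68,67,4,1,1] [([],382,[68,67,4]),
 ([22],361,[4,78,64,75,80]),
 ([22],359,[3,73,75,70])] [37,35,35,145,35])
 (CT.cons 172 (CT.leaf [71,65,1,1] [([],382,[71,65]),
 ([],356,[4,64,75,68,82]),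
 ([116,23],359,[3,72,65,76,66])] [140,143,149,34])
 CT.nil)))))))))
 (CT.cons 21 (CT.br [4,5] [284,285,286,285,284,285,284,285] (CT.cons 0 (CT.leaf [4,5] [([],381,[]),
 ([],382,[75,75,68,77]),
 ([22],359,[67,75,72,3])] [148,145,37,140])
 (CT.cons 459 (CT.leaf [4,5,3] [([],381,[3]),
 ([141,143,34],381,[77,77,71,80]),
 ([146,34],381,[69,66,75,77])] [148,146,35,145,35])
 CT.nil)))
 CT.nil)))

theorem pz_T8_ok : ctB nets tb B Lc civ L0 al xF 390 pz_S (mapL (·.1) pz_Y) 8 pz_T8 true Lv Lc [] = true := by decide +kernel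

noncomputable def pz_T : ℕ → CT := nth CT.nil [pz_T0,
 pz_T1,
 pz_T2,
 pz_T3,
 pz_T4,
 pz_T5,
 pz_T6,
 pz_T7,
 pz_T8]

theorem pz_T_ok : ∀ k < 9, ctB nets tb B Lc civ L0 al xF 390 pz_S (mapL (·.1) pz_Y) k (pz_T k) true Lv Lc [] = true := by
  intro k hk
  interval_cases k
  exacts [pz_T0_ok, pz_T1_ok, pz_T2_ok, pz_T3_ok, pz_T4_ok, pz_T5_ok, pz_T6_ok, pz_T7_ok, pz_T8_ok]

end Cfsg.Lib.Comp.HNn
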