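import Cfsg.Agent.Lib.Comp.HNn.Up2
import Cfsg.Agent.Lib.Comp.HNn.TJ
import Cfsg.Agent.Lib.Comp.HNn.T5
import Cfsg.Agent.Lib.Comp.HNn.T3
import Cfsg.Agent.Lib.Comp.HNn.Tz2

set_option maxRecDepth 100000
set_option Elab.async false

namespace Cfsg.Lib.Comp.HNn

universe u

abbrev Pt : Type := xX nets (cl (gp nets) L) xF xN 9

noncomputable abbrev pt : ℕ → Pt := xx nets (cl (gp nets) L) xF xN (r := 9) (by norm_num)

theorem xA : XAx xF Lc 19 289 390 9 xN := by decide +kernel

theorem model : ∃ σ : Equiv.Perm Pt, Semi nets (cl (gp nets) L) σ L0 al ∧ (∀ j < 390, (xF j).ok nets (cl (gp nets) L) Lc pt σ) ∧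
    SymM (cl (gp nets) L) pt σ 9 (fun k => (xN k).2.2.1) ∧ ∀ y, srun nets (cl (gp nets) L) σ [j1, j2] y = y := by
  have := nets_ok.finite L
  obtain ⟨ψ, hψ⟩ := psi_id (G := cl (gp nets) L) fun a ha => ctl.hL a (l0_sub a ha)
  exact sym_model _ nets_ok ctl card.le lev0.1 lev0.2 l0_fix l0_sub hψ xA xD_ok xN_ok ex cl_lc.ge pJ_Y_ok pJ_T_ok

noncomputable def sg : Equiv.Perm Pt := model.choose

theorem sg_semi : Semi nets (cl (gp nets) L) sg L0 al := model.choose_spec.1

theorem sg_F : ∀ j < 390, (xF j).ok nets (cl (gp nets) L) Lc pt sg := model.choose_spec.2.1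

theorem sg_M : SymM (cl (gp nets) L) pt sg 9 (fun k => (xN k).2.2.1) := model.choose_spec.2.2.1

theorem sg_J : ∀ y, srun nets (cl (gp nets) L) sg [j1, j2] y = y := model.choose_spec.2.2.2

noncomputable abbrev dl : ℕ → Equiv.Perm Pt := sδ nets (cl (gp nets) L) sg 6 7

theorem let_ok : LetOK iv 6 7 j1 j2 L HN.L R := by decide +kernel

theorem dl_iv : IvOK dl iv := sδ_iv sg_J let_ok nets_iv

noncomputable def R2 : List (List ℕ × ℕ) := [([5],1),
 ([5,1],1),
 ([1,2],0),
 ([3,4],0),
 ([6,7],0),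
 ([3,6,4,7],0),
 ([6,6,6,6,6],0),
 ([6,1,6,6,2],0),
 ([6,5,6,5,6,5],0)]

noncomputable def rw_h : ℕ := (nat_lit 0x600000b00000f000500000900000f000200000600000c000700000a00000c000600000500000c000500000500000b000700000400000a000700000300000900030000050000070006000002000007000700000100000600060000000000050007000000000004000500000000000300030000000000020001000000000001)

noncomputable def rw_c : List ℕ := [(nat_lit 0x3b00002300000b000011000029005e0500000000002f00001300000100001500540400002f00001300000d00002500380400000000000000000000000000001b000007000011002603000000000000000000000000000000000000000000000010)]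

theorem rw_b : goalB 1 (fun _ p => p) iv (allCodes iv R2) (fun t => look rw_h 64 t, rw_c) 0 [([6,6,6,6,6],5,(nat_lit 0x1100002d00003300002700000f)),
 ([2,6,1,6,6],5,(nat_lit 0x1100002d000037000017000003)),
 ([7,4,6,3],4,(nat_lit 0x500001900001f000013)),
 ([5,6,5,6,5,6],6,(nat_lit 0x1100002900003d00003b00002300000b)),
 ([6,7],2,(nat_lit 0xd00000f))] (msk []) = true := by decide +kernel

theorem rw : Mem.{u} iv R2 ([].map fun x => [x]) [[6,6,6,6,6],
 [2,6,1,6,6],
 [7,4,6,3],
 [5,6,5,6,5,6],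
 [6,7]] := mem_of_goalB rw_b

theorem dl_rel : Rels dl HN.R := by
  have h1 : Rels dl R := sδ_rels let_ok (fun a ha => mem_cl ha) nets_rel
  have h2 := rel_of_smB (t := 6) (ti := 7) ctl sg_semi (by norm_num) (by decide +kernel) (Z := [([3], [3], [4])]) (by decide +kernel)
  have h3 : Rels dl ([[6,6,6,6,6],
 [6,1,6,6,2],
 [6,5,6,5,6,5]].map fun w => (w, 0)) := rels_words (by
    simp only [List.mem_cons, List.not_mem_nil, or_false]
    rintro _ (rfl | rfl | rfl)
    · exact rel_of_prog sg_J (S := p5_S) (by decide +kernel) (prog_id nets_ok ctl sg_semi sg_F sg_M.all ex cl_lc.ge p5_Y_ok p5_T_ok)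
    · exact rel_of_prog sg_J (S := p3_S) (by decide +kernel) (prog_id nets_ok ctl sg_semi sg_F sg_M.all ex cl_lc.ge p3_Y_ok p3_T_ok)
    · exact rel_of_prog sg_J (S := pz_S) (by decide +kernel) (prog_id nets_ok ctl sg_semi sg_F sg_M.all ex cl_lc.ge pz_Y_ok pz_T_ok))
  have h4 : Rels dl [([6, 7], 0)] := Rels.cons (by rw [zero_add, pow_one, ev_cons, ev_single]; exact mul_eq_one_iff_inv_eq.2 (dl_iv.2 6 (by norm_num)).2.symm) (Rels.nil _)
  have h := ((h1.append h2).append h3).append h4
  exact Mem.consF (rw.of_cons (cons_of_subset (by decide +kernel))) (by decide +kernel) _ _ dl_iv h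

noncomputable def bU : List (List ℕ) := [[],
 [5],
 [2,5,88],
 [5,4]]

theorem bU_ok : cnd (allL bU fun u => subB u Lc) (subB B (mapL (fun u => wap tb u 0) bU)) false = true := by decide +kernel

theorem b_fix : ∀ g : cl (gp nets) L, g • pt 1 = pt 1 → (g : Equiv.Perm ℕ) 0 = 0 := xx_fix ctl xA (by norm_num) (by decide +kernel)

theorem faith (g : cl (gp nets) L) (h : ∀ y : Pt, g • y = y) : g = 1 := sym_faith ctl b_fix bU_ok fun _ _ => h _

end Cfsg.Lib.Comp.HNn
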