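import Cfsg.Agent.Lib.Comp.HNn.X2

set_option maxRecDepth 100000
set_option Elab.async false

namespace Cfsg.Lib.Comp.HNn

universe u

noncomputable def pz_S : List (List ℕ) := [[5],
 [5],
 [5]]

noncomputable def pz_Y : List (ℕ × List ℕ × List (List ℕ)) := [(66,[66],[[66],
 [66],
 [66]]),
 (67,[67],[[67],
 [67],
 [67]]),
 (68,[68],[[68],
 [68],
 [68]]),
 (69,[69],[[69],
 [69],
 [69]]),
 (70,[70],[[70],
 [70],
 [70]]),
 (71,[71],[[71],
 [71],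
 [71]]),
 (72,[72],[[72],
 [72],
 [72]])]

theorem pz_Y_ok : allL pz_Y (fun d => cnd (eqW tb B Lc [d.1] d.2.1) (syB tb B Lc L0 al d.1 pz_S d.2.2 d.2.1) false) = true := by
  decide +kernel

noncomputable def pz_T0 : CT := (CT.br [] [0,2,31,33,34,0,2,25,27,24,33,32,25] (CT.cons 0 (CT.br [] [1,19,1,19,75,1,19,19,1,1] (CT.cons 1 (CT.leaf [] [([],289,[]),
 ([],291,[]),
 ([],294,[3,75,71,74,72])] [66,56])
 CT.nil))
 CT.nil))

theorem pz_T0_ok : ctB nets tb B Lc civ L0 al xF 390 pz_S (mapL (·.1) pz_Y) 0 pz_T0 true Lv Lc [] = true := by decide +kernel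

noncomputable def pz_T1 : CT := (CT.br [] [37,35,39,37,36,37,35,38,37,39,37,36,37] (CT.cons 904 (CT.br [3,72,82,67,73,92,93,91] [126,129,126,130,126,128,131] (CT.cons 472 (CT.leaf [3,72,82,67,73,92,93,91] [([],300,[73,80,82,71]),
 ([91],337,[80,66,3,74]),
 ([],317,[4,75,71,72,74])] [74,77,70,9,6])
 (CT.cons 569 (CT.leaf [67,75,67,4,1,91,94,87] [([],300,[65,79,64,69]),
 ([97,92],336,[3,69,73,80]),
 ([],324,[4,65,65,4])] [9,79,75,7,9])
 CT.nil)))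
 (CT.cons 554 (CT.br [69,64,74,68,1,91,91] [124,122,124,124,122,124,125,123] (CT.cons 154 (CT.leaf [69,64,74,68,1,91,91] [([],299,[3,64,77,64,68]),
 ([18],324,[3,70,77,75,73]),
 ([],291,[70,79,71,74])] [75,73,9,70,8])
 (CT.cons 962 (CT.leaf [71,68,76,70,5,87,90] [([],299,[80,77,80,3]),
 ([102,21],320,[71,72,67]),
 ([],340,[76,79,67])] [70,73,73,79,8])
 (CT.cons 2 (CT.leaf [68,74,76,74,2,91,91] [([],299,[73,75,73,69]),
 ([],322,[68,4,64,66]),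
 ([],306,[78,82,82,77])] [8,71,77,7,9])
 (CT.cons 57 (CT.leaf [76,67,76,70,2,91,5] [([],299,[80,77,80,4]),
 ([108],323,[70,77,3,3]),
 ([],309,[82,72,73,82])] [78,8,6,73])
 (CT.cons 130 (CT.leaf [64,74,77,66,80,1,91,5] [([],299,[3,66,82,69,72]),
 ([],321,[79,65,79,79]),
 ([],303,[82,72,73,82])] [70,77,74,73,75])
 CT.nil))))))
 (CT.cons 204 (CT.br [4,5,4,5] [120,118,120,119,120,118,120,119,118] (CT.cons 21 (CT.leaf [4,5,4,5] [([],298,[73,68,72,82]),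
 ([86],315,[3,77,82,72,81]),
 ([12],306,[65,68,77,70])] [7,71,74,77,74])
 (CT.cons 916 (CT.leaf [64,69,72,64,87,87,75] [([],298,[3,68,64,78,80]),
 ([83,86],318,[65,72,4,76]),
 ([],340,[65,81,3,68])] [79,6,74,76,6])
 (CT.cons 63 (CT.leaf [4,66,82,65,93,5] [([],298,[77,77,65,69]),
 ([10],307,[68,80,76,78]),
 ([],309,[4,81,80,75,68])] [78,77,79,77,9])
 (CT.cons 171 (CT.leaf [4,65,76,69,91,5,69] [([],298,[3,77,67,72,76]),
 ([13],317,[3,68,82,68,81]),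
 ([7,74],291,[67,74,66,66])] [79,77,78,8,74])
 (CT.cons 112 (CT.leaf [70,74,76,71,87,73,93] [([],298,[64,74,78,74]),
 ([],310,[76,69,78,67]),
 ([123],303,[3,75,80,80,69])] [71,9,76,74])
 CT.nil))))))
 (CT.cons 154 (CT.br [3,75,3,78,70,92,82] [116,115,116,116,116,114,116,117,115] (CT.cons 53 (CT.leaf [3,75,3,78,70,92,82] [([],297,[3,75,71,74,72]),
 ([],309,[]),
 ([],293,[])] [])
 (CT.cons 514 (CT.leaf [67,76,74,78,92,69] [([],297,[3,77,66,72,80]),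
 ([87,81],315,[3,78,72,80,76]),
 ([],317,[4,72,69,65])] [74,72,8,74,77])
 (CT.cons 554 (CT.leaf [72,74,4,71,1,87,73] [([],297,[3,66,69,64,71]),
 ([84,10],316,[3,66,75,79,81]),
 ([],324,[65,70,79,72])] [9,74,8,73,6,6])
 CT.nil))))
 (CT.cons 104 (CT.br [2,5] [112,107,112,112,108,112,107,112,112,107] (CT.cons 51 (CT.leaf [2,5] [([],296,[]),
 ([],306,[]),
 ([],290,[])] [])
 (CT.cons 575 (CT.leaf [82,64,74,79,1,92,69] [([],296,[4]),
 ([87,81],308,[66,69,70,66]),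
 ([],324,[3,74,69,74])] [7,9,77,9])
 (CT.cons 456 (CT.leaf [73,70,81,71,1,1,87,73] [([],296,[65,4]),
 ([84,10],307,[3,66,75,79,81]),
 ([],317,[3,68,76,80,74])] [71,76,76,75,7])
 CT.nil))))
 (CT.cons 54 (CT.br [1,5] [105,101,105,105,103,105,102,105,105,105] (CT.cons 52 (CT.leaf [1,5] [([],295,[]),
 ([127,28],303,[70,75,79,75]),
 ([],292,[70,75,79,75])] [7,77,79,79])
 (CT.cons 617 (CT.leaf [1,5,4] [([],295,[4]),
 ([26,125,28],301,[71,64,73,73]),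
 ([20],324,[3,64,64,72,80])] [7,76,73,70,8])
 (CT.cons 463 (CT.leaf [73,70,81,71,87,73] [([],295,[65,4]),
 ([28],302,[65,4,70,69]),
 ([84],317,[77,67,67,68])] [79,6,73,7])
 CT.nil))))
 (CT.cons 53 (CT.br [1,1] [97,98,4,100,97,98,100,97,100] (CT.cons 154 (CT.leaf [1,1] [([],294,[]),
 ([57,67],289,[3,75,71,74,72]),
 ([70,7],291,[3,64,68,4,65])] [6,76,73,73,70])
 CT.nil))
 (CT.cons 52 (CT.br [1] [93,94,95,93,3,96,94,95] (CT.cons 54 (CT.leaf [1] [([],293,[]),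
 ([],297,[3,75,71,74,72]),
 ([],309,[])] [])
 CT.nil))
 (CT.cons 51 (CT.br [2] [90,91,92,3,90,91,4,91] (CT.cons 104 (CT.leaf [2] [([],292,[]),
 ([],295,[]),
 ([127,28],303,[70,75,79,75])] [7,77,79,79])
 CT.nil))
 (CT.cons 1 (CT.br [5] [87,88,85,87,88,85,87,88,87,85] (CT.cons 0 (CT.leaf [5] [([],291,[]),
 ([],294,[3,75,71,74,72]),
 ([66],289,[82])] [72,71,75,72,6])
 (CT.cons 472 (CT.leaf [5,4] [([],291,[4]),
 ([71,6],298,[75,75,73,68]),
 ([13],317,[66,75,80,73])] [76,72,72,8,8,6])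
 (CT.cons 561 (CT.leaf [72,74,4,71,2,87,73] [([],291,[65,4]),
 ([70,7],299,[4,73,80,4]),
 ([18],324,[3,73,71,79,79])] [76,79,70,8,7])
 CT.nil))))
 (CT.cons 0 (CT.br [] [81,83,3,81,4,81,83,81] (CT.cons 1 (CT.leaf [] [([],290,[]),
 ([],296,[]),
 ([],306,[])] [])
 CT.nil))
 CT.nil))))))))))))

theorem pz_T1_ok : ctB nets tb B Lc civ L0 al xF 390 pz_S (mapL (·.1) pz_Y) 1 pz_T1 true Lv Lc [] = true := by decide +kernel

noncomputable def pz_T2_0 : CT := (CT.br [65,70,74,80,92,93,91] [162,163,162,162,162] (CT.cons 501 (CT.leaf [65,70,74,80,92,93,91] [([],318,[74,80,82]),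
 ([16],337,[75,65,82,77]),
 ([81,12],315,[3,81,79,77,76])] [82,85,86,83])
 (CT.cons 433 (CT.leaf [68,71,65,82,1,87,91,94] [([],318,[74,80,82,4]),
 ([90,14],343,[68,67,77,67]),
 ([110,25],369,[74,64,68,79])] [85,10,89,13])
 (CT.cons 596 (CT.leaf [73,70,77,75,1,91,94,87] [([],318,[64,77,82,80]),
 ([93,15],336,[77,64,76,68]),
 ([100],323,[3,65,4,81,71])] [87,87,13,11])
 (CT.cons 513 (CT.leaf [3,64,66,82,64,88,94,91] [([],318,[74,80,82,65]),
 ([96,16,16],346,[66,66,3,73]),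
 ([],355,[4,71,73,70,81])] [86,84,82])
 (CT.cons 567 (CT.leaf [75,3,66,78,5,85,93,87] [([],318,[69,67,73,78]),
 ([],344,[80,64,3,76]),
 ([],322,[79,73])] [83,87,82,80])
 (CT.cons 903 (CT.leaf [69,74,72,65,2,88,93,92] [([],318,[3,65,65,81,72]),
 ([91,97],345,[3,71,4,68,64]),
 ([17,98],337,[72,76,79,78])] [80,80,82])
 (CT.cons 331 (CT.leaf [3,70,75,74,76,1,88,94,88] [([],318,[67,71,82,67]),
 ([97,93],346,[75,78,78]),
 ([111,24],369,[3,67,76,77,4])] [86,85,88])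
 (CT.cons 689 (CT.leaf [70,75,74,69,5,3,94,88] [([],318,[3,70,65,77,72]),
 ([92,15,15],345,[74,76,73,73]),
 ([97],337,[72,74,3,64])] [12,85,83,13])
 (CT.cons 556 (CT.leaf [3,80,65,69,88,94,94] [([],318,[3,73,70,65]),
 ([],340,[76,67,77,64]),
 ([75,70,6],298,[4,73,71,72,76])] [81,12,88,12])
 (CT.cons 238 (CT.leaf [66,73,77,3,1,87,91,94] [([],318,[79,3,65,77]),
 ([90,16,15],350,[77,4,78,75]),
 ([],369,[65,81,69,64,69])] [80,84,88,11])
 (CT.cons 721 (CT.leaf [67,68,4,71,1,5,94,91] [([],318,[3,64,75,66,71]),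
 ([],349,[65,75,77,71]),
 ([],337,[78,73,82])] [10,85,88,10])
 (CT.cons 616 (CT.leaf [3,82,68,68,73,5,4,87,93] [([],318,[82,77,82,74]),
 ([],347,[69,79,78,75]),
 ([],363,[72,64,79,67])] [80,86,81,10])
 CT.nil)))))))))))))

noncomputable def pz_T2_6 : CT := (CT.br [72,3,69,5,3,5] [147,148,147,147,147] (CT.cons 12 (CT.leaf [72,3,69,5,3,5] [([],312,[69,65,67,70]),
 ([25,114,24],379,[3,73,68,71]),
 ([22],363,[72,66,3])] [86,10,86])
 (CT.cons 67 (CT.leaf [3,3,81,76,70,88,69,88] [([],312,[67,79,4,78]),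
 ([],363,[75,73,79,4]),
 ([12,82],315,[66,3,79,82])] [12,88,12,81])
 (CT.cons 1210 (CT.leaf [3,81,67,72,67,2,5,88] [([],312,[3,80,76,4]),
 ([24,110],375,[69,79,64,3]),
 ([114,22],369,[64,73,70,67])] [11,89,11,11])
 (CT.cons 161 (CT.leaf [82,4,74,91,5,68] [([],312,[66,69,82,73]),
 ([22],369,[65,70,80,82]),
 ([88,12],307,[72,66,82,71])] [12,88,11,11])
 (CT.cons 1355 (CT.leaf [3,80,75,79,70,2,88,92] [([],312,[3,80,76,3,3]),
 ([117,25],374,[4,64,73,72,74]),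
 ([112,110],369,[66,73,65,4])] [87,84,80,13])
 (CT.cons 1007 (CT.leaf [71,75,77,4,88,88,86] [([],312,[3,80,76]),
 ([112,22],377,[76,80,78,67]),
 ([90,15],337,[82,68,71,71])] [81,82,85,11])
 (CT.cons 179 (CT.leaf [77,71,77,79,1,92,88,83] [([],312,[78,66,72,78]),
 ([116,22],353,[3,77,76,74]),
 ([20],323,[3,81,77,73])] [84,88,87,10])
 (CT.cons 1076 (CT.leaf [81,76,70,72,1,87,84,91] [([],312,[82,75,68,64]),
 ([111,117],378,[82,65,82,71]),
 ([],337,[77,3,75,71])] [10,85,80,12])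
 (CT.cons 993 (CT.leaf [67,71,71,66,1,87,3,88] [([],312,[80,80,68,70]),
 ([110,115],366,[3,65,70,4,78]),
 ([98,16],337,[3,3,75,72])] [81,86,86,12])
 (CT.cons 1406 (CT.leaf [3,77,70,65,80,5,94,75] [([],312,[69,74,75,66]),
 ([22],356,[3,76,81,80]),
 ([111,24],369,[69,80,74,3])] [89,85,81,86])
 (CT.cons 5 (CT.leaf [65,68,79,69,5,73,93] [([],312,[64,66,71,74]),
 ([112,22],371,[66,77,74]),
 ([18],319,[3,74,66,68,78])] [88,11,86,81])
 (CT.cons 145 (CT.leaf [82,66,64,66,5,89,92] [([],312,[69,65,65,4]),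
 ([114],354,[79,79,79,65]),
 ([110],355,[82,76,81,73])] [13,81,11,12])
 CT.nil)))))))))))))

noncomputable def pz_T2 : CT := (CT.br [] [5,42,6,5,42,5,43,5,42,5,42,5,42,5] (CT.cons 968 pz_T2_0
 (CT.cons 563 (CT.br [80,81,73,4,5,88,82] [161,159,159,161,160,161,159,160,161] (CT.cons 84 (CT.leaf [80,81,73,4,5,88,82] [([],317,[70,65,67,71]),
 ([78],297,[69,80,72,75]),
 ([87,88],315,[4,79,81,64])] [86,82,86,86])
 (CT.cons 109 (CT.leaf [3,81,69,70,72,87,71,91] [([],317,[3,72,67,71,72]),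
 ([77,8],291,[72,76,64,81]),
 ([71,6],298,[81,71,77,81])] [88,81,86,11])
 (CT.cons 987 (CT.leaf [3,69,3,78,72,5,4,94] [([],317,[70,78,79,72]),
 ([75],300,[3,76,64,66,68]),
 ([98,16],337,[68,3,66,3])] [84,11,80,12])
 (CT.cons 158 (CT.leaf [3,73,77,68,1,93,5] [([],317,[82,68,74,80]),
 ([72,6],296,[74,78,64,64]),
 ([88,12],307,[69,80,72,4])] [85,82,81])
 (CT.cons 1 (CT.leaf [64,73,81,71,2,91,91] [([],317,[76,73,66]),
 ([75,7],295,[3,82,74,74,3]),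
 ([122],302,[65,77,75,77])] [84,87,83,85])
 CT.nil))))))
 (CT.cons 557 (CT.br [3,64,69,74,69,5,87,85] [156,157,158,156,157,158,156,157] (CT.cons 114 (CT.leaf [3,64,69,74,69,5,87,85] [([],316,[3,69,72,76,74]),
 ([101,21],325,[4,70,75,70,82]),
 ([110],355,[4,64,76,79,82])] [86,86,11,81])
 (CT.cons 58 (CT.leaf [3,82,80,71,91,94,90] [([],316,[78,3,80,72]),
 ([18],327,[68,70,76,72]),
 ([100],322,[3,68,71,71])] [88,81,86,10])
 (CT.cons 6 (CT.leaf [79,73,69,81,88,93,79] [([],316,[69,78,74,4]),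
 ([18],328,[64,64,81,77]),
 ([],319,[4,76,68,77])] [81,86,83])
 (CT.cons 1036 (CT.leaf [69,73,73,4,91,88,74] [([],316,[3,77,68,80,4]),
 ([101,20,18],331,[68,79,3,69]),
 ([],337,[75,72,77,80])] [85,12,83])
 (CT.cons 154 (CT.leaf [74,82,66,68,88,1,93] [([],316,[3,68,74,65,75]),
 ([],324,[82,64,72,67]),
 ([76,71],297,[74,69,66,78])] [12,84,10,12])
 CT.nil))))))
 (CT.cons 534 (CT.br [4,69,79,69,65,87,73,87] [154,155,154,154,155,155,154,154,155] (CT.cons 154 (CT.leaf [4,69,79,69,65,87,73,87] [([],315,[3,66,82,76,76]),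
 ([],317,[3,68,68,79,3]),
 ([76,71],297,[4,69,78,67,67])] [86,84,86,85])
 (CT.cons 108 (CT.leaf [65,71,64,70,87,73,93] [([],315,[3,77,69,67]),
 ([12],306,[3,3,64,81,80]),
 ([77,74,71],298,[76,73,71])] [88,88,80,10])
 (CT.cons 926 (CT.leaf [81,72,69,74,1,5,88] [([],315,[79,67,68,4]),
 ([89,89,81],318,[3,70,74,65,79]),
 ([16],337,[4,71,3,68])] [85,10,83,12])
 (CT.cons 185 (CT.leaf [3,68,78,4,91,79,92] [([],315,[3,77,69,4]),
 ([86],308,[3,70,81,67,76]),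
 ([107,18],323,[79,71,81])] [84,13,87,11])
 (CT.cons 38 (CT.leaf [3,67,75,71,81,5,75,5] [([],315,[68,72,67,70]),
 ([],312,[3,77,71,66]),
 ([],363,[64,66,78,70])] [81,12,88,80])
 (CT.cons 1322 (CT.leaf [68,80,77,69,87,93,73] [([],315,[70,69,4,80]),
 ([85,87],311,[3,78,67,77,73]),
 ([115,24],369,[4,72,81,74,82])] [86,83,83])
 (CT.cons 84 (CT.leaf [76,82,73,78,87,4,5] [([],315,[3,65,75,3,69]),
 ([86,82],315,[3,68,65,65,75]),
 ([86,82],315,[69,81,66,82])] [86,82])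
 CT.nil))))))))
 (CT.cons 492 (CT.br [5,3,5] [152,153,152,153,152,153,152,153] (CT.cons 1 (CT.leaf [5,3,5] [([],314,[]),
 ([],358,[64,77,73,72]),
 ([127,120],302,[3,65,72,74,71])] [85,83,84,13])
 (CT.cons 58 (CT.leaf [79,78,3,74,88,69,88] [([],314,[4]),
 ([110],365,[73,78,80,65]),
 ([18],322,[78,75,77,82])] [87,88,80,10])
 (CT.cons 906 (CT.leaf [81,72,69,74,2,5,88] [([],314,[3]),
 ([25,114],366,[4,75,75,65]),
 ([],337,[68,79,75,75])] [10,10,83,81])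
 (CT.cons 10 (CT.leaf [64,5,4,5] [([],314,[65]),
 ([],372,[67,4,78,81]),
 ([],363,[67,82,65,74])] [86,88,88,13])
 (CT.cons 181 (CT.leaf [3,74,4,76,74,91,5,68] [([],314,[64]),
 ([112],371,[82,67,67,69]),
 ([],323,[71,77,72])] [80,83])
 (CT.cons 1222 (CT.leaf [3,76,80,66,3,87,87,75] [([],314,[65,4]),
 ([112,22],354,[3,82,70,4,76]),
 ([24,24],369,[3,79,76,65,76])] [88,88,81])
 (CT.cons 134 (CT.leaf [69,75,79,69,5,89,92] [([],314,[66,70,76,3]),
 ([22],361,[3,81,74,66]),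
 ([22],355,[69,80,75])] [89,11,81,12])
 CT.nil))))))))
 (CT.cons 458 (CT.br [3,5,4,5] [151,149,150,151,150,151,150,150] (CT.cons 9 (CT.leaf [3,5,4,5] [([],313,[73,4,77,80]),
 ([104,19],329,[78,79,79,78]),
 ([],363,[75,77,70,80])] [86,88,81,83])
 (CT.cons 1208 (CT.leaf [69,74,65,80,87,87,75] [([],313,[66,73,71,3]),
 ([20,103,19],333,[4,69,72,73,71]),
 ([111,24],369,[82,76,80,74])] [86,83,86])
 (CT.cons 58 (CT.leaf [3,66,82,65,93,5] [([],313,[64,69,67,70]),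
 ([],328,[77,3,67,75]),
 ([18],322,[3,74,3,81])] [83,10,83,12])
 (CT.cons 159 (CT.leaf [3,65,76,69,91,5,69] [([],313,[65,70,64,66]),
 ([103],323,[67,78,67,75]),
 ([12],307,[64,72,64,78])] [85,10,86,13])
 (CT.cons 104 (CT.leaf [67,69,81,70,87,73,93] [([],313,[3,81,3,64,76]),
 ([18],319,[3,81,72,67,80]),
 ([12],305,[79,69,69])] [89,87,81,11])
 CT.nil))))))
 (CT.cons 424 pz_T2_6
 (CT.cons 167 (CT.br [3,68,67,78,3,92,82] [145,146,145,146,145,145,145,146,146,145] (CT.cons 53 (CT.leaf [3,68,67,78,3,92,82] [([],311,[79,71,74,79]),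
 ([110],363,[66,68,68,72]),
 ([],305,[69,81,78,67])] [11,80,87])
 (CT.cons 205 (CT.leaf [3,67,76,80,66,92,69] [([],311,[69,67,65,79]),
 ([24,110],379,[4,66,77,65]),
 ([115],369,[82,82,75,80])] [88,10,86,10])
 (CT.cons 465 (CT.leaf [4,72,64,81,70,92,77] [([],311,[68,3,73,72]),
 ([],357,[68,65,69,72]),
 ([20],319,[3,67,76,82,75])] [82,81,84])
 (CT.cons 471 (CT.leaf [68,66,75,70,1,87,84] [([],311,[75,65,80,76]),
 ([24,24],369,[65,75,81,79]),
 ([10,13],315,[67,82,69,74])] [82,80,83])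
 (CT.cons 523 (CT.leaf [3,69,81,77,92,78] [([],311,[74,80,78,82]),
 ([112],373,[4,75,4,72,4]),
 ([],355,[76,64,3,72])] [84,88,80])
 (CT.cons 721 (CT.leaf [67,80,67,79,1,87,73] [([],311,[79,69,76,72]),
 ([116,110],376,[64,78,72]),
 ([],337,[4,75,73,3])] [80,11,85])
 (CT.cons 574 (CT.leaf [82,3,75,81,1,87,81] [([],311,[3,73,72,64,74]),
 ([22],365,[3,66,75,4,64]),
 ([104],323,[4,79,73,80])] [81,10,89,13])
 CT.nil))))))))
 (CT.cons 154 (CT.br [3,75,3,78,70,92,82] [5,143,144,5,143,5,143,5,143] (CT.cons 53 (CT.leaf [3,75,3,78,70,92,82] [([],310,[3,75,71,74,72]),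
 ([26],302,[67,76,65]),
 ([],305,[67,76,65])] [80,13,10,10])
 (CT.cons 514 (CT.leaf [67,76,74,78,92,69] [([],310,[3,77,66,72,80]),
 ([127,120],304,[68,64,73,82]),
 ([],355,[68,3,64,64])] [83,85,13])
 (CT.cons 554 (CT.leaf [72,74,4,71,1,87,73] [([],310,[3,66,69,64,71]),
 ([28],303,[3,82,65,71]),
 ([9,78,6],298,[68,79,79,66])] [80,11,87])
 CT.nil))))
 (CT.cons 53 (CT.br [1,1] [5,141,142,5,141,142,5,141,5,141] (CT.cons 154 (CT.leaf [1,1] [([],309,[]),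
 ([],293,[]),
 ([],297,[3,75,71,74,72])] [])
 (CT.cons 164 (CT.leaf [4,1,1] [([],309,[4]),
 ([8,73,6],299,[74,81,68,75]),
 ([109],323,[73,69,71,80])] [83,85,13])
 (CT.cons 155 (CT.leaf [65,4,1,1] [([],309,[65,4]),
 ([71,73],298,[64,77,68,80]),
 ([10],307,[64,78,70,79])] [83,10,83,10])
 CT.nil))))
 (CT.cons 9 (CT.br [3,5] [140,139,140,139,140,139,140,139,140] (CT.cons 0 (CT.leaf [3,5] [([],308,[]),
 ([],324,[80,72,80,3]),
 ([6,70,6],296,[4,70,74,79])] [85,88,88])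
 (CT.cons 458 (CT.leaf [3,5,4] [([],308,[4]),
 ([20],319,[66,73,4]),
 ([85,10],307,[65,65,79,65])] [86,80,86,10])
 (CT.cons 206 (CT.leaf [3,5,3] [([],308,[3]),
 ([108,18,18],332,[3,3,76,82,79]),
 ([112],369,[80,4,64,79])] [87,84,81,10])
 (CT.cons 493 (CT.leaf [3,5,65] [([],308,[65]),
 ([101,21],323,[64,80,72,76]),
 ([83,83],315,[3,77,69,4])] [89,13,88,11])
 (CT.cons 529 (CT.leaf [3,5,64] [([],308,[64]),
 ([],333,[68,3,75,3]),
 ([],355,[3,64,66,71,72])] [84,81,82,84])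
 (CT.cons 787 (CT.leaf [3,72,74,4,71,2,87,73] [([],308,[65,4]),
 ([104,106],320,[75,68,64,79]),
 ([91,14],337,[74,77,65])] [80,86,81])
 (CT.cons 632 (CT.leaf [3,72,73,77,66,2,87,73] [([],308,[66,70,76,3]),
 ([104],325,[65,75,64,72]),
 ([22],363,[73,73,4])] [86,83,83])
 CT.nil))))))))
 (CT.cons 6 (CT.br [66,70,76,3,5] [137,138,136,137,136,138,136] (CT.cons 0 (CT.leaf [66,70,76,3,5] [([],307,[3,65,4,75,79]),
 ([],317,[71,68,78,74]),
 ([72,6],296,[3,77,72,75,68])] [82,11,12])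
 (CT.cons 442 (CT.leaf [66,70,76,3,5,4] [([],307,[75,74,78,80]),
 ([86,81,10],312,[75,4,71,65]),
 ([22],369,[3,82,80,75])] [89,89,84])
 (CT.cons 557 (CT.leaf [65,75,80,70,64,2,87,73] [([],307,[3,3,74,66,76]),
 ([],309,[73,64,74,70]),
 ([78,73],298,[66,78,67,82])] [84,83,13,10])
 (CT.cons 463 (CT.leaf [3,75,78,80,75,1,1,91] [([],307,[64,77,68]),
 ([82],308,[77,82,72,74]),
 ([20],319,[3,3,74,3])] [11,87,13,11])
 (CT.cons 575 (CT.leaf [76,69,67,70,2,87,73] [([],307,[65,78,81,77]),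
 ([10],313,[66,69,3,78]),
 ([103],323,[76,74,66,66])] [88,84])
 CT.nil))))))
 (CT.cons 1 (CT.br [5] [5,134,42,134,5,135,5,134] (CT.cons 0 (CT.leaf [5] [([],306,[]),
 ([],290,[]),
 ([],296,[])] [])
 (CT.cons 472 (CT.leaf [5,4] [([],306,[4]),
 ([8,77,7],298,[69,67,79,77]),
 ([82],315,[66,72,79,70])] [82,89,10,13])
 (CT.cons 561 (CT.leaf [72,74,4,71,2,87,73] [([],306,[65,4]),
 ([71,76,8],299,[4,4,79,72,80]),
 ([],322,[68,65,68])] [87,83,10,10])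
 CT.nil))))
 (CT.cons 0 (CT.br [] [5,132,132,5,132,5,132,132,5] (CT.cons 1 (CT.leaf [] [([],305,[]),
 ([],310,[80,3,81]),
 ([26],302,[68,64,75,66])] [11,80,87,10])
 (CT.cons 21 (CT.leaf [4] [([],305,[4]),
 ([85],311,[3,73,3,67,69]),
 ([110],363,[4,78,71,74,66])] [11,84,13,89])
 (CT.cons 2 (CT.leaf [65,4] [([],305,[65,4]),
 ([82],313,[3,68,70,73,3]),
 ([18],319,[71,65,70,75])] [84,83,80,12])
 CT.nil))))
 CT.nil)))))))))))))))

theorem pz_T2_ok : ctB nets tb B Lc civ L0 al xF 390 pz_S (mapL (·.1) pz_Y) 2 pz_T2 true Lv Lc [] = true := by decide +kernel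

noncomputable def pz_T3_0 : CT := (CT.br [75,4,72,79,5,87,77] [187] (CT.cons 148 (CT.leaf [75,4,72,79,5,87,77] [([],350,[4,71,82,75,74]),
 ([116,23],375,[64,82,3,80]),
 ([112,22],370,[80,65,65,79])] [95,96])
 (CT.cons 85 (CT.leaf [3,67,80,78,92,88,83] [([],350,[76,70,73,76]),
 ([115,24],370,[3,70,77,76,76]),
 ([91,14],342,[79,72,80,81])] [97,92])
 (CT.cons 141 (CT.leaf [3,77,76,82,5,87,85] [([],350,[71,65,73,70]),
 ([117,24],353,[3,78,78,73]),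
 ([103,21,18],331,[3,82,66,70])] [96,96,14])
 (CT.cons 1202 (CT.leaf [70,80,81,75,91,79,87] [([],350,[3,74,81,79,75]),
 ([111],360,[67,82,74,80]),
 ([139,137,30],385,[71,71,78,3])] [14])
 (CT.cons 29 (CT.leaf [76,81,76,82,1,91,93] [([],350,[3,74,81,71,82]),
 ([118],366,[72,74,66,72]),
 ([96,15],349,[68,79,81,78])] [97,95,15])
 (CT.cons 1155 (CT.leaf [3,76,65,4,81,1,87,93] [([],350,[66,3,81,81,3]),
 ([24,115,22],379,[69,3,64,82]),
 ([115,111],378,[72,3,65,81])] [90,14])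
 (CT.cons 1077 (CT.leaf [3,81,78,79,77,87,92,73] [([],350,[71,79,70,72]),
 ([110,22,22],380,[71,78,81,77]),
 ([111],366,[78,4,80,75])] [15,90])
 (CT.cons 57 (CT.leaf [73,66,77,74,91,94,90] [([],350,[3,80,3,64,66]),
 ([22],378,[4,77,64,3]),
 ([91],342,[70,66,75,4])] [92,92,91])
 (CT.cons 1098 (CT.leaf [69,67,68,80,91,78,94] [([],350,[3,3,82,78,64]),
 ([117,24,23],374,[73,79,79,71]),
 ([114,112,23],366,[3,64,75,77,71])] [91,17,90])
 (CT.cons 983 (CT.leaf [65,68,79,75,5,87,80] [([],350,[71,76,64,73]),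
 ([116],360,[65,4,69,3]),
 ([33,134,32],385,[73,78,64,77])] [91,97,14])
 (CT.cons 1316 (CT.leaf [3,66,76,71,87,76,91] [([],350,[66,3,81,81]),
 ([117,115],362,[65,74,82]),
 ([25,118],378,[75,73,70,69])] [96,15])
 (CT.cons 1325 (CT.leaf [66,78,3,74,87,2,94] [([],350,[3,66,75,78,71]),
 ([24],367,[75,77,70,77]),
 ([23,110],366,[4,72,3,72])] [95,92,15])
 (CT.cons 1021 (CT.leaf [72,74,69,70,1,5,91,67] [([],350,[4,66,77,72,77]),
 ([22,117],368,[3,80,73,73,65]),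
 ([134,31,32],385,[75,77,72,78])] [90,90,15])
 (CT.cons 951 (CT.leaf [77,80,70,70,92,93] [([],350,[73,76,72,75]),
 ([117,110,22],362,[64,66,82,64]),
 ([117,25,22],378,[3,3,81,70,67])] [93,91,14])
 (CT.cons 1278 (CT.leaf [4,69,81,70,87,3,92] [([],350,[3,80,72,66,72]),
 ([116,23],373,[73,79,68,68]),
 ([25,117],366,[3,64,76,77,70])] [15,15,17])
 (CT.cons 1074 (CT.leaf [3,72,74,3,87,5,90] [([],350,[78,78,75,72]),
 ([118,24],368,[77,77,79,64]),
 ([131,136,31],385,[74,3,82,3])] [14,95])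
 (CT.cons 146 (CT.leaf [65,75,64,64,88,5,73] [([],350,[4,82,80,76]),
 ([117,110],374,[4,72,79,66]),
 ([115,22],370,[3,80,78,66,81])] [92,15,17])
 (CT.cons 1367 (CT.leaf [76,73,67,69,87,3,88] [([],350,[82,67,78,76]),
 ([118,110],379,[80,65,77,82]),
 ([116,25],378,[80,4,73,72])] [15,91])
 (CT.cons 1228 (CT.leaf [77,76,80,5,73,87] [([],350,[81,3,81,71]),
 ([110],378,[81,4,64,71]),
 ([92,14],345,[64,66,76,68,68])] [98,15,16])
 (CT.cons 1388 (CT.leaf [70,3,70,78,5,91,1] [([],350,[74,74,75,73]),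
 ([24,114,25],368,[4,73,75,70,67]),
 ([32,135,30],385,[4,64,75,66,76])] [90,14])
 (CT.cons 65 (CT.leaf [68,77,69,73,94,91] [([],350,[75,78,72,74]),
 ([111,117],374,[70,3,74,75]),
 ([111,25],376,[4,73,66])] [92,91,14])
 (CT.cons 1029 (CT.leaf [71,76,68,82,5,88,76] [([],350,[77,70,81,70]),
 ([112,25,22],378,[64,75,80,67,77]),
 ([14,17,14],345,[81,65,74,65])] [99,17,14])
 (CT.cons 1280 (CT.leaf [3,3,66,68,4,88,5,79] [([],350,[73,73,68,3]),
 ([116,110,24],366,[4,68,67,70]),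
 ([97,97,17],345,[4,76,4,64,80])] [98,90])
 (CT.cons 1162 (CT.leaf [4,66,3,69,87,91,4] [([],350,[3,71,76,82,67]),
 ([23,118,22],366,[3,68,73,72,64]),
 ([15,94],345,[3,71,81,4,67])] [96,15])
 (CT.cons 116 (CT.leaf [3,66,74,64,79,5,93,73] [([],350,[3,3,72,77,68]),
 ([112],371,[4,65,73,64,79]),
 ([103,18,20],331,[64,82,68,64,70])] [94,96,15])
 (CT.cons 80 (CT.leaf [75,70,79,4,5,93,81] [([],350,[71,79,70,4]),
 ([114,25],375,[4,81,73,77,76]),
 ([111,24],376,[3,81,77,76])] [14,16,15])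
 (CT.cons 1191 (CT.leaf [3,67,67,65,5,88,86] [([],350,[78,68,74,82]),
 ([111,22],375,[81,70,3,64]),
 ([118,110],366,[78,65,78,4])] [94,14])
 (CT.cons 1204 (CT.leaf [3,71,68,64,3,1,87,87] [([],350,[4,76,79,70]),
 ([110],361,[72,65,69,82]),
 ([112,111],378,[71,82,79,69])] [90,90,15])
 (CT.cons 191 (CT.leaf [64,74,65,78,1,91,91] [([],350,[65,67,73,76]),
 ([],369,[70,75,71,81]),
 ([88,12,84,10],318,[3,65,82,73,4])] [94,17,17])
 (CT.cons 1114 (CT.leaf [81,76,82,82,2,87,87,69] [([],350,[3,3,78,81,68]),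
 ([112,110,22],377,[74,72,77,77]),
 ([99,17],345,[3,68,77,72,80])] [14,17,14])
 CT.nil)))))))))))))))))))))))))))))))

noncomputable def pz_T3_1 : CT := (CT.br [70,80,74,75,87,83,5] [186,185,186,185,186] (CT.cons 69 (CT.leaf [70,80,74,75,87,83,5] [([],349,[74,68,79,72]),
 ([90,96,15],346,[68,77,72,67]),
 ([111,25],376,[66,72,81,71])] [90,99,93])
 (CT.cons 57 (CT.leaf [4,72,73,71,5,88,82] [([],349,[69,67,79,73]),
 ([14],335,[82,72,76]),
 ([95,92],342,[3,73,81,4])] [94,92])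
 (CT.cons 121 (CT.leaf [73,67,65,73,5,93,82] [([],349,[4,65,81,4,78]),
 ([90,17],344,[78,73,81,69]),
 ([18,106],331,[72,4,71,82])] [93,96,17])
 (CT.cons 191 (CT.leaf [74,76,79,73,5,87,73] [([],349,[4,72,65,67,78]),
 ([],337,[3,66,64,71,71]),
 ([84,83,10],318,[69,70,3,78])] [92,17,15])
 (CT.cons 1401 (CT.leaf [64,72,73,3,91,88,78] [([],349,[3,67,75,74,81]),
 ([98,16,15],350,[65,75,75,71,3]),
 ([118],366,[4,72,79,4])] [95,93,16])
 (CT.cons 1209 (CT.leaf [3,69,72,80,76,88,92] [([],349,[69,69,81,68]),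
 ([94,17],345,[77,79,75,77]),
 ([91,94,14],345,[3,65,82,79,71])] [94,15])
 (CT.cons 1035 (CT.leaf [4,68,78,82,73,5,88,77] [([],349,[3,69,70,81]),
 ([90,97,14],345,[3,69,77,65,65]),
 ([90,96,16],345,[3,82,73,79,68])] [16,15,15])
 (CT.cons 1187 (CT.leaf [82,77,3,5,88,69] [([],349,[3,77,71,4,79]),
 ([91],342,[3,3,71,3,64]),
 ([],339,[3,77,69,77,73])] [97,14])
 (CT.cons 1123 (CT.leaf [72,66,3,64,87,87,1] [([],349,[74,78,79,64]),
 ([90,15],347,[69,77,82,72]),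
 ([118,24,22],366,[3,74,3,65,74])] [94,92,17])
 (CT.cons 996 (CT.leaf [79,65,67,78,94,87,90] [([],349,[81,75,80,75]),
 ([96,15],346,[69,71,67,81]),
 ([118],378,[3,64,73,64,79])] [98,91])
 (CT.cons 133 (CT.leaf [3,78,4,64,68,1,92,5] [([],349,[65,76,3,3]),
 ([90],343,[72,69,82,64]),
 ([112,110],370,[80,66,81,68])] [98,16])
 (CT.cons 10 (CT.leaf [73,66,81,4,5,79,5] [([],349,[4,72,73,78]),
 ([99,14],341,[4,65,76,68,64]),
 ([112,110],377,[4,66,72,67])] [92,14,16])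
 CT.nil)))))))))))))

noncomputable def pz_T3_2 : CT := (CT.br [3,75,69,78,5,87,77] [184] (CT.cons 119 (CT.leaf [3,75,69,78,5,87,77] [([],348,[81,67,68,66]),
 ([32,132,32],388,[82,66,73,67]),
 ([106,19],331,[64,69,81,67])] [90,96,17])
 (CT.cons 81 (CT.leaf [68,68,67,76,92,88,83] [([],348,[4,69,78,64]),
 ([136,134],385,[80,74,80,74]),
 ([99,14],342,[3,80,64,74])] [97,14,14])
 (CT.cons 125 (CT.leaf [3,66,3,66,5,87,85] [([],348,[3,68,65,68,71]),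
 ([136,30],388,[72,69,82,3]),
 ([19],331,[4,66,72,78,81])] [15,95])
 (CT.cons 1285 (CT.leaf [4,82,72,77,64,91,79,87] [([],348,[76,73,65,67]),
 ([130],384,[74,66,75,78]),
 ([130,136,31],385,[4,69,69,66])] [90,96,17])
 (CT.cons 39 (CT.leaf [3,72,67,67,80,1,91,93] [([],348,[3,64,75,74,70]),
 ([33,135,30],386,[3,65,71,68,4]),
 ([114,22],377,[75,75,67])] [93,91])
 (CT.cons 1259 (CT.leaf [68,71,68,81,1,87,93] [([],348,[3,65,79,66,71]),
 ([138,137],389,[3,78,66,77]),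
 ([131],385,[67,70,66,74])] [94,14])
 (CT.cons 912 (CT.leaf [4,67,82,74,82,87,92,73] [([],348,[3,68,79,64,79]),
 ([138,137,31],383,[79,65,77,75]),
 ([110],378,[79,68,65,77])] [97,95,16])
 (CT.cons 1329 (CT.leaf [72,79,73,76,91,78,94] [([],348,[76,82,64,78]),
 ([139,130,33],386,[81,77,73,77]),
 ([23,117],378,[74,77,65,67])] [98,15,17])
 (CT.cons 927 (CT.leaf [69,80,78,80,5,87,80] [([],348,[4,77,76,68,64]),
 ([136,132,31],383,[69,79,71,75]),
 ([23,118],378,[69,70,64])] [93,90,14])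
 (CT.cons 1348 (CT.leaf [4,73,77,71,77,87,76,91] [([],348,[4,69,4,75,64]),
 ([33,31],386,[71,4,80,4]),
 ([22,24],366,[3,68,76,66])] [92,14])
 (CT.cons 1224 (CT.leaf [3,75,82,79,4,87,2,94] [([],348,[72,4,73,65]),
 ([130,30,130],385,[66,69,74,78]),
 ([91,97,14],345,[72,67,74,74])] [92,14])
 (CT.cons 1386 (CT.leaf [3,64,81,3,67,88,91,76] [([],348,[81,67,4,65]),
 ([130,32],384,[76,82,71,71]),
 ([135,132,31],385,[74,81,72,79])] [16,14,17])
 (CT.cons 961 (CT.leaf [66,74,69,72,92,93] [([],348,[65,74,69,81]),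
 ([130,136,30],386,[65,79,69,78]),
 ([115,24,22],366,[68,71,79,67])] [96,91,14])
 (CT.cons 1393 (CT.leaf [64,3,81,4,78,87,3,92] [([],348,[3,65,77,68,75]),
 ([136,33],385,[78,69,80,74]),
 ([96,14],345,[64,72,77,67])] [97,99])
 (CT.cons 1223 (CT.leaf [69,70,81,74,87,5,90] [([],348,[77,68,65,77]),
 ([134,32,30],386,[3,70,4,66,82]),
 ([118,23],366,[72,74,65,67])] [97,98])
 (CT.cons 136 (CT.leaf [3,64,69,67,74,88,5,73] [([],348,[3,67,75,80,77]),
 ([136,139,32],387,[69,78,65,67]),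
 ([24],370,[4,69,72,68])] [92])
 (CT.cons 1261 (CT.leaf [4,76,70,69,78,1,87,85,88] [([],348,[4,67,74,64,68]),
 ([139,31],387,[69,3,77,72]),
 ([117,23],366,[72,77,71,68])] [17,95,93])
 (CT.cons 1001 (CT.leaf [65,72,65,76,5,91,1] [([],348,[3,80,82,68,66]),
 ([32,32,30],389,[64,73,72,65,74]),
 ([33,134,30],385,[3,72,81,67,77])] [95,96,14])
 (CT.cons 1333 (CT.leaf [3,69,67,67,68,87,5,65] [([],348,[3,3,69,4,74]),
 ([30,137,130],386,[4,71,3,69,75]),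
 ([25,118],378,[70,74,76,74])] [94,15])
 (CT.cons 146 (CT.leaf [3,69,82,67,67,5,93,73] [([],348,[3,67,71,72,73]),
 ([31,135],386,[67,78,67,78]),
 ([116,24],370,[3,80,77,82,77])] [15,97,16])
 (CT.cons 1344 (CT.leaf [3,77,75,65,68,88,5,82] [([],348,[3,65,76,69,64]),
 ([137,138],385,[64,72,73,67]),
 ([92,92,14],345,[73,71,82,64])] [90,15,90])
 (CT.cons 83 (CT.leaf [70,80,72,75,94,91] [([],348,[68,82,72,77]),
 ([135,137],385,[80,73,80,72]),
 ([99,17],342,[3,74,81,64,75])] [91,91])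
 (CT.cons 1244 (CT.leaf [3,70,80,71,68,88,5,79] [([],348,[4,64,80,82,68]),
 ([135,31],385,[3,81,66,76,4]),
 ([99,93],345,[3,3,75,65])] [15,15,16])
 (CT.cons 1340 (CT.leaf [4,79,81,72,94,87] [([],348,[64,68,65,71,67]),
 ([32,137],385,[3,74,69,70,67]),
 ([94,17],345,[72,82,78,73])] [92,92,14])
 (CT.cons 1215 (CT.leaf [71,66,73,67,94,87,84] [([],348,[81,68,3,64]),
 ([30,138],386,[76,82,80]),
 ([24,115,24],378,[3,81,75,4,65])] [90,96,16])
 (CT.cons 1243 (CT.leaf [75,3,70,82,87,91,4] [([],348,[70,64,71,68]),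
 ([137,33],389,[81,76,4]),
 ([134,31,32],385,[69,78,3,64])] [96,91,16])
 (CT.cons 1394 (CT.leaf [68,71,64,71,93,91] [([],348,[79,65,73,72]),
 ([134,33,31],387,[79,65,81,74]),
 ([22,114,22],366,[65,70,80,67])] [98,97])
 (CT.cons 54 (CT.leaf [80,68,73,79,94,91] [([],348,[67,71,76,82]),
 ([131,33,31],383,[3,67,77,75,80]),
 ([112],376,[3,70,64,79,75])] [93,14,94])
 (CT.cons 155 (CT.leaf [3,65,78,80,82,1,91,91] [([],348,[78,81,79,68]),
 ([],388,[69,66,72,74]),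
 ([104,19],320,[76,66,79,82])] [98,91,14])
 (CT.cons 80 (CT.leaf [76,67,81,3,5,81,87] [([],348,[70,67,80,73]),
 ([135,31],386,[3,71,68,73,66]),
 ([114,22],376,[68,74,82,69])] [14,16,15])
 CT.nil)))))))))))))))))))))))))))))))

noncomputable def pz_T3_3 : CT := (CT.br [67,4,5,65,5] [182,182,183,182,182] (CT.cons 27 (CT.leaf [67,4,5,65,5] [([],347,[64,82,65,75]),
 ([116,115],366,[79,79,70,81]),
 ([94,15],349,[64,69,4,77])] [97,94,15])
 (CT.cons 190 (CT.leaf [3,78,76,76,69,1,92,88,83] [([],347,[3,66,76,81,70]),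
 ([111],371,[3,71,79,77,76]),
 ([],320,[3,79,81,72,3])] [94,94])
 (CT.cons 1155 (CT.leaf [4,70,64,71,74,5,92,69] [([],347,[73,3,69,74]),
 ([23,111,22],374,[4,76,71,66,68]),
 ([112,110,22],378,[65,71,4,79])] [90,14])
 (CT.cons 97 (CT.leaf [3,70,82,68,73,93,5] [([],347,[73,4,71,74]),
 ([22],376,[3,71,3,65]),
 ([98,16],342,[64,71,64,79])] [15,97,15])
 (CT.cons 924 (CT.leaf [3,66,78,80,81,87,64,87] [([],347,[3,64,74,81,70]),
 ([112],360,[65,73,4,4]),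
 ([32,134,32],385,[3,3,71,4,69])] [95,15,92])
 (CT.cons 1367 (CT.leaf [78,70,77,66,5,94,77] [([],347,[65,82,78,66]),
 ([24,22],375,[70,72,75,82]),
 ([118],378,[4,75,78,79])] [15,91])
 (CT.cons 1357 (CT.leaf [73,79,69,76,2,5,88] [([],347,[77,74,69,74]),
 ([25,112],362,[67,74,67,4]),
 ([111,25],366,[70,3,64,71])] [94,90,16])
 (CT.cons 960 (CT.leaf [3,73,82,66,2,5,88] [([],347,[65,78,74,66,71]),
 ([24,22],368,[3,3,71,76,65]),
 ([130,132],385,[81,67,65,70])] [90,15])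
 (CT.cons 191 (CT.leaf [65,81,81,77,1,94,91] [([],347,[4,67,65,74]),
 ([],363,[3,80,67,67,81]),
 ([88,84,11],318,[65,70,77,4,64])] [92,98,15])
 (CT.cons 40 (CT.leaf [3,65,65,75,78,2,88,5] [([],347,[3,70,77,4,80]),
 ([112],354,[4,68,4,79]),
 ([115],377,[76,80,67,78])] [97,95])
 (CT.cons 945 (CT.leaf [67,80,78,4,1,5,93,78] [([],347,[67,69,3,70]),
 ([116],377,[3,68,3,79,77]),
 ([],335,[80,4,75,72])] [16,16,15])
 (CT.cons 107 (CT.leaf [67,73,68,73,88,70,93] [([],347,[72,77,80,74]),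
 ([24],361,[4,65,70,72]),
 ([],370,[71,82,76,73])] [94,92])
 CT.nil)))))))))))))

noncomputable def pz_T3_4 : CT := (CT.br [66,64,5,3,5] [181] (CT.cons 26 (CT.leaf [66,64,5,3,5] [([],346,[65,71,80,71]),
 ([118],378,[80,3,75,3]),
 ([95,15],349,[4,77,75,74])] [90,96,17])
 (CT.cons 68 (CT.leaf [65,71,64,88,69,88] [([],346,[65,75,78,66]),
 ([110,22],362,[71,80,64,3]),
 ([112,22],376,[67,82,67,73])] [97,15,94])
 (CT.cons 1031 (CT.leaf [68,74,66,68,2,5,88] [([],346,[77,69,69,64]),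
 ([25,112],378,[65,71,3,70]),
 ([16,15,15],345,[78,75,68,78])] [95,90,14])
 (CT.cons 18 (CT.leaf [66,64,64,5,4,5] [([],346,[64,80,67,71]),
 ([24,110],367,[3,75,3,72]),
 ([112],377,[78,76,4,69])] [96,92])
 (CT.cons 191 (CT.leaf [67,67,73,72,91,5,68] [([],346,[77,69,69,66]),
 ([],355,[70,76,4,76]),
 ([10,89,12],318,[82,68,81,69])] [92,17,15])
 (CT.cons 1241 (CT.leaf [73,76,69,4,2,88,92] [([],346,[64,80,70,76,3]),
 ([110,22,22],368,[65,4,80,77,69]),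
 ([30,131,31],385,[4,64,80,64])] [16,94,92])
 (CT.cons 1191 (CT.leaf [76,72,78,64,87,87,75] [([],346,[3,79,4,72,69]),
 ([23],367,[3,74,78,80,82]),
 ([117,115,22],366,[74,74,71,77])] [94,14])
 (CT.cons 952 (CT.leaf [3,67,70,67,77,88,88,86] [([],346,[3,79,81,70]),
 ([117,110,23],375,[74,69,66,72]),
 ([23,117],378,[72,77,74,72])] [98,97])
 (CT.cons 198 (CT.leaf [77,74,4,74,1,92,88,83] [([],346,[69,71,73,4]),
 ([112,24],353,[66,69,79,82]),
 ([18,101],320,[70,4,77,64])] [90,16,14])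
 (CT.cons 1070 (CT.leaf [3,65,69,79,66,1,87,84,91] [([],346,[79,75,70,3]),
 ([114,114],364,[70,74,3,78]),
 ([135,32,130],385,[3,80,66,68,68])] [93,14])
 (CT.cons 906 (CT.leaf [3,65,77,74,1,87,91] [([],346,[64,80,70,76]),
 ([22,118],368,[70,82,76,76]),
 ([130,138,32],385,[3,64,81,70,67])] [16,99,15])
 (CT.cons 1071 (CT.leaf [4,75,78,67,88,94,67] [([],346,[79,79,79,3]),
 ([24,22],367,[3,76,78,82,77]),
 ([110],378,[65,69,66,70])] [90,97,15])
 (CT.cons 905 (CT.leaf [65,75,68,75,88,92,2] [([],346,[3,80,4,70]),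
 ([116,22],380,[71,67,4]),
 ([115,23],366,[72,3,75,67])] [97,97,17])
 (CT.cons 1389 (CT.leaf [82,77,4,65,87,94,3] [([],346,[3,70,66,77]),
 ([23,24],366,[67,77,67,4]),
 ([92,14],345,[3,70,79,67,75])] [91,94,15])
 (CT.cons 1032 (CT.leaf [75,80,78,66,5,91,76] [([],346,[79,79,79,65]),
 ([25,115],379,[3,3,66,79,68]),
 ([116,114,22],366,[69,69,70,64])] [93,91,14])
 (CT.cons 1056 (CT.leaf [64,75,65,4,93,87,81] [([],346,[3,79,76,78]),
 ([117,110],364,[3,68,71,4,71]),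
 ([131,136,31],385,[75,80,66,77])] [16,95])
 (CT.cons 1240 (CT.leaf [70,64,81,70,1,87,3,88] [([],346,[3,69,82,75,67]),
 ([111,22],380,[4,70,65,74]),
 ([25],378,[81,81,78,68])] [96,95,17])
 (CT.cons 190 (CT.leaf [78,73,70,65,1,92,88,83] [([],346,[66,77,69,76]),
 ([22,110],353,[3,75,71,77,64]),
 ([102,108],320,[65,70,73,81])] [92,15,17])
 (CT.cons 954 (CT.leaf [70,69,76,68,88,88,86] [([],346,[78,73,70,69]),
 ([111],372,[69,77,65,82]),
 ([25,117,22],378,[74,75,3,70])] [95,15])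
 (CT.cons 1025 (CT.leaf [65,68,75,69,5,81,92] [([],346,[73,81,70,73]),
 ([25,22],366,[4,81,72,73]),
 ([92,16],345,[73,75,82,77])] [17,90])
 (CT.cons 42 (CT.leaf [3,77,75,80,5,73,93] [([],346,[4,74,82,68]),
 ([117,23],380,[66,76,71,77]),
 ([110],377,[3,3,77,68,68])] [92,15,17])
 (CT.cons 989 (CT.leaf [70,73,78,82,87,94,73] [([],346,[66,75,80,77]),
 ([118,25],379,[3,65,75,68,77]),
 ([114,118],366,[72,4,78,69])] [92,16])
 (CT.cons 1393 (CT.leaf [65,80,77,4,2,91,87] [([],346,[68,80,72,77]),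
 ([24,115,24],378,[3,71,68,75,67]),
 ([98,91],345,[70,69,75,78])] [97,99])
 (CT.cons 979 (CT.leaf [3,82,78,75,5,94,75] [([],346,[3,82,65,67,78]),
 ([110,115],374,[3,68,4,64]),
 ([112,25],378,[66,76,4,65])] [96,14])
 (CT.cons 41 (CT.leaf [65,70,65,75,69,5,94,74] [([],346,[64,69,65,81]),
 ([111,25],376,[69,72,75,77]),
 ([90,15],349,[3,73,76,81,75])] [97,94,14])
 (CT.cons 1091 (CT.leaf [3,69,82,77,65,92,4,92] [([],346,[69,74,77,66]),
 ([114,22],377,[73,72,74,69]),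
 ([94,94],345,[64,81,76,71])] [99,90])
 (CT.cons 992 (CT.leaf [71,82,75,87,70,87] [([],346,[80,70,76,78]),
 ([23,116],379,[76,65,78,75]),
 ([111,22],366,[66,77,70,4])] [15,97,14,14])
 (CT.cons 196 (CT.leaf [4,73,77,81,69,88,2,91] [([],346,[71,66,70,70]),
 ([111,24],369,[4,78,76,67]),
 ([82,80,10],318,[69,75,78,4])] [16,96,14])
 (CT.cons 1142 (CT.leaf [3,71,3,65,87,94,73] [([],346,[75,72,3,81]),
 ([116,116,22],368,[4,66,72,74,79]),
 ([139,33,30],385,[3,70,76,67])] [98,97])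
 (CT.cons 107 (CT.leaf [70,75,66,69,5,89,92] [([],346,[3,65,73,69]),
 ([111,23],354,[3,64,73,77]),
 ([25],370,[66,3,77,67])] [90])
 CT.nil)))))))))))))))))))))))))))))))

noncomputable def pz_T3_5 : CT := (CT.br [5,65,5] [180] (CT.cons 1 (CT.leaf [5,65,5] [([],345,[]),
 ([14,17,14],345,[73,67,4,75]),
 ([94,15],349,[4,74,78,75])] [92,91,16])
 (CT.cons 182 (CT.leaf [76,70,82,73,1,92,88,83] [([],345,[4]),
 ([17,98],337,[73,70,80,73]),
 ([88,84],318,[73,76,74,68])] [17,15])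
 (CT.cons 907 (CT.leaf [65,73,82,75,5,92,69] [([],345,[65]),
 ([16],348,[4,76,65,72,74]),
 ([137,139],385,[69,66,80,3])] [92,97,14])
 (CT.cons 59 (CT.leaf [80,3,78,67,93,5] [([],345,[64]),
 ([95,92],342,[3,76,80,69,72]),
 ([90,15],342,[68,75,67,73])] [17,98])
 (CT.cons 990 (CT.leaf [4,64,74,79,68,87,64,87] [([],345,[4,4]),
 ([96,93],343,[82,65,4,75]),
 ([112,111],366,[3,65,78,73,75])] [15,91])
 (CT.cons 1322 (CT.leaf [66,79,75,73,5,94,77] [([],345,[65,4]),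
 ([17,95],350,[74,74,74,69]),
 ([114,112],366,[73,80,64,69])] [94,15,90])
 (CT.cons 191 (CT.leaf [64,71,79,71,77,88,88,81] [([],345,[3,3]),
 ([],337,[72,66,80,80]),
 ([88,81,81],318,[3,80,72,78])] [93,96,91])
 (CT.cons 958 (CT.leaf [4,69,80,75,74,87,94,73] [([],345,[67,4]),
 ([99,95],348,[4,71,71,81,79]),
 ([33,137],385,[78,76,66,74])] [99,16,14])
 (CT.cons 1026 (CT.leaf [68,66,78,78,2,5,88] [([],345,[66,3]),
 ([95,93,16],345,[3,66,71,67,82]),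
 ([90,96,15],345,[64,74,71,80])] [98,96,95])
 (CT.cons 975 (CT.leaf [3,64,81,3,91,71,91] [([],345,[3,3,3]),
 ([16,14],343,[3,66,74,4]),
 ([24,115,24],378,[69,73,79,77])] [95,93,14])
 (CT.cons 1058 (CT.leaf [3,74,4,77,2,94,87] [([],345,[72,3]),
 ([96,14],345,[71,71,77,4]),
 ([98,95],345,[78,3,79])] [92,96,17])
 (CT.cons 1204 (CT.leaf [78,71,72,69,87,87,75] [([],345,[3,67,4]),
 ([16,94],350,[4,69,70,81,3]),
 ([110],378,[70,82,82])] [90,90,15])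
 (CT.cons 1056 (CT.leaf [4,73,77,70,70,5,92,64] [([],345,[72,4]),
 ([16,91],348,[74,78,76,68]),
 ([130,132],385,[75,68,4,72])] [92,92,14])
 (CT.cons 1125 (CT.leaf [65,78,73,79,1,92,93] [([],345,[72,65]),
 ([92,91,15],348,[73,65,79,77]),
 ([32,137],385,[69,4,80,74])] [92,91,16])
 (CT.cons 1008 (CT.leaf [78,71,71,5,93,1] [([],345,[65,67,4]),
 ([95,90,14],346,[80,65,73,77]),
 ([25,112],378,[3,78,3,65])] [16,15,15])
 (CT.cons 1108 (CT.leaf [78,78,2,5,88] [([],345,[69,3]),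
 ([15,94],346,[66,64,64,66]),
 ([117,112],366,[68,82,69])] [99])
 (CT.cons 996 (CT.leaf [82,77,81,87,72,92] [([],345,[68,4]),
 ([97,99],346,[65,68,79,76,66]),
 ([24,115,24],378,[72,81,75,82])] [98,91])
 (CT.cons 14 (CT.leaf [3,78,76,79,78,2,94,5] [([],345,[3,70,3]),
 ([15,91],345,[73,64,68,80]),
 ([91,14],349,[67,70,79,72])] [99,99,14])
 (CT.cons 971 (CT.leaf [65,69,66,77,2,88,5,4] [([],345,[71,67,4]),
 ([17,99,15],346,[3,69,77,73]),
 ([25,22],366,[82,68,73])] [17,99,16])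
 (CT.cons 939 (CT.leaf [80,69,81,70,87,67,87] [([],345,[68,68,4]),
 ([98],349,[82,70,67,68]),
 ([15],345,[3,72,74,72,67])] [91,95,17])
 (CT.cons 1071 (CT.leaf [66,70,66,77,93,88,75] [([],345,[70,3]),
 ([91,98],350,[4,64,77,82,80]),
 ([112,25,22],378,[71,74,3])] [90,97,15])
 (CT.cons 1012 (CT.leaf [3,66,68,74,5,85,91] [([],345,[68,67,4]),
 ([96,15],350,[4,79,65,79]),
 ([23,118,22],366,[80,3,72,67])] [15,94])
 (CT.cons 937 (CT.leaf [3,75,81,79,4,5,91,83] [([],345,[70,65]),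
 ([91,14],345,[3,67,77,68,65]),
 ([91,14],345,[80,66,74,77])] [91,14])
 (CT.cons 199 (CT.leaf [81,3,74,70,1,94,91] [([],345,[67,71,3]),
 ([94],336,[4,70,74,68]),
 ([20,105],320,[75,73,69,75])] [15,17])
 (CT.cons 1350 (CT.leaf [74,74,76,69,88,92,2] [([],345,[4,69,3]),
 ([92,15],349,[3,64,64,71,3]),
 ([96,14],345,[72,73,73,77])] [90,97,15])
 (CT.cons 18 (CT.leaf [74,82,78,4,2,88,5] [([],345,[71,65]),
 ([14,17,14],350,[3,70,77,76,82]),
 ([112,110,22],377,[3,64,73,4,64])] [99,17])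
 (CT.cons 194 (CT.leaf [3,68,78,71,64,91,5,68] [([],345,[69,64]),
 ([16],344,[78,78,73,75]),
 ([100,105],320,[3,71,74,66,80])] [95,17,17])
 (CT.cons 47 (CT.leaf [71,71,74,65,88,88] [([],345,[67,67,4]),
 ([99,90],346,[74,77,66]),
 ([114,22],377,[3,3,68,70,77])] [94,94])
 (CT.cons 983 (CT.leaf [3,80,78,4,1,5,93,78] [([],345,[70,64]),
 ([92,14],348,[4,72,82,77]),
 ([130,30,130],385,[74,65,67,70])] [91,97,14])
 (CT.cons 119 (CT.leaf [3,73,68,73,88,70,93] [([],345,[65,67,70,4]),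
 ([93],336,[3,71,66,80,66]),
 ([100,100],331,[66,70,82])] [90,96,17])
 CT.nil)))))))))))))))))))))))))))))))

noncomputable def pz_T3_6 : CT := (CT.br [64,3,5,4,5] [178,179,178,178,178] (CT.cons 2 (CT.leaf [64,3,5,4,5] [([],344,[68,67,78,79]),
 ([108,19],331,[66,64,81,71]),
 ([94,15],349,[66,76,4,70])] [98,17,14])
 (CT.cons 957 (CT.leaf [67,78,3,70,87,87,75] [([],344,[64,3,82,71,80]),
 ([102,105],334,[66,82,77,73]),
 ([130,31],385,[4,65,76,65])] [97,95,15])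
 (CT.cons 83 (CT.leaf [80,82,70,64,93,5] [([],344,[4,75,3,75]),
 ([109,20],320,[4,65,73,72]),
 ([95,16],342,[4,4,75,79,70])] [17,95,14])
 (CT.cons 158 (CT.leaf [3,67,76,69,64,91,5,69] [([],344,[4,76,67,69]),
 ([104,103],330,[3,3,71,76,70]),
 ([107,109],320,[4,69,81,79])] [99,95,16])
 (CT.cons 978 (CT.leaf [3,71,77,77,69,87,70,87] [([],344,[64,70,3,73]),
 ([106,18],333,[3,74,70,64,69]),
 ([115,24],378,[71,71,73,68])] [92,91,16])
 (CT.cons 191 (CT.leaf [69,72,64,76,88,88,81] [([],344,[3,64,79,82,70]),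
 ([],322,[3,77,75,65,77]),
 ([81,89,10],318,[64,79,69,69])] [94,92,91])
 (CT.cons 1390 (CT.leaf [73,67,74,70,5,91,83] [([],344,[3,73,77,3,74]),
 ([104,104],320,[67,78,68,68]),
 ([96,16,15],345,[3,78,64,73,70])] [98,15,17])
 (CT.cons 1089 (CT.leaf [69,82,67,80,2,88,92] [([],344,[4,4,70,66]),
 ([109,19],334,[77,75,68,76]),
 ([31,137],385,[64,70,65,77,4])] [90,99,90])
 (CT.cons 1282 (CT.leaf [3,67,77,3,64,5,91,70] [([],344,[71,80,81,3]),
 ([102,18,21],332,[75,66,69,67]),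
 ([117,24],378,[81,78,3,65])] [17,95,93])
 (CT.cons 43 (CT.leaf [71,78,69,67,5,94,74] [([],344,[66,64,78,73]),
 ([106],325,[68,75,80,77]),
 ([24,24],377,[3,3,82,77,3])] [94,96])
 (CT.cons 915 (CT.leaf [3,3,76,73,4,87,94,81] [([],344,[65,74,65]),
 ([109,101],331,[69,74,4,71]),
 ([14],338,[80,76,70,72])] [96,14])
 (CT.cons 135 (CT.leaf [3,65,69,81,70,87,73,93] [([],344,[3,65,68,81]),
 ([103],329,[67,65,79,65]),
 ([115,22],370,[3,75,81,70])] [94,17,15])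
 CT.nil)))))))))))))

noncomputable def pz_T3_7 : CT := (CT.br [66,82,65,68,92,82] [176,177,176,176,176] (CT.cons 53 (CT.leaf [66,82,65,68,92,82] [([],343,[80,66,73,71]),
 ([117],376,[3,76,74,69,82]),
 ([14],339,[79,72,66,77])] [15,90,15])
 (CT.cons 536 (CT.leaf [3,68,82,79,69,92,69] [([],343,[78,69,80,69]),
 ([22,118],366,[66,71,4]),
 ([15,91],345,[82,76,68,81])] [96,95,91])
 (CT.cons 491 (CT.leaf [72,66,3,71,92,77] [([],343,[64,72,65,78]),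
 ([111,24],369,[69,73,80,72]),
 ([11,80,13],318,[3,78,71,71])] [98,98,17])
 (CT.cons 224 (CT.leaf [3,64,79,73,92,78] [([],343,[64,75,71,73,68]),
 ([114,23],367,[3,79,66,82]),
 ([22,110],366,[64,76,65])] [94,16,15])
 (CT.cons 756 (CT.leaf [65,82,79,71,1,87,73] [([],343,[77,66,3,3]),
 ([22,118],368,[3,77,4,71,81]),
 ([32,134,31],385,[74,75,73,71])] [98,15,91])
 (CT.cons 282 (CT.leaf [3,72,78,72,66,92,77] [([],343,[75,80,74,74]),
 ([23,110],380,[4,69,70,79]),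
 ([112,24,22],366,[4,65,68,3])] [14,94,16])
 (CT.cons 396 (CT.leaf [74,80,64,77,92,69] [([],343,[3,79,78,70,67]),
 ([112,117,22],378,[70,69,73,73]),
 ([95,93,14],345,[72,73,68])] [98,91,14])
 (CT.cons 376 (CT.leaf [69,67,81,77,92,77] [([],343,[71,74,72,4]),
 ([24,24],362,[3,68,78,72,81]),
 ([111,24],377,[66,71,82,78])] [90,96,17])
 (CT.cons 546 (CT.leaf [4,64,78,72,92,77] [([],343,[3,64,76,78]),
 ([],365,[68,66,69,3]),
 ([104,103,18],331,[65,74,67,4,80])] [91,91])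
 (CT.cons 736 (CT.leaf [78,66,70,76,1,87,73] [([],343,[4,82,64,71,68]),
 ([22],351,[70,77,81,80]),
 ([100,100,19],320,[82,4,71])] [90,15,90])
 (CT.cons 280 (CT.leaf [65,75,70,79,91,86] [([],343,[66,76,76,77,79]),
 ([24,24],354,[3,75,4,76,73]),
 ([25],376,[64,74,79,64,79])] [98,97,14])
 (CT.cons 593 (CT.leaf [64,64,64,78,79,1,87,73] [([],343,[70,67,76,81]),
 ([112,110],370,[75,70,69,69]),
 ([98,16],349,[73,65,81,73])] [90])
 CT.nil)))))))))))))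

noncomputable def pz_T3_8 : CT := (CT.br [70,70,64,2,5] [174,175,174,174,174] (CT.cons 51 (CT.leaf [70,70,64,2,5] [([],342,[72,69,73,70]),
 ([90],349,[76,3,82,78]),
 ([14],335,[82,72,76,68])] [16,96,16])
 (CT.cons 558 (CT.leaf [79,71,82,65,1,92,69] [([],342,[3,71,71,68,75]),
 ([96,16],341,[66,69,69,74]),
 ([117,110],378,[66,76,74,81])] [94,92])
 (CT.cons 658 (CT.leaf [64,68,77,81,1,92,77] [([],342,[73,80,82,73]),
 ([96,95],348,[3,65,78,3,3]),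
 ([136,134],385,[3,70,82,66,73])] [97,93])
 (CT.cons 629 (CT.leaf [3,80,76,65,77,1,92,78] [([],342,[66,76,73,81,76]),
 ([99,95,14],345,[64,69,66]),
 ([95,92],342,[3,65,67,76,74])] [97,16])
 (CT.cons 308 (CT.leaf [64,64,81,71,1,1,87,73] [([],342,[65,68,76,78]),
 ([90,14],342,[4,70,69,65,77]),
 ([93,97],345,[4,71,74,77])] [16,96,16])
 (CT.cons 711 (CT.leaf [65,75,79,81,1,91,4] [([],342,[67,72,65,80]),
 ([92,97],348,[3,69,69,64,72]),
 ([137,135],385,[3,76,72,73,79])] [16,91,15])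
 (CT.cons 784 (CT.leaf [3,65,72,73,73,1,92,77] [([],342,[75,73,67,74]),
 ([90],350,[4,74,80,77,76]),
 ([22],378,[4,67,76,69,64])] [92,14,16])
 (CT.cons 804 (CT.leaf [67,79,69,66,1,92,69] [([],342,[3,81,67,4,73]),
 ([91],350,[75,65,4,65]),
 ([115,24],370,[3,76,69,71,71])] [97,99])
 (CT.cons 603 (CT.leaf [4,66,78,68,64,1,92,69] [([],342,[73,78,70,78]),
 ([98,16],344,[80,3,66,75]),
 ([109,20],320,[4,78,79,81,66])] [97,95,14])
 (CT.cons 288 (CT.leaf [68,3,3,3,1,1,87,73] [([],342,[67,80,74,82]),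
 ([99,14],347,[68,80,72,69]),
 ([22],376,[68,67,82,68])] [17,95,14])
 (CT.cons 708 (CT.leaf [71,67,82,82,1,92,78] [([],342,[67,4,81,73]),
 ([],339,[4,75,80,76]),
 ([97,14],349,[64,75,71,3])] [91])
 (CT.cons 495 (CT.leaf [3,64,66,72,78,1,1,87,73] [([],342,[3,80,81,77,66]),
 ([97,15],336,[4,72,74,68,75]),
 ([101,18],331,[70,70,73,81])] [15,97,15])
 CT.nil)))))))))))))

noncomputable def pz_T3_9 : CT := (CT.br [70,70,64,1,5] [172,173,172,173,172] (CT.cons 52 (CT.leaf [70,70,64,1,5] [([],341,[3,71,4,65,77]),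
 ([22],370,[65,81,67,75]),
 ([],338,[68,82,79,70])] [15,90,15])
 (CT.cons 565 (CT.leaf [70,70,64,1,5,4] [([],341,[3,82,75,77,79]),
 ([22,110],364,[3,67,4,69,77]),
 ([136,139,32],385,[73,81,67,70])] [17,15])
 (CT.cons 663 (CT.leaf [65,71,78,72,4,88,75] [([],341,[3,64,77,82,77]),
 ([111,25],375,[4,74,64,74]),
 ([116,111,24],378,[76,4,67,78])] [97,95,95])
 (CT.cons 587 (CT.leaf [3,70,67,82,76,87,83] [([],341,[68,3,69,73]),
 ([24,22,22],379,[82,78,3,80]),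
 ([112,110,22],370,[82,4,79,77])] [95,14])
 (CT.cons 268 (CT.leaf [64,64,81,71,87,73] [([],341,[3,71,75,68,67]),
 ([112],354,[3,77,64,3]),
 ([25,118],366,[66,3,75,65])] [97,92])
 (CT.cons 731 (CT.leaf [4,76,76,4,88,67] [([],341,[75,74,4,67]),
 ([118,110],374,[64,73,78,4,72]),
 ([22,117],378,[82,4,65,81])] [99,99,92])
 (CT.cons 794 (CT.leaf [3,74,81,77,88,75] [([],341,[67,77,75,79]),
 ([25,118,23],368,[81,69,78,78]),
 ([134,30],385,[75,74,72,64])] [90,17,17])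
 (CT.cons 814 (CT.leaf [66,78,3,69,1,5,4] [([],341,[3,75,65,4,81]),
 ([116,116],378,[64,68,79,71]),
 ([90],342,[4,66,69,66,3])] [99,17,14])
 (CT.cons 645 (CT.leaf [65,75,80,76,1,5,4] [([],341,[70,3,81,77]),
 ([112,110],377,[3,70,72,67,75]),
 ([91],349,[76,73,69,72])] [97,93])
 (CT.cons 358 (CT.leaf [68,3,3,3,87,73] [([],341,[73,71,66,68]),
 ([22],357,[81,80,72]),
 ([103,21],331,[68,67,78,79])] [90])
 (CT.cons 728 (CT.leaf [81,75,4,87,83] [([],341,[67,68,80,81]),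
 ([25,23],371,[3,68,71]),
 ([101,101,21],320,[4,75,64,79,81])] [91,95,17])
 (CT.cons 537 (CT.leaf [3,64,66,72,78,87,73] [([],341,[3,3,69,78,74]),
 ([],361,[67,76,78,67]),
 ([22,116],376,[3,69,77,82,73])] [16,15])
 CT.nil)))))))))))))

noncomputable def pz_T3_13 : CT := (CT.br [70,70,64,5] [167,168,167,167,167] (CT.cons 0 (CT.leaf [70,70,64,5] [([],337,[80,66,73,71]),
 ([],317,[67,75,74,74,77]),
 ([8,78,70],300,[66,80,69,79])] [16,16])
 (CT.cons 494 (CT.leaf [70,70,64,5,4] [([],337,[78,69,80,69]),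
 ([83,12],314,[72,3,78,73]),
 ([115,110,22],366,[3,74,64,74,69])] [93,96,91])
 (CT.cons 533 (CT.leaf [70,70,64,5,3] [([],337,[64,72,65,78]),
 ([10,10],312,[70,75,73,66]),
 ([118,110],377,[3,82,3,79,3])] [98,98,17])
 (CT.cons 209 (CT.leaf [70,70,64,5,64] [([],337,[64,75,71,73,68]),
 ([84,80],318,[67,79,73,68]),
 ([93,14,14],345,[77,69,73,67])] [93])
 (CT.cons 716 (CT.leaf [65,82,79,71,2,87,73] [([],337,[77,66,3,3]),
 ([13,87],312,[4,82,74,75]),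
 ([25,111,22],378,[64,74,78,65])] [92,17,15])
 (CT.cons 262 (CT.leaf [70,70,64,66,5,3] [([],337,[75,80,74,74]),
 ([80],318,[3,64,73,73,68]),
 ([91,14,17],345,[72,82,76,72])] [94,92,91])
 (CT.cons 336 (CT.leaf [69,74,74,71,5,4] [([],337,[3,79,78,70,67]),
 ([80,12],312,[82,64,80,68]),
 ([115,111],366,[3,66,81,67,75])] [17,95,14])
 (CT.cons 386 (CT.leaf [66,78,3,5,3] [([],337,[71,74,72,4]),
 ([87,13,10],315,[65,82,78,68]),
 ([87,83,12],318,[75,74,71,66])] [14,14,14])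
 (CT.cons 504 (CT.leaf [70,65,71,65,5,3] [([],337,[3,64,76,78]),
 ([85,80],311,[67,79,76,77]),
 ([114,25],376,[3,78,69,71,68])] [])
 (CT.cons 766 (CT.leaf [78,66,70,76,2,87,73] [([],337,[4,82,64,71,68]),
 ([84,83,10],318,[3,68,72,68,67]),
 ([],349,[64,80,80,64])] [92,98,15])
 (CT.cons 260 (CT.leaf [4,72,78,73,4,5,3,90] [([],337,[66,76,76,77,79]),
 ([13,13],316,[72,82,73,77]),
 ([104,100],331,[74,79,81,75])] [93,96,91])
 (CT.cons 635 (CT.leaf [64,64,64,78,79,2,87,73] [([],337,[70,67,76,81]),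
 ([10,12],308,[67,81,3,72]),
 ([109,100],320,[67,65,71,67])] [99,16,14])
 CT.nil)))))))))))))

noncomputable def pz_T3_14 : CT := (CT.br [65,4,5] [165,166,165,165,165] (CT.cons 0 (CT.leaf [65,4,5] [([],336,[80,67,76]),
 ([],324,[75,73,68,65]),
 ([8,70],300,[4,66,66,69,78])] [16,95,14])
 (CT.cons 282 (CT.leaf [65,4,5,4] [([],336,[65,74,82,66]),
 ([105,20,18],332,[81,81,74,75]),
 ([115,24],366,[3,73,64,74,70])] [14,94,16])
 (CT.cons 233 (CT.leaf [65,4,5,3] [([],336,[3,74,71,4]),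
 ([20,100,18],332,[77,4,71,81]),
 ([111,115,22],366,[70,65,68,74])] [97,16,14])
 (CT.cons 276 (CT.leaf [65,4,5,65] [([],336,[80,67,76,65]),
 ([],333,[73,78,67,74]),
 ([110],376,[66,71,80,82])] [95,95])
 (CT.cons 554 (CT.leaf [76,72,4,76,2,87,73] [([],336,[75,3,72,75]),
 ([101,18],331,[3,80,80,78,78]),
 ([99,14],342,[3,3,65,80,64])] [16,16,16])
 (CT.cons 204 (CT.leaf [65,4,66,5,3] [([],336,[74,67,79]),
 ([103,21],330,[69,70,75,67]),
 ([103,18,20],331,[3,66,79,75,73])] [97,94,93])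
 (CT.cons 467 (CT.leaf [64,69,75,64,77,1,1,91] [([],336,[3,74,71,3]),
 ([106,19],320,[82,71,75,81]),
 ([91,15,16],345,[68,81,78])] [16,94,16])
 (CT.cons 587 (CT.leaf [82,68,68,3,2,87,73] [([],336,[3,69,67,81,66]),
 ([104,104,20],333,[4,4,67,81]),
 ([115,22],370,[4,76,3,77,70])] [95,90,14])
 (CT.cons 209 (CT.leaf [65,4,69,69,5,3] [([],336,[76,76,69,65]),
 ([100,100],331,[3,65,75,71,73]),
 ([96,15],345,[4,74,64,79,74])] [93,98,14])
 (CT.cons 235 (CT.leaf [65,4,68,68,5,4] [([],336,[77,82,76,4]),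
 ([100],323,[3,81,76,70,72]),
 ([85,10,83],318,[3,70,67,68,76])] [93,14,92])
 (CT.cons 589 (CT.leaf [68,67,82,72,2,87,73] [([],336,[4,67,65,71,66]),
 ([105,102,19],334,[66,82,80,77]),
 ([31,132,30],385,[64,75,70,70])] [15,91,14])
 (CT.cons 465 (CT.leaf [65,4,66,70,5,65] [([],336,[67,71,72,66]),
 ([19],326,[79,66,73,3]),
 ([110,25],377,[77,75,71,68])] [90,15,90])
 CT.nil)))))))))))))

noncomputable def pz_T3 : CT := (CT.br [] [45,46,47,45,7,46,47,45,48,46,47,45] (CT.cons 847 pz_T3_0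
 (CT.cons 736 pz_T3_1
 (CT.cons 630 pz_T3_2
 (CT.cons 546 pz_T3_3
 (CT.cons 517 pz_T3_4
 (CT.cons 482 pz_T3_5
 (CT.cons 280 pz_T3_6
 (CT.cons 191 pz_T3_7
 (CT.cons 140 pz_T3_8
 (CT.cons 90 pz_T3_9
 (CT.cons 53 (CT.br [1,1] [45,47,46,45,47,46,45,47] (CT.cons 154 (CT.leaf [1,1] [([],340,[]),
 ([78,7],299,[3,81,73,78,76]),
 ([104,104],320,[76,65,68,68])] [99,99,92])
 (CT.cons 184 (CT.leaf [3,1,1] [([],340,[3]),
 ([76,70,6],298,[3,3,77,69,67]),
 ([87,12,11],318,[3,71,80,78,69])] [95,17,17])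
 CT.nil)))
 (CT.cons 52 (CT.br [1] [45,46,47,45,46,47,45,46] (CT.cons 54 (CT.leaf [1] [([],339,[]),
 ([95,92],343,[67,67,81,81]),
 ([117],376,[3,3,70,75,3])] [94,90,16])
 (CT.cons 85 (CT.leaf [64,1] [([],339,[3]),
 ([99],349,[69,64,73,66]),
 ([91],342,[74,77,65,78])] [94,17,15])
 CT.nil)))
 (CT.cons 51 (CT.br [2] [45,46,47,45,46,47,45,46] (CT.cons 104 (CT.leaf [2] [([],338,[]),
 ([90,14],344,[80,70,66]),
 ([109,101],331,[69,76,70,3])] [98,15,16])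
 (CT.cons 135 (CT.leaf [64,2] [([],338,[3]),
 ([14,16],341,[64,64,78,79]),
 ([22],370,[4,70,77,77,81])] [94,17,15])
 CT.nil)))
 (CT.cons 16 pz_T3_13
 (CT.cons 2 pz_T3_14
 (CT.cons 0 (CT.br [] [45,47,46,45,47,46,45,47] (CT.cons 1 (CT.leaf [] [([],335,[]),
 ([94],342,[3,82,82,77,64]),
 ([90],349,[75,80,69,71])] [96,14])
 (CT.cons 9 (CT.leaf [3] [([],335,[3]),
 ([98,90],347,[64,77,77,69,69]),
 ([116],377,[64,70,80,77])] [16,96,15])
 CT.nil)))
 CT.nil)))))))))))))))))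

theorem pz_T3_ok : ctB nets tb B Lc civ L0 al xF 390 pz_S (mapL (·.1) pz_Y) 3 pz_T3 true Lv Lc [] = true := by decide +kernel

noncomputable def pz_T4_0 : CT := (CT.br [69,64,74,68,1,91,91] [216,217] (CT.cons 154 (CT.leaf [69,64,74,68,1,91,91] [([],334,[3,64,77,64,68]),
 ([31,132,30],385,[3,74,78,69]),
 ([],336,[3,69,79,75,81])] [104,108,20,18])
 (CT.cons 962 (CT.leaf [71,68,76,70,5,87,90] [([],334,[80,77,80,3]),
 ([136,130],389,[71,82,3,81]),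
 ([138,33],388,[64,66,79,77,80])] [19,102])
 (CT.cons 912 (CT.leaf [3,64,79,72,92,93,90] [([],334,[3,76,80,81,68]),
 ([30,137,30],383,[3,71,3,72]),
 ([116,25],353,[72,75,4,73])] [102,101])
 (CT.cons 927 (CT.leaf [3,66,73,71,72,1,87,93,68] [([],334,[66,80,4,80]),
 ([31,130],386,[65,76,76,82]),
 ([112,24],353,[67,82,80,81])] [18,106,18,18])
 (CT.cons 2 (CT.leaf [68,74,76,74,2,91,91] [([],334,[73,75,73,69]),
 ([135,137,30],387,[3,68,82,72,65]),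
 ([114],371,[3,75,69,80,64])] [21,109,103,18])
 (CT.cons 951 (CT.leaf [78,69,78,72,92,69,93] [([],334,[74,65,71,65]),
 ([134,138,32],386,[82,69,73,67]),
 ([112],353,[3,67,82,82,72])] [21,102,108,18])
 (CT.cons 905 (CT.leaf [4,70,76,76,5,79,93] [([],334,[4,67,72,81,78]),
 ([136,136],389,[64,71,79,66]),
 ([136,136],388,[4,65,65,80])] [101,18,106,18])
 (CT.cons 57 (CT.leaf [76,67,76,70,2,91,5] [([],334,[80,77,80,4]),
 ([32,32,30],388,[80,77,80,4]),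
 ([102],327,[73,70,69,65])] [109,107])
 (CT.cons 964 (CT.leaf [4,65,70,79,72,92,93,90] [([],334,[3,75,3,78]),
 ([139,135],384,[80,66,3,71]),
 ([32,134],388,[69,79,76,82])] [20,100,104,18])
 (CT.cons 130 (CT.leaf [64,74,77,66,80,1,91,5] [([],334,[3,66,82,69,72]),
 ([33,30],388,[76,79,72,65]),
 ([108,19],330,[3,82,71,77,70])] [106,108,21,18])
 (CT.cons 911 (CT.leaf [75,79,79,74,5,87,90] [([],334,[67,82,66,3]),
 ([134,33,31],383,[70,69,65,82]),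
 ([117,24],353,[78,67,71,65])] [103,107,102,18])
 (CT.cons 61 (CT.leaf [4,67,71,72,4,2,91,5] [([],334,[75,73,65,77]),
 ([136,32,31],385,[4,73,78,68]),
 ([96,15],344,[68,4,80,75])] [18,100,18])
 (CT.cons 965 (CT.leaf [68,66,3,76,5,87,90] [([],334,[76,78,70,80]),
 ([136,31],385,[64,64,71,64,68]),
 ([14],344,[4,76,79,3,72])] [18,104,21,18])
 (CT.cons 1004 (CT.leaf [65,82,67,77,91,84,93] [([],334,[4,79,70,80]),
 ([33,138,30],388,[65,75,72]),
 ([106,104,20],330,[64,70,78])] [21,108,104])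
 (CT.cons 1003 (CT.leaf [65,70,72,81,76,5,87,90] [([],334,[75,80,65,76]),
 ([33],389,[3,69,75,66,72]),
 ([31,32,31],388,[3,64,66,80,4])] [21,104,106,20])
 (CT.cons 956 (CT.leaf [3,64,76,3,91,84,93] [([],334,[64,66,72]),
 ([138,33],389,[65,80,73,82]),
 ([30,130],388,[3,79,3,71,4])] [100,103,107])
 (CT.cons 999 (CT.leaf [71,76,77,4,1,87,93,68] [([],334,[72,69,73]),
 ([30,33,30],389,[69,65,80,3]),
 ([32,132],388,[4,76,66,71,79])] [103,107,105])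
 (CT.cons 914 (CT.leaf [3,67,82,70,69,1,87,93,68] [([],334,[66,76,81,79]),
 ([33,138],387,[3,3,70,73,80]),
 ([25,23],353,[69,3,3,73])] [21,109,19])
 (CT.cons 56 (CT.leaf [4,4,73,77,74,88,93,70] [([],334,[68,64,74,67]),
 ([131,136,132],386,[69,74,76,76]),
 ([],365,[4,64,72,4,70])] [105,103,19,20])
 (CT.cons 131 (CT.leaf [78,72,4,73,1,91,5] [([],334,[73,79,70,77]),
 ([],387,[71,78,4,78]),
 ([],351,[65,78,67,4])] [104,100])
 CT.nil)))))))))))))))))))))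

noncomputable def pz_T4_1 : CT := (CT.br [3,5,64,5] [215,214,215,214,215] (CT.cons 9 (CT.leaf [3,5,64,5] [([],333,[74,81,71,75]),
 ([114,25],379,[75,68,76,73]),
 ([],371,[68,74,65,77])] [20,109,20,18])
 (CT.cons 182 (CT.leaf [4,66,78,70,67,88,88,81] [([],333,[3,68,78,82,77]),
 ([117],376,[3,71,66,79]),
 ([95,91],336,[3,67,80,66,80])] [18,104,100,18])
 (CT.cons 81 (CT.leaf [3,75,74,78,78,88,69,88] [([],333,[69,71,71,81]),
 ([24,23],371,[3,74,67,79,70]),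
 ([104,19],327,[66,74,67,69])] [104,100])
 (CT.cons 1136 (CT.leaf [72,75,77,81,5,88,2] [([],333,[68,4,72,80]),
 ([116,111,25],380,[4,77,73,3,70]),
 ([112],353,[3,77,3,66,66])] [102,108,18])
 (CT.cons 1229 (CT.leaf [3,73,72,68,2,88,92] [([],333,[3,67,81,72,73]),
 ([111,24],367,[73,67,82,71]),
 ([116,116,22],353,[64,3,78,65,4])] [102,106,20,18])
 (CT.cons 990 (CT.leaf [68,65,76,67,91,71,91] [([],333,[72,76,80,78]),
 ([115,22,22],364,[73,68,66,71]),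
 ([135,137,30],388,[68,65,75,77])] [21,101,18,18])
 (CT.cons 1163 (CT.leaf [80,66,70,77,87,87,75] [([],333,[65,65,67,75]),
 ([25,112],353,[76,64,77,71]),
 ([100,104,19],330,[3,75,64,73])] [108,104,21])
 (CT.cons 940 (CT.leaf [66,73,71,66,87,87,75] [([],333,[67,75,65,79]),
 ([115,24],378,[71,71,73,71]),
 ([98],344,[3,70,66,73,65])] [102,108,104])
 (CT.cons 163 (CT.leaf [79,82,92,5] [([],333,[71,64,79,72]),
 ([],355,[70,82,80,81]),
 ([82,13],308,[67,72,66,81])] [18,105,102])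
 (CT.cons 35 (CT.leaf [77,67,67,65,92,92,83] [([],333,[64,74,3,82,67]),
 ([111,24],369,[64,70,3,80]),
 ([82],313,[77,77,66,64])] [21,21,109,18])
 (CT.cons 919 (CT.leaf [3,78,71,79,78,93,87,81] [([],333,[73,71,66,75]),
 ([115,22],370,[3,73,66]),
 ([95,14],336,[65,72,66,79,68])] [103,18,105,20])
 (CT.cons 105 (CT.leaf [71,79,74,70,87,72,93] [([],333,[64,76,72,64,69]),
 ([24],365,[66,3,79,67]),
 ([19,105],330,[3,72,67,78,75])] [100])
 CT.nil)))))))))))))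

noncomputable def pz_T4_2 : CT := (CT.br [65,71,65,77,87,1,91] [213,212] (CT.cons 1 (CT.leaf [65,71,65,77,87,1,91] [([],332,[69,76,65,70]),
 ([115],367,[80,69,69,75]),
 ([24],371,[73,65,81,80])] [104,104,19])
 (CT.cons 911 (CT.leaf [3,69,78,69,66,1,87,84,91] [([],332,[80,66,73,69]),
 ([22,24],362,[3,79,65,70,77]),
 ([116,116],353,[64,81,73,68,4])] [108,104])
 (CT.cons 948 (CT.leaf [3,70,82,82,79,93,87,81] [([],332,[66,77,65,75]),
 ([110,115,22],374,[71,68,66]),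
 ([],353,[3,67,80,69,70])] [21,104,106,20])
 (CT.cons 1018 (CT.leaf [73,78,81,79,2,88,91] [([],332,[4,72,77,81]),
 ([117,23],367,[74,81,72,78]),
 ([23,24],353,[67,76,4,72])] [20,103,19])
 (CT.cons 1141 (CT.leaf [70,70,65,70,2,88,91] [([],332,[79,4,66,69]),
 ([111,23],366,[3,79,65,81,68]),
 ([90,94],336,[78,82,69])] [20,109,18,18])
 (CT.cons 13 (CT.leaf [72,64,66,82,88,88,67] [([],332,[4,76,68,79,70]),
 ([114,110],362,[73,82,73,69]),
 ([22],357,[64,75,71,66])] [105,101])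
 (CT.cons 46 (CT.leaf [72,65,80,81,5,89,5] [([],332,[3,68,64,70,4]),
 ([24,114,23],380,[74,64,71]),
 ([112,22],371,[3,3,72,75,67])] [21,104,106])
 (CT.cons 972 (CT.leaf [76,69,78,3,88,91,2] [([],332,[79,67,77,75]),
 ([117,24],360,[82,78,3,74]),
 ([30,137,30],388,[74,76,70,76])] [19,101,105])
 (CT.cons 910 (CT.leaf [3,3,81,81,1,91,79,94] [([],332,[66,3,79,3]),
 ([118,23],380,[66,3,75,64]),
 ([112,24],353,[65,4,73,70])] [103,109,103,19])
 (CT.cons 1149 (CT.leaf [79,68,3,79,92,5,85] [([],332,[75,82,74,3]),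
 ([115,22,22],368,[3,70,74,4,73]),
 ([139,30,30],388,[70,70,77,74])] [105,103])
 (CT.cons 189 (CT.leaf [4,69,66,77,73,1,94,91] [([],332,[70,65,4,80]),
 ([],358,[3,73,4,75,75]),
 ([126,126,26],301,[68,76,76,4])] [108,106,108])
 (CT.cons 180 (CT.leaf [69,3,78,72,1,94,91] [([],332,[3,71,79,68,77]),
 ([115,24],366,[71,79,82,75]),
 ([95,91],336,[3,69,76,70,74])] [18,18,106])
 (CT.cons 32 (CT.leaf [75,73,79,73,5,94,74] [([],332,[3,78,78,68]),
 ([115],369,[3,80,75,78,4]),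
 ([88,82,10],308,[79,72,69,75])] [103,103,104,19])
 (CT.cons 61 (CT.leaf [3,77,76,70,76,88,69,88] [([],332,[70,3,82]),
 ([24,116,25],378,[73,76,70,76]),
 ([98,90],344,[79,75,65])] [19,109,103])
 (CT.cons 1087 (CT.leaf [3,72,75,66,76,88,91,2] [([],332,[69,76,65,4]),
 ([22],352,[66,74,75]),
 ([23,110,22],353,[81,76,81,73])] [19,107,101,18])
 (CT.cons 975 (CT.leaf [65,80,67,4,5,94,71] [([],332,[3,69,76,68,67]),
 ([111,23],371,[3,67,80,66]),
 ([100,105,18],330,[67,82,70,65])] [21,104])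
 (CT.cons 932 (CT.leaf [81,72,78,81,88,91,2] [([],332,[4,65,4,68]),
 ([25],368,[64,77,64,69]),
 ([136,33,30],388,[77,66,80,70])] [105,106,18,18])
 (CT.cons 1264 (CT.leaf [65,72,65,73,5,92,81] [([],332,[64,70,73,75]),
 ([],375,[3,70,69,69,73]),
 ([],353,[70,82,73,73])] [102,102,101])
 (CT.cons 978 (CT.leaf [4,80,3,73,79,1,87,87,1] [([],332,[78,68,70,70]),
 ([116,25],360,[72,82,80,69]),
 ([131,132],388,[3,65,71,73,64])] [109,107,100])
 (CT.cons 1053 (CT.leaf [80,77,3,66,2,5,93] [([],332,[3,68,78,71,67]),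
 ([22,24],364,[3,66,76,4,64]),
 ([139,32],388,[3,3,3,71,4])] [103,100,20])
 CT.nil)))))))))))))))))))))

noncomputable def pz_T4_3 : CT := (CT.br [3,69,78,72,80,92,92,83] [210,211,210,210,210] (CT.cons 49 (CT.leaf [3,69,78,72,80,92,92,83] [([],331,[78,72,81,74]),
 ([90,90,15],350,[71,74,69,3]),
 ([112],371,[73,80,68,82])] [102,105,18,18])
 (CT.cons 1175 (CT.leaf [80,75,71,80,87,94,73] [([],331,[80,64,77,82]),
 ([91,17],348,[72,66,73,75]),
 ([30,131],388,[81,79,64])] [107,19,107])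
 (CT.cons 1136 (CT.leaf [3,65,81,69,78,2,93,92] [([],331,[64,79,64,70,74]),
 ([98,95],350,[64,80,72,69]),
 ([117,24],353,[3,78,64,79])] [106,104,20])
 (CT.cons 1367 (CT.leaf [72,80,82,65,87,87,84] [([],331,[4,64,76,77,80]),
 ([94,15],349,[3,73,64,76,80]),
 ([15],344,[77,82,82,72])] [104,101,18])
 (CT.cons 183 (CT.leaf [74,3,78,70,91,91,79] [([],331,[81,65,72,78]),
 ([99,17,14],345,[69,79,66,72]),
 ([93],336,[72,68,64,74])] [108,104,101])
 (CT.cons 48 (CT.leaf [3,73,67,77,76,1,92,88] [([],331,[81,76,74,70]),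
 ([90],341,[3,66,3,73,73]),
 ([22],357,[3,64,79,64,80])] [103,21])
 (CT.cons 96 (CT.leaf [74,69,79,81,93,5,66] [([],331,[4,65,74,65,76]),
 ([14],338,[68,77,79,73]),
 ([94,14],344,[3,80,72,76,73])] [100,18,18])
 (CT.cons 1375 (CT.leaf [3,67,70,74,82,5,94,77] [([],331,[4,74,70,77,81]),
 ([94,93],336,[3,77,80,78]),
 ([108],330,[65,71,81,72,66])] [106,105,20])
 (CT.cons 1315 (CT.leaf [3,66,69,80,67,1,87,84,91] [([],331,[66,71,77]),
 ([92,92,14],348,[3,78,66,80,81]),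
 ([136,30],388,[78,3,81,75])] [105,20])
 (CT.cons 1237 (CT.leaf [3,72,82,74,1,87,87,1] [([],331,[71,73,64]),
 ([99,14],342,[67,82,66,70]),
 ([97,15],336,[75,65,65,71])] [21,108])
 (CT.cons 162 (CT.leaf [70,4,4,80,1,94,5] [([],331,[3,73,76,78,78]),
 ([],337,[71,82,78]),
 ([13,13],316,[4,66,82,77,64])] [21,104,18])
 (CT.cons 120 (CT.leaf [3,66,80,78,74,87,73,93] [([],331,[79,78,79,78]),
 ([98,16],343,[69,66,76,76]),
 ([],365,[68,64,66,64])] [109,103,20])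
 CT.nil)))))))))))))

noncomputable def pz_T4_4 : CT := (CT.br [68,66,3,5,3,5] [208,209,208,208,208] (CT.cons 19 (CT.leaf [68,66,3,5,3,5] [([],330,[68,82,71,68]),
 ([105],330,[67,81,69,65]),
 ([],328,[77,81,3,72])] [105,21,19])
 (CT.cons 71 (CT.leaf [64,69,73,73,88,69,88] [([],330,[3,82,74,77,72]),
 ([100],333,[65,80,4,79]),
 ([24],365,[78,69,66,74])] [19,105])
 (CT.cons 1076 (CT.leaf [67,73,69,73,2,5,88] [([],330,[4,82,64,78,69]),
 ([100,108],334,[75,68,81,72]),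
 ([33,131],388,[70,78,71,74])] [106,103,19])
 (CT.cons 7 (CT.leaf [68,66,3,64,5,4,5] [([],330,[77,80,66,71]),
 ([109,103,18],332,[3,66,80,76,77]),
 ([115,24],371,[4,74,80,74,69])] [105,18,105])
 (CT.cons 184 (CT.leaf [65,72,77,79,91,5,68] [([],330,[3,64,79,73,82]),
 ([104,102],331,[75,77,71,73]),
 ([91],336,[3,75,80,68,72])] [109,103,104,18])
 (CT.cons 937 (CT.leaf [66,75,70,65,2,88,92] [([],330,[3,3,68,73,80]),
 ([101,20],334,[67,70,70,82]),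
 ([136,131,30],388,[74,71,65,82])] [19,102,20])
 (CT.cons 1023 (CT.leaf [64,66,66,71,87,87,75] [([],330,[82,71,74,80]),
 ([21,102,18],333,[64,81,70]),
 ([22,110],353,[73,4,79,66])] [109,106,19])
 (CT.cons 1286 (CT.leaf [70,78,80,64,1,87,84,91] [([],330,[79,66,68,67]),
 ([107,19],330,[73,72,68]),
 ([109,19],330,[65,77,82,65])] [18,107])
 (CT.cons 1054 (CT.leaf [3,65,81,80,64,88,94,67] [([],330,[3,77,69,69,70]),
 ([106],320,[3,79,68,80]),
 ([95,92],344,[66,81,67,74])] [104,106,20])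
 (CT.cons 1305 (CT.leaf [78,79,70,77,92,4,92] [([],330,[3,71,74,75,73]),
 ([106,21],325,[73,64,69,65]),
 ([110,22],371,[3,74,64,77,65])] [106,103,105,20])
 (CT.cons 189 (CT.leaf [3,3,77,69,71,88,2,91] [([],330,[3,81,78,74,72]),
 ([],321,[64,74,77,3,72]),
 ([27,27,27],301,[3,76,3,69,71])] [101,105,109])
 (CT.cons 142 (CT.leaf [3,67,69,3,78,5,89,92] [([],330,[70,67,73,81]),
 ([],328,[4,65,65,79,75]),
 ([105,21,19],330,[78,73,81,3])] [105])
 CT.nil)))))))))))))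

noncomputable def pz_T4_14 : CT := (CT.br [5] [190,189,190,189,190] (CT.cons 0 (CT.leaf [5] [([],320,[]),
 ([],340,[70,75,74,82]),
 ([],299,[67,79,65,82])] [103,19,104])
 (CT.cons 472 (CT.leaf [5,4] [([],320,[4]),
 ([17,15],346,[4,73,3,79]),
 ([23,24,22],353,[77,75,66,70])] [20,109,18,18])
 (CT.cons 492 (CT.leaf [5,3] [([],320,[3]),
 ([93,97],346,[4,78,69,73,81]),
 ([25,112],353,[71,64,82,78])] [109,19,101])
 (CT.cons 482 (CT.leaf [5,65] [([],320,[65]),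
 ([96],344,[3,74,74,68,82]),
 ([103,105],330,[65,68,78,74])] [109,20,103])
 (CT.cons 470 (CT.leaf [5,4,4] [([],320,[4,4]),
 ([91,14],337,[71,65,72,4]),
 ([10,12],308,[78,75,77,68])] [107,108,104])
 (CT.cons 561 (CT.leaf [72,74,4,71,2,87,73] [([],320,[65,4]),
 ([94,14,14],348,[70,75,80,65]),
 ([],388,[3,71,79,65,74])] [105,103,19,20])
 (CT.cons 477 (CT.leaf [3,65,76,73,71,2,88,67] [([],320,[3,3]),
 ([95,90],345,[65,67,71,73]),
 ([16],344,[3,71,66,82,76])] [103,18,103,18])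
 (CT.cons 565 (CT.leaf [76,69,82,69,2,87,73] [([],320,[3,67,4]),
 ([95,16],342,[70,78,74,68]),
 ([98,16],344,[67,77,70,73])] [18,106,104])
 (CT.cons 504 (CT.leaf [69,69,5,3] [([],320,[69,69,3]),
 ([92,14,16],345,[81,78,81]),
 ([94],336,[75,79,75,3])] [103,18,101,18])
 (CT.cons 499 (CT.leaf [70,5,3] [([],320,[70,3]),
 ([93],347,[66,68,68,64]),
 ([24,22],371,[77,65,77,76])] [18,105,20])
 (CT.cons 485 (CT.leaf [70,5,65] [([],320,[70,65]),
 ([90,17],343,[3,74,65,72]),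
 ([22],351,[65,76,3,73])] [101,19,20,19])
 (CT.cons 562 (CT.leaf [73,64,74,81,2,93,69] [([],320,[4,70,70,3]),
 ([90,15],341,[3,64,80,69,76]),
 ([25,23],371,[3,68,71,68,72])] [106,106,103])
 CT.nil)))))))))))))

noncomputable def pz_T4 : CT := (CT.br [] [53,50,54,53,10,54,53,52,54,53,54,53,54] (CT.cons 554 pz_T4_0
 (CT.cons 529 pz_T4_1
 (CT.cons 500 pz_T4_2
 (CT.cons 379 pz_T4_3
 (CT.cons 335 pz_T4_4
 (CT.cons 189 (CT.br [68,78,80,65,92,82] [206,10,207,206,10,207,206,10] (CT.cons 53 (CT.leaf [68,78,80,65,92,82] [([],329,[65,69,71,4]),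
 ([24],363,[3,69,72,75]),
 ([],313,[80,77,82])] [109,21,101,18])
 (CT.cons 466 (CT.leaf [3,73,73,79,77,92,69] [([],329,[64,66,71,66]),
 ([114,116,22],362,[67,81,75,80]),
 ([],353,[69,80,80,69])] [105,109,105])
 (CT.cons 802 (CT.leaf [4,65,65,75,1,87,73] [([],329,[70,77,82,72]),
 ([22],358,[3,74,74,69,73]),
 ([122,126,120],301,[3,74,67,78])] [105,21])
 (CT.cons 853 (CT.leaf [4,82,78,79,81,1,87,73] [([],329,[4,70,4,74,75]),
 ([114,22],370,[66,72,79,67]),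
 ([91],344,[71,75,75,74])] [109,103])
 (CT.cons 383 (CT.leaf [74,4,71,4,91] [([],329,[75,81,69,67]),
 ([118,22],373,[3,81,73,4,66]),
 ([22],351,[3,64,66,82,67])] [101,109,103])
 CT.nil))))))
 (CT.cons 162 (CT.br [4,75,3,78,70,92,82] [53,54,53,205,53,54,53,53] (CT.cons 53 (CT.leaf [4,75,3,78,70,92,82] [([],328,[3,3,77,66,66]),
 ([18],322,[4,82,75]),
 ([13],313,[71,77,76,67])] [106,106,18,18])
 (CT.cons 231 (CT.leaf [3,72,81,77,71,92,69] [([],328,[3,66,73,69,71]),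
 ([20,20],330,[3,67,69,69,71]),
 ([105],330,[3,64,70,73,70])] [105,109,104])
 (CT.cons 684 (CT.leaf [71,76,80,78,1,87,73] [([],328,[3,75,67,73,3]),
 ([107,18],326,[65,68,4,4]),
 ([24],365,[77,82,76,70])] [100,104,101])
 (CT.cons 323 (CT.leaf [65,77,65,72,92,77] [([],328,[82,78,3,82]),
 ([104],325,[80,76,80,82]),
 ([],351,[75,81,71,68])] [18,109,21])
 (CT.cons 687 (CT.leaf [70,80,65,65,1,87,73] [([],328,[81,3,81,76]),
 ([],319,[3,80,3,81]),
 ([12],316,[4,77,68,79,82])] [102,20,19])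
 CT.nil))))))
 (CT.cons 141 (CT.br [70,3,2,5] [203,10,204,203,203,203,203] (CT.cons 51 (CT.leaf [70,3,2,5] [([],327,[73,69,77,76]),
 ([18],322,[3,82,73,78,70]),
 ([13],316,[65,4,67,70])] [109,20,18])
 (CT.cons 599 (CT.leaf [4,82,3,80,1,92,69] [([],327,[3,64,71,77,3]),
 ([109,107],334,[74,82,75,82]),
 ([32,32,30],388,[74,82,75,82])] [102])
 (CT.cons 333 (CT.leaf [69,66,72,79,1,1,87,73] [([],327,[76,71,66,79]),
 ([104],327,[4,69,3,74,70]),
 ([104],327,[80,64,73,79])] [21,104,20])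
 (CT.cons 809 (CT.leaf [69,4,73,71,1,91] [([],327,[65,80,71,73]),
 ([19],321,[70,81,4,70]),
 ([129,125,27],301,[3,65,68,73,73])] [105,107,100,19])
 (CT.cons 405 (CT.leaf [67,76,76,74,1,1,87,73] [([],327,[71,72,80,78]),
 ([104,19],333,[3,81,68,72,66]),
 ([24,23],371,[68,75,4,72])] [100,108,104])
 CT.nil))))))
 (CT.cons 91 (CT.br [70,3,1,5] [10,201,202,10,201,199,202] (CT.cons 52 (CT.leaf [70,3,1,5] [([],326,[76,74,75,78]),
 ([],365,[3,73,69,79]),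
 ([100],328,[64,70,75,78])] [109,21,18])
 (CT.cons 641 (CT.leaf [70,3,1,5,4] [([],326,[3,69,71,77,70]),
 ([110,23],364,[64,66,74,70,82]),
 ([],388,[74,68,65,72])] [19,108,104])
 (CT.cons 323 (CT.leaf [69,66,72,79,87,73] [([],326,[71,71,3,81]),
 ([22],356,[64,74,67,79]),
 ([22],351,[3,80,77,77])] [100,104,19])
 (CT.cons 820 (CT.leaf [69,4,73,71,2,91] [([],326,[69,75,66,76]),
 ([24,22],372,[74,4,65,71]),
 ([22],357,[75,80,74])] [103,21,18])
 (CT.cons 344 (CT.leaf [67,76,76,74,87,73] [([],326,[3,68,80,3,74]),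
 ([116,24],377,[69,75,4,81]),
 ([94,15],336,[64,78,70,74])] [104,102,109])
 CT.nil))))))
 (CT.cons 63 (CT.br [3,69,64,1,5] [197,198,197,198,197,197,197,197] (CT.cons 52 (CT.leaf [3,69,64,1,5] [([],325,[80,77,82,80]),
 ([],351,[67,71,76,64]),
 ([100],328,[4,71,68,72,4])] [100,108,18,18])
 (CT.cons 718 (CT.leaf [3,69,64,1,5,4] [([],325,[74,77,65,79]),
 ([117,111],368,[76,76,79,68]),
 ([132,138],388,[67,69,81,77])] [109,104,100])
 (CT.cons 686 (CT.leaf [4,4,77,79,88,75] [([],325,[70,79,67,70]),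
 ([111],352,[4,65,4,73]),
 ([22],365,[82,75,67,71])] [20,105,101,18])
 (CT.cons 513 (CT.leaf [4,4,74,64,75,87,73] [([],325,[3,73,80,82,67]),
 ([110,110],377,[4,72,75,66,77]),
 ([99,14],344,[4,67,73,79])] [102,20])
 (CT.cons 723 (CT.leaf [71,79,74,4,88,75] [([],325,[79,65,69,69]),
 ([111,23],371,[81,64,3,66]),
 ([18,20],330,[79,69,82,78])] [102,108,106])
 (CT.cons 687 (CT.leaf [68,80,82,65,1,5,4] [([],325,[3,64,68,70,74]),
 ([110],355,[70,70,66,72]),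
 ([12],316,[3,69,82,66])] [106,18,106])
 (CT.cons 204 (CT.leaf [69,76,70,82,87,81] [([],325,[4,80,74,79,65]),
 ([22],363,[64,80,65,69]),
 ([10,13],308,[64,64,72,78])] [107,108,18,20])
 CT.nil))))))))
 (CT.cons 53 (CT.br [1,1] [53,54,53,196,53,54,196] (CT.cons 154 (CT.leaf [1,1] [([],324,[]),
 ([8,70],300,[69,81,71,71]),
 ([96],336,[75,66,79,4])] [105,102,19])
 (CT.cons 169 (CT.leaf [65,1,1] [([],324,[65]),
 ([75,9],296,[77,67,75,71]),
 ([81,12],308,[71])] [102,106,20])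
 (CT.cons 162 (CT.leaf [4,4,1,1] [([],324,[4,4]),
 ([76,71],297,[4,67,77,79,73]),
 ([88,12],316,[79,70,67,79])] [106])
 (CT.cons 157 (CT.leaf [3,67,4,1,1] [([],324,[3,67,4]),
 ([7],295,[64,81,78,64]),
 ([121,128,120],301,[3,72,78,76,4])] [20,18,109,18])
 (CT.cons 173 (CT.leaf [70,65,1,1] [([],324,[70,65]),
 ([],291,[64,3,72,67]),
 ([70,7],299,[81,72,67,70])] [20,20,107,19])
 CT.nil))))))
 (CT.cons 20 (CT.br [3,69,64,5] [194,194,194,194,195,194,194,195,194,194,194,194] (CT.cons 0 (CT.leaf [3,69,64,5] [([],323,[67,4,81]),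
 ([],309,[3,64,75]),
 ([79,75,70],299,[70,74,76,78])] [18,20,105])
 (CT.cons 421 (CT.leaf [3,69,64,5,4] [([],323,[67,4,81,4]),
 ([86,13],312,[78,69,78,75]),
 ([111,22],353,[76,69,80,64])] [101,106,18])
 (CT.cons 241 (CT.leaf [3,69,64,5,3] [([],323,[67,4,81,3]),
 ([11,11],315,[3,71,76,71,80]),
 ([82,11,11],308,[3,80,4,72])] [20,19,102,18,18])
 (CT.cons 611 (CT.leaf [67,79,67,75,2,87,73] [([],323,[65,79,70,66,76]),
 ([13,11],318,[69,66,64,3]),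
 ([93,15],336,[68,81,68,80])] [19,101,104,21])
 (CT.cons 312 (CT.leaf [3,69,64,72,5,65] [([],323,[67,77,81,4]),
 ([12,12],314,[74,75,4,65]),
 ([112],371,[68,82,77,79])] [102,108,21])
 (CT.cons 244 (CT.leaf [3,65,65,73,64,2,94,82] [([],323,[3,82,3,74,82]),
 ([12],307,[73,3,81,78]),
 ([82,13],313,[77,3,74,76])] [108,19,21,18])
 (CT.cons 652 (CT.leaf [64,82,67,4,5,79] [([],323,[76,65,74,70]),
 ([12,11],311,[65,4,72,78]),
 ([22],365,[3,71,65,74,65])] [100,105,20,18])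
 CT.nil))))))))
 (CT.cons 19 (CT.br [4,4,5] [53,54,53,193,53,54,53,53] (CT.cons 0 (CT.leaf [4,4,5] [([],322,[3,66,3,76,72]),
 ([],306,[4,75,4,80]),
 ([9,70,9],299,[66,75,81,81])] [102,21,109])
 (CT.cons 211 (CT.leaf [4,4,5,4] [([],322,[4,79,81,64,70]),
 ([89,87,11],318,[3,3,3,75,78]),
 ([],344,[71,66,77,65])] [107,109,18,18])
 (CT.cons 689 (CT.leaf [71,76,80,78,2,87,73] [([],322,[71,68,80,68]),
 ([13],314,[82,65,4,75]),
 ([110],365,[68,70,69,66])] [20,109,104])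
 (CT.cons 333 (CT.leaf [4,4,72,5,3] [([],322,[3,64,69,79]),
 ([82],316,[3,76,67,68]),
 ([20,18],327,[72,76,74,68])] [18,104,100])
 (CT.cons 692 (CT.leaf [70,80,65,65,2,87,73] [([],322,[3,65,81,81]),
 ([13],313,[4,64,3,72]),
 ([],328,[72,3,81,78])] [100,20])
 CT.nil))))))
 (CT.cons 14 (CT.br [70,3,5] [10,192,10,191,10,192,10,192,10,192,10] (CT.cons 0 (CT.leaf [70,3,5] [([],321,[65,69,71,4]),
 ([],303,[3,71,66,71]),
 ([70,76,6],299,[80,72,66])] [102,21])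
 (CT.cons 459 (CT.leaf [70,3,5,4] [([],321,[64,66,71,66]),
 ([122,128],304,[3,3,74,71,72]),
 ([115],353,[77,66,77,66])] [21])
 (CT.cons 792 (CT.leaf [4,65,65,75,2,87,73] [([],321,[70,77,82,72]),
 ([120,125,26],304,[3,80,77,77,68]),
 ([22],357,[70,82,3,73])] [106,21,18])
 (CT.cons 833 (CT.leaf [4,82,78,79,81,2,87,73] [([],321,[4,70,4,74,75]),
 ([128,126,29],301,[76,70,66,74]),
 ([21],330,[3,82,69,69])] [18,109,104])
 (CT.cons 394 (CT.leaf [74,4,71,4,1,1,91] [([],321,[75,81,69,67]),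
 ([129,127,122],301,[75,66,66,72]),
 ([100],327,[66,68,71,64,74])] [100,20])
 CT.nil))))))
 (CT.cons 1 pz_T4_14
 (CT.cons 0 (CT.br [] [53,54,53,188,53,54,188] (CT.cons 1 (CT.leaf [] [([],319,[]),
 ([88,85,11],312,[82,3,79,66]),
 ([112,22],371,[73,78,67,72])] [19,101,104])
 (CT.cons 31 (CT.leaf [65] [([],319,[65]),
 ([],307,[4,71,81,72,67]),
 ([85,80],308,[68,64,72,69])] [20,100,104])
 (CT.cons 19 (CT.leaf [4,4] [([],319,[4,4]),
 ([12],316,[68,67,81,70]),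
 ([18],328,[4,69,72,79])] [20,19,102,19])
 (CT.cons 4 (CT.leaf [3,67,4] [([],319,[3,67,4]),
 ([10,10],311,[3,3,70,82]),
 ([],357,[3,66,69,77,70])] [107,109,20])
 (CT.cons 35 (CT.leaf [70,65] [([],319,[70,65]),
 ([12],305,[3,68,81,68,78]),
 ([12],313,[4,67,82,66,73])] [104,21,18,18])
 CT.nil))))))
 CT.nil)))))))))))))))))

theorem pz_T4_ok : ctB nets tb B Lc civ L0 al xF 390 pz_S (mapL (·.1) pz_Y) 4 pz_T4 true Lv Lc [] = true := by decide +kernel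

end Cfsg.Lib.Comp.HNn
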