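import Cfsg.Agent.Lib.Comp.HNn.Tz0

set_option maxRecDepth 100000
set_option Elab.async false

namespace Cfsg.Lib.Comp.HNn

universe u

noncomputable def pz_T5_0 : CT := (CT.br [65,82,79,75,93,92,88] [59] (CT.cons 470 (CT.leaf [65,82,79,75,93,92,88] [([],380,[3,3,77,75,67]),
 ([112],380,[78,71,67,79]),
 ([25,115],380,[70,77,71,78])] [22,110])
 (CT.cons 579 (CT.leaf [4,73,4,78,74,5,82,88,94] [([],380,[75,68,80,74]),
 ([117,25],368,[69,81,68,75]),
 ([30],387,[4,66,69,69])] [117,110,23])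
 (CT.cons 821 (CT.leaf [76,64,76,68,1,91,88,93] [([],380,[73,3,80,64]),
 ([24,22],372,[73,66,64,76]),
 ([110,114],375,[3,79,67,73,3])] [24,115])
 (CT.cons 491 (CT.leaf [80,4,4,80,91,94,92] [([],380,[65,81,78,70]),
 ([114,24,23],367,[65,71,68,78]),
 ([24,22],352,[3,73,71,73,3])] [24,115,22])
 (CT.cons 544 (CT.leaf [74,68,76,82,5,81,94,91] [([],380,[73,3,80,66]),
 ([115,22],368,[76,67,74,78]),
 ([134,33,31],386,[78,69,77,67])] [25,111,22])
 (CT.cons 702 (CT.leaf [75,73,77,79,1,88,94,91] [([],380,[4,68,68,64,66]),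
 ([115,24,22],375,[3,75,73,72,76]),
 ([117,23],379,[3,69,79,82,67])] [111,115,25])
 (CT.cons 739 (CT.leaf [3,75,80,82,72,2,5,91,87] [([],380,[3,74,71,73,65]),
 ([112,22],371,[77,67,78]),
 ([106,100],332,[76,4,74,66])] [110,114,25])
 (CT.cons 272 (CT.leaf [67,74,68,70,91,5,94] [([],380,[3,82,3,81,64]),
 ([22,22],354,[3,73,78,67,65]),
 ([116],380,[4,65,78,73,69])] [114,25])
 (CT.cons 529 (CT.leaf [4,70,82,69,76,5,93,87] [([],380,[68,80,65,72]),
 ([23,110],364,[3,72,77,81]),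
 ([31,32,31],383,[74,69,70,64])] [110])
 (CT.cons 414 (CT.leaf [70,65,76,72,92,93,88] [([],380,[3,73,68,71]),
 ([116,116],378,[64,76,82,70]),
 ([95,96,15],346,[76,4,66,71])] [114,112,24])
 (CT.cons 676 (CT.leaf [4,69,74,66,69,87,92,94] [([],380,[70,78,72,73]),
 ([23,25,22],380,[69,73,64,81]),
 ([115,117],375,[65,71,3,70])] [118,22,22])
 (CT.cons 856 (CT.leaf [66,64,68,81,1,93,92,93] [([],380,[3,64,80,77,79]),
 ([111,25],366,[4,79,65,79,81]),
 ([15,15],343,[81,70,3,75])] [115,115])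
 (CT.cons 392 (CT.leaf [78,82,3,72,1,5,88,93] [([],380,[3,74,67,79]),
 ([112],353,[4,66,66,73]),
 ([107,100],333,[65,65,74,65])] [112,110,22])
 (CT.cons 656 (CT.leaf [64,68,81,67,1,87,5,87] [([],380,[64,81,71,67]),
 ([111],366,[4,4,75,64,64]),
 ([15,90],350,[3,77,74,70])] [110,22,22])
 (CT.cons 243 (CT.leaf [72,81,70,69,88,92,87] [([],380,[3,78,72,79]),
 ([116],368,[69,74,67,75]),
 ([130,138],386,[68,76,79,67])] [23,114,22])
 (CT.cons 447 (CT.leaf [3,3,67,81,79,5,88,82,92] [([],380,[75,4,64]),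
 ([114],364,[3,79,75,69]),
 ([135,32,30],386,[81,74,71,67])] [25,114])
 (CT.cons 819 (CT.leaf [4,70,81,76,80,92,92,88] [([],380,[66,64,73,79]),
 ([114,25],380,[69,65,82,68]),
 ([22,22],354,[70,76,77,69])] [116])
 (CT.cons 294 (CT.leaf [69,67,65,82,5,91,5,78] [([],380,[71,4,76,79]),
 ([24,23],375,[3,3,72,79]),
 ([117,110],380,[64,78,4,76])] [22,24,22])
 (CT.cons 559 (CT.leaf [67,65,67,73,1,92,5,92] [([],380,[73,73,72]),
 ([110,116],379,[68,64,64,66]),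
 ([117,23],375,[3,68,71,81,78])] [115,22,22])
 (CT.cons 863 (CT.leaf [3,66,81,68,4,1,93,5,91] [([],380,[71,71,75,80]),
 ([112,24],353,[64,68,75,68]),
 ([102,20,19],332,[77,67,81])] [25,22])
 (CT.cons 683 (CT.leaf [3,71,75,74,91,93,87] [([],380,[70,74,64,72]),
 ([111,24],375,[80,67,77,71]),
 ([25,22],374,[3,66,80,70,80])] [117,24,22])
 (CT.cons 501 (CT.leaf [3,76,66,3,70,1,93,91,5] [([],380,[80,81,81]),
 ([110],377,[77,81,81]),
 ([95,15,16],346,[4,65,78,65,81])] [111,23])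
 (CT.cons 257 (CT.leaf [4,74,78,4,2,5,94,88] [([],380,[67,70,67,74]),
 ([24],352,[4,67,79,65,74]),
 ([117,22],367,[3,3,81,65,71])] [110,22,22])
 (CT.cons 664 (CT.leaf [74,80,82,76,5,73,87,87] [([],380,[75,4,65,69]),
 ([23,117],362,[73,68,65]),
 ([115,110],374,[3,69,66,75])] [116,112,23])
 (CT.cons 496 (CT.leaf [3,75,81,64,79,5,74,87,5] [([],380,[67,71,65,75]),
 ([22],366,[69,73,75,4]),
 ([15,95],346,[66,74,67,82])] [117,115,22])
 (CT.cons 828 (CT.leaf [64,81,74,78,1,87,91,93] [([],380,[3,71,68,75,65]),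
 ([115,22],374,[74,76,78,74]),
 ([24,116],375,[66,71,80,75])] [118,110,22])
 (CT.cons 279 (CT.leaf [72,4,78,66,2,92,88,93] [([],380,[3,67,82,80,70]),
 ([115,111],375,[74,68,64,81]),
 ([22],373,[3,71,71,79,77])] [111,112,23])
 (CT.cons 830 (CT.leaf [74,68,3,93,91,87] [([],380,[3,82,69,75,69]),
 ([116,23],360,[78,82,67,71]),
 ([32,139],387,[67,73,3,65])] [110,25])
 (CT.cons 359 (CT.leaf [66,74,71,78,5,91,81,93] [([],380,[4,80,64,82,74]),
 ([118,23],374,[3,64,80,73]),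
 ([115],362,[78,64,68,71])] [110,110])
 (CT.cons 725 (CT.leaf [64,73,71,72,5,82,92,92] [([],380,[79,82,72,76]),
 ([112,110],375,[73,78,71,3]),
 ([111,115],375,[3,3,77,75,71])] [115,116,23])
 CT.nil)))))))))))))))))))))))))))))))

noncomputable def pz_T5_1 : CT := (CT.br [3,66,79,82,5,94,91] [258] (CT.cons 266 (CT.leaf [3,66,79,82,5,94,91] [([],379,[64,76,66,76,80]),
 ([22],364,[76,70,81,68]),
 ([136,139],386,[77,73,70,65])] [114,111,22])
 (CT.cons 839 (CT.leaf [64,69,76,71,76,5,87,78,92] [([],379,[70,77,66,3]),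
 ([22,115],379,[4,76,79,82,82]),
 ([22,115],379,[3,69,3,78,76])] [22,115])
 (CT.cons 335 (CT.leaf [4,74,72,76,5,88,88,64] [([],379,[67,69,81,78]),
 ([116,110],368,[4,64,64,80,75]),
 ([136,132,31],383,[66,66,64,71])] [22,110,22])
 (CT.cons 544 (CT.leaf [71,75,3,79,5,88,94,70] [([],379,[70,77,66]),
 ([110],360,[3,78,66,80,81]),
 ([33,131,31],386,[78,4,80,71])] [25,111,22])
 (CT.cons 380 (CT.leaf [64,64,68,65,5,88,93,76] [([],379,[69,75,3,80]),
 ([112,110,22],370,[3,74,75,65,76]),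
 ([95,14],341,[3,76,82,69,79])] [24,22,22])
 (CT.cons 424 (CT.leaf [3,72,74,4,73,2,93,91,94] [([],379,[70,67,71,71]),
 ([117],360,[65,71,66,81]),
 ([131,32,30],386,[3,68,3,78,78])] [115,110,22])
 (CT.cons 514 (CT.leaf [76,81,69,75,5,92,5] [([],379,[69,64,68,80]),
 ([],371,[3,79,3,72,65]),
 ([103,104],333,[4,80,80,78,70])] [])
 (CT.cons 382 (CT.leaf [71,73,77,82,5,91,81,93] [([],379,[82,4,73,66]),
 ([117,110],368,[68,67,81,77]),
 ([135,137,30],383,[73,65,77,67])] [118,24,22])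
 (CT.cons 509 (CT.leaf [3,73,77,64,71,93,93,87] [([],379,[3,67,4,74,74]),
 ([22],363,[4,77,65,73,71]),
 ([86,13],312,[68,67,72,82])] [115,22,22])
 (CT.cons 844 (CT.leaf [65,73,66,66,1,94,87,92] [([],379,[3,81,81,71,74]),
 ([114,23],379,[3,67,71,67,76]),
 ([110,22,22],379,[74,78,71,71])] [116,116,116])
 (CT.cons 843 (CT.leaf [76,65,80,67,1,5,91,5] [([],379,[74,82,4,69]),
 ([25,117,23],368,[65,82,72,65]),
 ([138,137],387,[3,66,70,67,82])] [25,114,23])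
 (CT.cons 214 (CT.leaf [3,64,82,76,79,5,3,92,88] [([],379,[76,4,65,4]),
 ([114,114],366,[80,76,74,69]),
 ([14,90],346,[3,66,76,66,76])] [115,110,22])
 (CT.cons 254 (CT.leaf [82,65,4,87,91,91] [([],379,[4,68,66,72,4]),
 ([25,114],366,[64,66,75,77]),
 ([92,16],346,[68,4,66,77])] [114,116,23])
 (CT.cons 708 (CT.leaf [78,71,3,72,5,74,94,88] [([],379,[65,79,65,81]),
 ([114,116],380,[3,3,66,69,69]),
 ([24,116],375,[74,75,71,80])] [116,114,22])
 (CT.cons 775 (CT.leaf [64,76,77,5,91,94,76] [([],379,[4,68,4,70]),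
 ([115],369,[3,78,82,82,72]),
 ([13,13,10],311,[66,70,67,72])] [115,117])
 (CT.cons 663 (CT.leaf [71,76,81,80,5,82,92,92] [([],379,[3,64,71,68,82]),
 ([118,22],359,[69,65,68,79]),
 ([36,35,35],382,[77,68,80,80])] [115,24,23])
 (CT.cons 476 (CT.leaf [4,64,82,77,88,91,87] [([],379,[73,77,64,70]),
 ([117,23],375,[78,70,74,77]),
 ([115,22,22],380,[78,78,73,75])] [110,116])
 (CT.cons 652 (CT.leaf [74,3,81,77,5,81,93,5] [([],379,[71,64,81,75]),
 ([22,110],367,[66,71,67,65]),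
 ([117,23],374,[72,3,76,82])] [111,115,22])
 (CT.cons 283 (CT.leaf [3,70,3,3,70,5,88,88,64] [([],379,[3,71,66,82,67]),
 ([111,112,23],374,[65,80,65,79]),
 ([116,116,22],367,[4,77,77])] [22,24])
 (CT.cons 559 (CT.leaf [68,66,76,5,88,79,92] [([],379,[3,71,67,74,76]),
 ([116],362,[3,68,78,68,64]),
 ([111,24],375,[73,71,78])] [115,22,22])
 (CT.cons 489 (CT.leaf [79,79,82,74,91,5,91] [([],379,[3,64,80,66,82]),
 ([115,116,23],374,[76,72,67,74]),
 ([118],362,[68,4,77,74])] [110,24,110])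
 (CT.cons 829 (CT.leaf [3,65,76,70,69,2,5,93,88] [([],379,[3,82,71,3]),
 ([116,24],378,[69,76,73,77]),
 ([92,15],350,[3,67,76,77,79])] [114,22,24])
 (CT.cons 718 (CT.leaf [70,69,81,80,5,87,5,81] [([],379,[76,76,80,82]),
 ([110,115],378,[70,66,64,71]),
 ([90,14],350,[80,80,71])] [25,115,22])
 (CT.cons 340 (CT.leaf [3,78,66,80,81,5,64,5,87] [([],379,[71,80,76,64]),
 ([24,24],375,[3,3,82,80,73]),
 ([112],362,[3,3,66,79])] [25,111,23])
 (CT.cons 797 (CT.leaf [67,4,67,65,87,92,92] [([],379,[70,4,80,66]),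
 ([114,25],374,[67,77,79,3]),
 ([115,111],375,[3,80,74,64])] [25,115,24])
 (CT.cons 741 (CT.leaf [69,72,82,78,1,88,93,87] [([],379,[3,65,67,67,82]),
 ([115,112],375,[4,82,67,75,82]),
 ([116,24],374,[64,76,82,72])] [114,112,25])
 (CT.cons 689 (CT.leaf [3,65,69,79,4,5,87,5,81] [([],379,[4,70,74,76]),
 ([111],362,[73,72,69,80]),
 ([115,23],374,[64,76,73,77,76])] [22,110,25])
 (CT.cons 328 (CT.leaf [64,70,72,79,5,92,88,77] [([],379,[82,78,64]),
 ([111,22],366,[73,64,68,4]),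
 ([98,17,17],346,[71,78,64,74])] [112,110,22])
 (CT.cons 886 (CT.leaf [70,77,73,77,1,92,87,94] [([],379,[82,78,66]),
 ([24,110],379,[74,75,73]),
 ([112,22],354,[65,75,82,80])] [25,22])
 (CT.cons 892 (CT.leaf [75,65,65,5,3,92,94] [([],379,[67,75,79,79]),
 ([112,22],354,[70,82,78,79]),
 ([25,22],379,[4,67,80,3,76])] [24,110])
 CT.nil)))))))))))))))))))))))))))))))

noncomputable def pz_T5_2 : CT := (CT.br [4,65,68,76,78,2,87,92,93] [257] (CT.cons 507 (CT.leaf [4,65,68,76,78,2,87,92,93] [([],378,[73,4,66,74]),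
 ([94,15],348,[3,68,75,65,69]),
 ([30,137,130],386,[70,70,65,69])] [25,118])
 (CT.cons 574 (CT.leaf [3,64,64,69,81,5,93,74,94] [([],378,[81,66,75,65]),
 ([90,14],347,[76,74,76,79]),
 ([23,111,22],374,[3,3,76,69,71])] [112,110,22])
 (CT.cons 354 (CT.leaf [3,64,80,77,75,5,88,94,68] [([],378,[3,74,3,67,73]),
 ([95,93,16],345,[3,76,77,79,69]),
 ([95,90,14],346,[3,64,77,71,71])] [23,118,22])
 (CT.cons 481 (CT.leaf [67,74,69,4,87,93,87] [([],378,[81,66,75,67]),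
 ([16,95],348,[4,65,4,79]),
 ([131,30],383,[69,77,64])] [118,25,23])
 (CT.cons 537 (CT.leaf [73,4,76,81,87,5,94] [([],378,[3,3,74,77,76]),
 ([92,16],350,[4,81,3,80,70]),
 ([24,22],362,[67,76,71,80])] [25,114,25])
 (CT.cons 676 (CT.leaf [71,67,73,70,88,91,88] [([],378,[66,66,68,74,82]),
 ([95,14],347,[68,4,66,76]),
 ([112,111],375,[64,82,70,81])] [118,22,22])
 (CT.cons 446 (CT.leaf [64,74,79,68,88,91,87] [([],378,[4,64,66,3,72]),
 ([90],342,[70,69,69,75]),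
 ([96,16],341,[67,80,81,4])] [111,22,25])
 (CT.cons 710 (CT.leaf [74,78,4,72,5,3,93,5] [([],378,[3,70,70,80,75]),
 ([14,14],341,[3,81,80,66]),
 ([23,111,22],374,[65,78,76,79])] [114,116,22])
 (CT.cons 543 (CT.leaf [69,77,72,66,5,81,92,93] [([],378,[67,70,82,69]),
 ([99,95],348,[80,64,64,76]),
 ([139,130,33],386,[80,66,70,73])] [22,24,22])
 (CT.cons 429 (CT.leaf [3,70,66,78,68,5,88,93,76] [([],378,[74,76,82,69]),
 ([93,91,14],350,[72,68,66,3]),
 ([117,110,22],362,[72,79,72,80])] [117,25,22])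
 (CT.cons 761 (CT.leaf [75,77,66,68,93,93,92] [([],378,[76,79,82,77]),
 ([15,95],346,[79,73,79,82]),
 ([24,23],374,[79,74,67,70])] [114,118])
 (CT.cons 292 (CT.leaf [3,81,75,72,5,88,94,68] [([],378,[76,67,68,73]),
 ([91,15],346,[3,80,4,79,3]),
 ([111,22],380,[65,4,74,3])] [23,116])
 (CT.cons 379 (CT.leaf [3,3,70,77,68,5,3,88,94] [([],378,[65,76,73,67]),
 ([98],344,[3,66,66,71,64]),
 ([100,104,19],333,[65,75,71,80])] [118,110,23])
 (CT.cons 725 (CT.leaf [68,77,70,4,5,91,94,76] [([],378,[3,71,73,75,79]),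
 ([17,99,15],346,[68,72,76,82]),
 ([117,110,23],375,[78,79,69,69])] [22,24,22])
 (CT.cons 257 (CT.leaf [4,79,81,66,91,91,88] [([],378,[4,65,77,79,70]),
 ([91,14],346,[72,79,65,71]),
 ([110],367,[75,70,76,71])] [110,22,22])
 (CT.cons 697 (CT.leaf [65,65,79,72,5,81,93,5] [([],378,[4,64,64]),
 ([91],342,[80,81,76,80]),
 ([94,92],350,[3,80,67,80])] [23])
 (CT.cons 529 (CT.leaf [68,64,81,71,3,5,86,93,87] [([],378,[66,64,80,82]),
 ([15],348,[65,71,3,77]),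
 ([31,130],383,[76,81,4,72])] [111,24])
 (CT.cons 869 (CT.leaf [68,75,79,71,93,88,93] [([],378,[78,71,76,80]),
 ([94,90],341,[66,69,3,65]),
 ([25,112,23],375,[65,72,66,80])] [111,22,25])
 (CT.cons 727 (CT.leaf [67,72,65,75,5,92,87] [([],378,[79,4,71,76]),
 ([95,15],346,[64,68,76,76]),
 ([111],372,[68,80,77,72])] [25,117,22])
 (CT.cons 701 (CT.leaf [76,78,81,4,5,65,91,93] [([],378,[3,73,71,66]),
 ([92,15],350,[69,64,79,68]),
 ([118,24,22],379,[3,65,77,68,68])] [116,25])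
 (CT.cons 309 (CT.leaf [67,68,65,72,2,93,91,87] [([],378,[3,80,70,80,78]),
 ([98,91],345,[4,64,76,76,82]),
 ([97,99],346,[73,78,75,79])] [24,115,24])
 (CT.cons 798 (CT.leaf [68,80,72,73,2,91,94,87] [([],378,[64,73,79,73,75]),
 ([14,93],350,[68,65,80,82]),
 ([24,115,22],379,[70,3,3,70])] [24,115,22])
 (CT.cons 719 (CT.leaf [3,69,76,76,69,5,75,5,93] [([],378,[74,67,81,78]),
 ([98,90],344,[80,70,67,75]),
 ([102,18,21],332,[82,67,81,76])] [23,118,24])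
 (CT.cons 454 (CT.leaf [3,71,79,77,74,94,92,88] [([],378,[72,73,77,69]),
 ([],337,[66,80,72,75]),
 ([80,82,11],312,[81,69,82,4])] [114,112,25])
 (CT.cons 506 (CT.leaf [3,66,81,64,76,5,86,93,87] [([],378,[70,3,76,64]),
 ([15,91],348,[74,64,3,73]),
 ([135,30,33],386,[81,73,69,80])] [24,115,25])
 (CT.cons 751 (CT.leaf [73,72,4,4,93,93,92] [([],378,[82,74,76,66]),
 ([90,90,15],350,[3,79,4,71,79]),
 ([110],361,[64,71,72,3,77])] [112,111])
 (CT.cons 714 (CT.leaf [73,77,79,82,2,5,91,5] [([],378,[3,68,64,64,68]),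
 ([14,17,14],345,[76,73,66,70]),
 ([99,17,14],350,[3,3,77,76,67])] [112,25,22])
 (CT.cons 520 (CT.leaf [65,80,66,69,88,91,87] [([],378,[78,64,79,3]),
 ([95,15],349,[74,68,75]),
 ([14,14,14],346,[3,73,79,72,78])] [118,22,22])
 (CT.cons 861 (CT.leaf [77,76,80,72,91,87,5] [([],378,[66,72,77,82,75]),
 ([95,93,14],345,[3,82,78,64,74]),
 ([16,14],343,[64,74,71,71,72])] [24,115,24])
 (CT.cons 656 (CT.leaf [75,81,64,64,1,93,87,94] [([],378,[65,80,64]),
 ([90,94,14],345,[64,72,3,76]),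
 ([17,90],350,[3,66,69,82,66])] [111])
 CT.nil)))))))))))))))))))))))))))))))

noncomputable def pz_T5_3 : CT := (CT.br [73,73,66,1,87,73,87] [255,256,255,255,255] (CT.cons 114 (CT.leaf [73,73,66,1,87,73,87] [([],377,[66,76,73,70]),
 ([90,15],337,[3,80,65,79,82]),
 ([87,10,13],312,[4,4,65,69])] [115,23,25])
 (CT.cons 48 (CT.leaf [66,74,66,69,88,93,79] [([],377,[75,66,80]),
 ([99,14],344,[75,81,72,73]),
 ([106],325,[4,67,80,82,77])] [114,111,22])
 (CT.cons 1231 (CT.leaf [3,69,73,79,65,5,87,80] [([],377,[64,75,74,66,68]),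
 ([94,14,14],346,[66,78,79,79]),
 ([114,116],367,[3,77,68,4,64])] [116,25,22])
 (CT.cons 74 (CT.leaf [3,3,78,73,77,5,93,81] [([],377,[68,82,65,67]),
 ([91],349,[4,77,81,74]),
 ([99,14],341,[77,70,72,76])] [116,116,116])
 (CT.cons 1397 (CT.leaf [65,4,4,79,5,88,78] [([],377,[75,66,80,4]),
 ([17,17],346,[82,78,79,81]),
 ([111,23],380,[64,81,68,64])] [23,114])
 (CT.cons 1381 (CT.leaf [82,72,75,78,88,91,76] [([],377,[4,4,79,64]),
 ([17,15],348,[3,73,69,69,64]),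
 ([33,135,30],386,[81,80,70,75])] [118,22])
 (CT.cons 1020 (CT.leaf [3,80,72,64,87,91,4] [([],377,[77,72,75,71]),
 ([94,94],345,[64,68,71,75]),
 ([99,90],346,[70,3,64,66])] [114,22])
 (CT.cons 61 (CT.leaf [69,73,64,81,92,88,83] [([],377,[65,69,74,78]),
 ([17],343,[66,73,64,82]),
 ([25,115],362,[64,77,68,4])] [23,118,24])
 (CT.cons 1327 (CT.leaf [74,82,71,76,88,91,68] [([],377,[66,76,73,3]),
 ([96,15,15],345,[73,77,4,73]),
 ([14,17,14],350,[65,80,80,4])] [112,117,22])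
 (CT.cons 130 (CT.leaf [78,74,76,5,74,94] [([],377,[4,70,4,71,4]),
 ([94,15],336,[64,71,67,76]),
 ([19],326,[81,73,78,68])] [111,25])
 (CT.cons 986 (CT.leaf [3,71,65,79,71,88,5,79] [([],377,[65,65,71,67]),
 ([],335,[3,71,71,80,64]),
 ([97,14],347,[75,80])] [23,25])
 (CT.cons 199 (CT.leaf [75,79,66,88,5,83] [([],377,[77,4,71,74]),
 ([98,16],347,[3,71,64,68]),
 ([112],354,[64,80,75,68])] [23,110])
 CT.nil)))))))))))))

noncomputable def pz_T5_4 : CT := (CT.br [3,73,68,81,3,5,87,85] [253,254,253,253,253] (CT.cons 138 (CT.leaf [3,73,68,81,3,5,87,85] [([],376,[67,77,76,77]),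
 ([94,15],348,[3,64,69,72,77]),
 ([131,33,31],383,[4,73,4,65])] [118,110,22])
 (CT.cons 58 (CT.leaf [3,72,80,67,78,91,94,90] [([],376,[66,80,82,78]),
 ([99,93],346,[65,80,66,3]),
 ([110,22],362,[4,70,3,74,76])] [25,111])
 (CT.cons 32 (CT.leaf [73,73,78,74,88,93,79] [([],376,[69,74,75,71]),
 ([14],339,[3,64,3,68,79]),
 ([93],343,[66,77,64])] [22,117,23])
 (CT.cons 995 (CT.leaf [4,73,71,77,64,91,88,74] [([],376,[65,71,65,77]),
 ([95,91,14],350,[3,78,66,76,73]),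
 ([114,25],375,[4,78,69,76])] [25,118,22])
 (CT.cons 102 (CT.leaf [67,81,79,67,92,88,83] [([],376,[3,71,82,74,76]),
 ([],337,[71,77,64,82]),
 ([85,80],311,[72,67,80])] [114,25])
 (CT.cons 1143 (CT.leaf [76,73,66,3,5,88,78] [([],376,[3,82,66,81,75]),
 ([91,98],350,[3,72,3,77,74]),
 ([111,117],374,[76,74,67,75])] [114,24,23])
 (CT.cons 944 (CT.leaf [71,64,77,70,87,76,91] [([],376,[3,79,76,72,75]),
 ([98,90],349,[64,72,75]),
 ([90,96,15],346,[80,69,81,78])] [118,24,22])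
 (CT.cons 1209 (CT.leaf [71,76,4,81,5,73,88] [([],376,[3,77,3,71]),
 ([95],336,[70,76,76]),
 ([19,107,19],333,[72,79,4,67])] [115,25,111])
 (CT.cons 1065 (CT.leaf [3,71,3,67,77,91,86,87] [([],376,[68,66,75,78]),
 ([98,16],342,[3,78,72,74,64]),
 ([99,14],347,[4,76,71,3,75])] [114,116])
 (CT.cons 1016 (CT.leaf [70,82,80,78,92,78,88] [([],376,[66,79,66,70]),
 ([95,90,14],348,[68,82,75,70]),
 ([135,31],386,[73,78,4,74])] [23,118])
 (CT.cons 151 (CT.leaf [3,69,71,78,69,92,88,69] [([],376,[73,66,81,73]),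
 ([91],341,[71,82,69,4]),
 ([],361,[64,72,67,71,77])] [25,114,24])
 (CT.cons 195 (CT.leaf [64,66,66,68,67,88,1,93] [([],376,[4,67,72,76]),
 ([99,14],343,[3,74,75,65,74]),
 ([24,24],354,[74,82,77,76])] [118])
 CT.nil)))))))))))))

noncomputable def pz_T5_5 : CT := (CT.br [74,72,75,3,1,87,73,87] [252] (CT.cons 124 (CT.leaf [74,72,75,3,1,87,73,87] [([],375,[3,66,80,81,77]),
 ([22],369,[4,69,80,81]),
 ([88,13,80],312,[3,70,69,76,73])] [114,117,24])
 (CT.cons 25 (CT.leaf [76,81,72,80,88,93,79] [([],375,[76,78,67,76]),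
 ([118],360,[75,73,77,69]),
 ([33],387,[75,82,71,77])] [116,115,23])
 (CT.cons 1350 (CT.leaf [4,67,73,68,5,87,80] [([],375,[65,82,70,66]),
 ([117,23],379,[80,78,67,71]),
 ([114,116],380,[68,71,4,4])] [117,22,22])
 (CT.cons 107 (CT.leaf [73,69,80,78,5,86,88] [([],375,[67,80,3,66]),
 ([25,112],360,[76,76,3,78]),
 ([130,30,30],383,[71,4,66,72])] [111,22])
 (CT.cons 87 (CT.leaf [3,74,4,75,70,5,93,81] [([],375,[65,82,70,3]),
 ([22,118],367,[78,65,77,77]),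
 ([112,116],362,[3,65,65,77,79])] [25,114,23])
 (CT.cons 1373 (CT.leaf [3,78,74,69,67,5,88,78] [([],375,[3,66,76,68,67]),
 ([23,24,22],380,[3,65,67,74]),
 ([23],374,[3,66,69,72,82])] [24,116])
 (CT.cons 1386 (CT.leaf [81,79,75,4,88,91,76] [([],375,[74,3,80,72]),
 ([115,112],379,[65,81,66,72]),
 ([117,110],374,[76,69,80,66])] [115,111])
 (CT.cons 1060 (CT.leaf [4,65,75,3,87,91,4] [([],375,[3,68,79,64,77]),
 ([110],376,[81,69,72,81]),
 ([14,16,15],350,[72,80,68,71])] [116,112,22])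
 (CT.cons 59 (CT.leaf [71,4,70,4,92,88,83] [([],375,[3,68,75,78,78]),
 ([117,110],378,[3,69,4,4,72]),
 ([96],341,[71,4,72,79])] [25,23])
 (CT.cons 918 (CT.leaf [3,82,66,69,64,87,84,91] [([],375,[67,77,68,81]),
 ([22,24,22],380,[3,71,71,77,80]),
 ([112,110],375,[79,74,67,70])] [116,115,25])
 (CT.cons 960 (CT.leaf [4,65,75,3,87,91] [([],375,[71,81,64,82]),
 ([117,110],380,[68,79,67,78]),
 ([22,24,22],380,[64,81,64,64])] [24,23])
 (CT.cons 1223 (CT.leaf [70,4,78,88,93,89] [([],375,[66,80,64,73]),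
 ([117,22,22],368,[68,76,74,65]),
 ([136,136,131],386,[68,4,82,77])] [23,24])
 (CT.cons 1146 (CT.leaf [69,76,3,79,94,87,84] [([],375,[65,82,70,4]),
 ([118,110],366,[80,78,67,71]),
 ([94,14],350,[79,75,69,69])] [111,22])
 (CT.cons 1002 (CT.leaf [75,82,76,78,5,93,69] [([],375,[74,80,69,65]),
 ([23,110,22],374,[4,77,74,69]),
 ([115,23],367,[4,76,64,72,73])] [24,114,25])
 (CT.cons 1136 (CT.leaf [65,80,67,78,87,5,74] [([],375,[74,80,69,67]),
 ([116,110],378,[3,72,75,77,66]),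
 ([95,14],347,[66,64,80,65])] [114,111])
 (CT.cons 1114 (CT.leaf [64,74,72,67,87,3,91] [([],375,[67,80]),
 ([23,111,22],374,[73,77,76,76]),
 ([114,25],380,[73,66,72,4])] [111,115])
 (CT.cons 1218 (CT.leaf [76,68,68,4,88,91,68] [([],375,[82,79,81,71]),
 ([115],362,[74,72,4,76]),
 ([24,114],379,[77,3,78])] [23,116])
 (CT.cons 1018 (CT.leaf [68,79,68,66,87,3,88] [([],375,[73,64,78,78]),
 ([115,22,22],380,[69,66,74,68]),
 ([110,116],379,[68,67,73,4])] [117,23])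
 (CT.cons 79 (CT.leaf [74,65,4,73,92,88,83] [([],375,[4,64,79,67,69]),
 ([116,22],379,[3,69,77,75,80]),
 ([117,24],362,[4,72,80,78,64])] [110])
 (CT.cons 1335 (CT.leaf [73,65,78,73,87,91,4] [([],375,[66,3,81,70]),
 ([23,117],378,[75,82,73]),
 ([98,97],346,[4,71,3,66])] [117,110,23])
 (CT.cons 910 (CT.leaf [3,78,74,68,64,5,93,85] [([],375,[64,64,64,76,66]),
 ([22],367,[74,76,79,67]),
 ([23,25,22],374,[3,81,3,80])] [117,25])
 (CT.cons 144 (CT.leaf [72,80,72,67,5,74,94] [([],375,[77,75,66,71]),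
 ([22,110],364,[80,66,77,65]),
 ([30,130],383,[3,76,79,66,81])] [115,115])
 (CT.cons 1155 (CT.leaf [78,79,82,5,88,76] [([],375,[4,78,82,79,70]),
 ([115,22],370,[77,80,66,68]),
 ([95,96],350,[70,82,67,69])] [25,117,23])
 (CT.cons 927 (CT.leaf [80,77,82,4,88,94,1] [([],375,[80,70,79,4]),
 ([22],373,[4,67,77,66,76]),
 ([118,110,23],380,[65,75,71,79,69])] [110,22,22])
 (CT.cons 1325 (CT.leaf [4,75,70,77,87,3,92] [([],375,[64,80,70,82]),
 ([111,115],375,[3,77,70,74,76]),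
 ([22,24,22],380,[66,74,81,73])] [24,111])
 (CT.cons 939 (CT.leaf [3,74,82,82,64,87,1,87] [([],375,[74,3,80,4]),
 ([116,24],374,[78,78,81,81]),
 ([25,118],379,[67,73,78,66])] [110,22])
 (CT.cons 73 (CT.leaf [3,77,69,74,87,72,91] [([],375,[75,68,77,79]),
 ([24,115],380,[4,67,73,67,75]),
 ([24,22],372,[3,78,80,76,67])] [110,114])
 (CT.cons 142 (CT.leaf [77,82,80,82,5,74,94] [([],375,[4,70,82,76,66]),
 ([],359,[67,76,64,69]),
 ([143,35],382,[3,80,82,65])] [111,112,22])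
 (CT.cons 976 (CT.leaf [4,77,71,77,73,88,5,79] [([],375,[70,82,68,72]),
 ([118],362,[65,81,68,80]),
 ([112,117],367,[76,66,81,64])] [111,115,22])
 (CT.cons 193 (CT.leaf [70,79,77,69,88,5,83] [([],375,[77,73,67,73]),
 ([],353,[65,71,78,71]),
 ([19,107],332,[64,72,74,68])] [115,112])
 CT.nil)))))))))))))))))))))))))))))))

noncomputable def pz_T5_6 : CT := (CT.br [81,80,4,68,5,87,77] [251] (CT.cons 153 (CT.leaf [81,80,4,68,5,87,77] [([],374,[71,79,70,4]),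
 ([110,25],369,[77,80,67,81]),
 ([85,13],312,[4,70,74,69,69])] [22,118])
 (CT.cons 88 (CT.leaf [71,65,65,82,92,88,83] [([],374,[66,64,80,71]),
 ([114,117,22],380,[4,64,80,65]),
 ([23,117],362,[75,74,3,82])] [22,114])
 (CT.cons 105 (CT.leaf [71,71,65,65,5,87,85] [([],374,[71,79,70]),
 ([116,23],359,[70,79,71,77]),
 ([37,147],382,[77,68,72,69])] [114,114])
 (CT.cons 1348 (CT.leaf [71,3,65,78,91,79,87] [([],374,[3,69,4,75,77]),
 ([25,112,23],367,[3,64,74,4,65]),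
 ([23,24,22],367,[66,75,73,65])] [111,117])
 (CT.cons 36 (CT.leaf [72,64,74,1,91,93] [([],374,[3,76,79,3,77]),
 ([115],360,[68,77,80,82]),
 ([131,31],387,[3,69,73,78,64])] [116,110])
 (CT.cons 1132 (CT.leaf [4,69,71,65,1,87,93] [([],374,[3,71,74,80,81]),
 ([115,23],367,[77,77,82,77]),
 ([118,110,22],375,[3,80,64,75,69])] [115,25,23])
 (CT.cons 1307 (CT.leaf [66,69,73,72,87,92,73] [([],374,[69,66,68,75]),
 ([116,116],378,[3,3,65,75,82]),
 ([96,14],346,[77,70,80])] [110,22,22])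
 (CT.cons 59 (CT.leaf [78,70,4,91,94,90] [([],374,[65,71,75,70]),
 ([114,116,22],378,[4,4,78,68,66]),
 ([14,14],341,[73,82,3,82])] [23,111,22])
 (CT.cons 1086 (CT.leaf [76,70,72,67,91,78,94] [([],374,[70,74,75,82]),
 ([114,22],376,[4,75,79,64,78]),
 ([14,93],350,[3,78,75,78,78])] [118])
 (CT.cons 1380 (CT.leaf [81,80,72,82,5,87,80] [([],374,[3,66,80,82]),
 ([110,25],367,[80,3,78,72]),
 ([117,24,23],374,[3,65,77,74,75])] [116,115,25])
 (CT.cons 1108 (CT.leaf [71,78,69,82,87,76,91] [([],374,[73,64,71,65]),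
 ([116,116,22],367,[64,74,80,69]),
 ([22,24],379,[73,64,74,77])] [111,112,23])
 (CT.cons 1184 (CT.leaf [4,79,65,81,68,87,2,94] [([],374,[64,64,70,75,71]),
 ([114,112,23],366,[4,80,75,71,74]),
 ([96,91,14],350,[3,70,73,80,4])] [25,118])
 (CT.cons 1009 (CT.leaf [81,3,67,81,88,91,76] [([],374,[70,75,71,72]),
 ([114,25],380,[4,75,74,69,78]),
 ([111,115],375,[72,74,77])] [23,111,22])
 (CT.cons 1080 (CT.leaf [78,65,74,81,1,5,91,67] [([],374,[4,4,71,82,76]),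
 ([111,115,22],379,[3,64,79,71,73]),
 ([22,110],367,[73,3,66,75])] [117,23])
 (CT.cons 1101 (CT.leaf [3,77,82,75,82,92,93] [([],374,[76,66,80,64]),
 ([22],373,[3,64,70,78,68]),
 ([22,110,22],367,[72,75,82,77])] [114,25])
 (CT.cons 1145 (CT.leaf [70,65,75,65,93,82,91] [([],374,[74,4,67,72]),
 ([112,110,22],378,[3,76,73,75,80]),
 ([90,14],347,[3,78,76,68])] [23,111,22])
 (CT.cons 127 (CT.leaf [3,73,67,65,76,88,5,73] [([],374,[68,81,74,67]),
 ([24,115],364,[71,75,80,69]),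
 ([32,132],383,[73,78,4])] [24,116,22])
 (CT.cons 971 (CT.leaf [70,67,79,69,87,3,88] [([],374,[4,75,80,71,68]),
 ([114,22,25],375,[64,81,79,78]),
 ([114,23],367,[68,75,4,75])] [117,25,23])
 (CT.cons 987 (CT.leaf [4,80,77,64,5,73,87] [([],374,[64,74,4,70]),
 ([25,22],375,[81,68,82,68]),
 ([23,24,22],380,[78,68,74,82])] [22,115])
 (CT.cons 1124 (CT.leaf [70,74,82,77,87,5,65] [([],374,[3,64,70,78,76]),
 ([118],362,[64,79,75,80,73]),
 ([115],379,[4,77,79,66])] [115,110,22])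
 (CT.cons 68 (CT.leaf [3,72,77,74,94,91] [([],374,[81,77,72,78]),
 ([118,110,22],379,[74,77,73,71]),
 ([115,117],362,[65,73,75,75])] [112,23])
 (CT.cons 1165 (CT.leaf [68,71,77,73,88,5,79] [([],374,[77,76,71,79]),
 ([112,22],370,[66,80,75,64]),
 ([98,17],350,[4,82,64,66])] [25,115,24])
 (CT.cons 1116 (CT.leaf [64,68,79,82,94,87,84] [([],374,[81,65,72,78]),
 ([117,112,22],379,[65,80,77,69]),
 ([115,112],375,[70,64,73])] [115,25,111])
 (CT.cons 121 (CT.leaf [3,80,82,64,69,5,93,73] [([],374,[65,79,4,75]),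
 ([22,110],360,[67,75,74,74]),
 ([33,131],383,[66,71,64,73])] [114,117,22])
 (CT.cons 989 (CT.leaf [66,3,82,5,88,86] [([],374,[3,68,65,75,69]),
 ([115],362,[69,69,77,66]),
 ([24],380,[4,66,77,72,77])] [114,25,22])
 (CT.cons 1287 (CT.leaf [74,72,77,67,87,87,1] [([],374,[66,64,80,4]),
 ([118,110],368,[3,3,68,71,4]),
 ([136,30,30],386,[3,72,64,64,77])] [116,24])
 (CT.cons 935 (CT.leaf [65,80,77,65,91,88] [([],374,[3,73,66,81,70]),
 ([110,114],375,[65,79,69,4]),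
 ([],379,[82,72,76,68])] [110,24,110])
 (CT.cons 73 (CT.leaf [70,74,74,82,94,91] [([],374,[69,3,80,74]),
 ([110,114],367,[75,64,79,3]),
 ([116,23],372,[77,75,70,78])] [116,111,23])
 (CT.cons 193 (CT.leaf [3,73,81,3,1,91,91] [([],374,[3,65,78,69,77]),
 ([],353,[4,67,82,76]),
 ([101,104,18],332,[3,71,80,81,67])] [115,112])
 (CT.cons 1345 (CT.leaf [81,70,78,66,2,87,87,69] [([],374,[3,3,80,71,75]),
 ([114,110],374,[66,66,80,82]),
 ([110,25],367,[80,71,77,82])] [23,25,23])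
 CT.nil)))))))))))))))))))))))))))))))

noncomputable def pz_T5_9 : CT := (CT.br [5,4,5] [247,246,247,246,247] (CT.cons 1 (CT.leaf [5,4,5] [([],371,[]),
 ([105,106],334,[73,79,75]),
 ([135,136,30],387,[78,68,82,66])] [114,24])
 (CT.cons 904 (CT.leaf [69,69,70,4,87,87,75] [([],371,[4]),
 ([106,18],332,[68,76,79,64]),
 ([],367,[3,67,81,4,76])] [118,24])
 (CT.cons 59 (CT.leaf [66,82,65,93,5] [([],371,[3]),
 ([101,101,21],320,[81,72,75,82]),
 ([90,15],341,[81,65,73,71])] [114,117,25])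
 (CT.cons 163 (CT.leaf [65,76,69,91,5,69] [([],371,[65]),
 ([100,105,18],330,[64,75,70,69]),
 ([21,104],332,[64,82,4,82])] [111,23])
 (CT.cons 1289 (CT.leaf [70,77,3,72,93,5,64] [([],371,[65,4]),
 ([101,105,19],332,[64,69,82,65,75]),
 ([115,24,22],380,[74,71,77,76])] [110,115])
 (CT.cons 986 (CT.leaf [3,65,81,69,82,92,4,92] [([],371,[3,3]),
 ([105,103,19],320,[3,77,3,65]),
 ([15,15],347,[3,82,4,82,76])] [117,112])
 (CT.cons 1039 (CT.leaf [71,71,3,66,93,87,81] [([],371,[67,4]),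
 ([105,21],333,[3,70,67,71,71]),
 ([116,111],379,[4,77,77,75,79])] [25,117,22])
 (CT.cons 201 (CT.leaf [4,64,79,66,3,88,88,81] [([],371,[69,3]),
 ([],323,[79,77,70,73]),
 ([81,12],314,[64,72,76,69])] [25,117,23])
 (CT.cons 1087 (CT.leaf [4,4,77,81,79,87,85,88] [([],371,[69,69,3]),
 ([103,18,20],331,[78,71,79,71]),
 ([98,97],350,[67,77,64,73])] [115,115])
 (CT.cons 924 (CT.leaf [77,75,75,67,91,71,91] [([],371,[66,3,3]),
 ([104,19],327,[3,67,78,68]),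
 ([104,100],333,[76,82,72,73])] [24,23])
 (CT.cons 47 (CT.leaf [73,72,78,2,88,5] [([],371,[67,67,4]),
 ([18,20],330,[69,69,75,72]),
 ([106,21],325,[3,69,66,82,79])] [116,112,23])
 (CT.cons 114 (CT.leaf [75,74,67,67,87,73,93] [([],371,[65,67,70,4]),
 ([18],319,[82,69,80,69]),
 ([88,85,10],312,[67,70,73,4])] [114,24,23])
 CT.nil)))))))))))))

noncomputable def pz_T5_10 : CT := (CT.br [69,67,4,5,4,5] [244,245,244,244,244] (CT.cons 26 (CT.leaf [69,67,4,5,4,5] [([],370,[74,66,74]),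
 ([98,16],349,[77,68,76,67]),
 ([90],343,[82,69,81,4])] [112,110])
 (CT.cons 1116 (CT.leaf [64,77,4,71,87,87,75] [([],370,[68,65,78,66]),
 ([95,95],350,[70,78,75,67]),
 ([116,23],375,[3,79,71,67,82])] [25,117])
 (CT.cons 95 (CT.leaf [3,72,66,70,93,5] [([],370,[4,73,67,73]),
 ([],338,[4,74,64,73,82]),
 ([93],341,[68,3,76,77])] [110,24])
 (CT.cons 164 (CT.leaf [78,82,70,81,91,5,69] [([],370,[73,71,77,3]),
 ([99,14,91],346,[70,64,81,80]),
 ([111,23],354,[73,71,80,69])] [23,25,22])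
 (CT.cons 8 (CT.leaf [67,82,80,67,5,3,5] [([],370,[66,82,82]),
 ([92],348,[75,67,72,77]),
 ([136,139,32],387,[3,68,64,81,71])] [24])
 (CT.cons 1206 (CT.leaf [71,82,76,87,70,87] [([],370,[4,78,74,74,64]),
 ([94,14,17],350,[64,81,76,66,79]),
 ([25,115,24],374,[3,71,79,75,3])] [115,116])
 (CT.cons 969 (CT.leaf [81,3,74,80,93,5,64] [([],370,[73,71,77]),
 ([96,15],342,[3,78,70,74,64]),
 ([91],350,[82,75,74,80])] [118,115])
 (CT.cons 1273 (CT.leaf [68,68,64,71,93,88,75] [([],370,[3,80,64,69,65]),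
 ([90,14],341,[76,65,68,75]),
 ([114,112],379,[3,79,82,78])] [116,112,22])
 (CT.cons 180 (CT.leaf [67,82,66,3,88,88,81] [([],370,[80,71,71,74]),
 ([91],344,[3,72,75,72,4]),
 ([103],329,[64,76,77,80])] [112,23,25])
 (CT.cons 1025 (CT.leaf [4,66,70,3,87,85,88] [([],370,[82,65,71,77]),
 ([94,16,14],348,[74,80,76,79]),
 ([31,135],386,[3,81,81,64,76])] [111,115])
 (CT.cons 1209 (CT.leaf [70,3,80,75,1,88,94,1] [([],370,[82,74,81,4]),
 ([95,14],336,[68,75,66,64]),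
 ([104,104,20],333,[4,78,65,78,73])] [115,25,111])
 (CT.cons 152 (CT.leaf [73,73,78,72,87,73,93] [([],370,[79,69,69]),
 ([90],347,[75,82,78,72]),
 ([24],361,[64,80,72,64])] [114,112,25])
 CT.nil)))))))))))))

noncomputable def pz_T5_11 : CT := (CT.br [4,69,5,64,5] [242,243,242,242,242] (CT.cons 21 (CT.leaf [4,69,5,64,5] [([],369,[3,67,74,4,82]),
 ([87,87],318,[79,71,71,73]),
 ([95,14],343,[79,3,76,4])] [114,24,23])
 (CT.cons 174 (CT.leaf [3,73,65,67,88,88,81] [([],369,[76,77,73,73]),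
 ([11,80],314,[3,64,69,71,68]),
 ([112,22],354,[69,82,79,82])] [114,112,24])
 (CT.cons 102 (CT.leaf [77,65,80,74,88,69,88] [([],369,[3,71,78,66,71]),
 ([10,13],315,[68,75,80,74]),
 ([85,87],311,[77,74,70,79])] [110,116])
 (CT.cons 979 (CT.leaf [65,79,78,68,5,88,2] [([],369,[3,67,76,65,82]),
 ([87,85],312,[69,79,73,3]),
 ([117,110,23],375,[4,66,80,66,71])] [22,117,23])
 (CT.cons 161 (CT.leaf [4,64,76,69,1,92,88,83] [([],369,[3,82,3,72,69]),
 ([88,82,10],308,[3,73,76,64,73]),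
 ([100,108,18],332,[67,69,79,75])] [115,22,22])
 (CT.cons 1078 (CT.leaf [70,65,75,65,2,88,92] [([],369,[3,74,75,65,82]),
 ([86,12],318,[68,80,75,75]),
 ([96,16,16],350,[4,69,69,4])] [25,111,22])
 (CT.cons 1152 (CT.leaf [74,71,73,76,87,87,75] [([],369,[64,76,80,77]),
 ([81],312,[75,68,65,74]),
 ([111,117,22],374,[3,77,64,75,70])] [110,114,25])
 (CT.cons 1324 (CT.leaf [73,4,65,74,87,94,73] [([],369,[82,70,70,64]),
 ([13,13,10],311,[68,70,70]),
 ([112,22],379,[3,78,68,71,71])] [110,115,110])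
 (CT.cons 1044 (CT.leaf [79,76,82,75,5,91,78] [([],369,[3,76,65,69,77]),
 ([13,81],318,[64,70,3,72,4]),
 ([92,92],346,[69,66,72])] [118,25,22])
 (CT.cons 37 (CT.leaf [69,4,75,64,2,88,5] [([],369,[76,72,3,3]),
 ([83,80,12],312,[3,72,3,74,66]),
 ([22],356,[4,75,74])] [118,25,22])
 (CT.cons 1258 (CT.leaf [81,69,75,78,1,93,91] [([],369,[3,68,81,69,71]),
 ([82],313,[74,82,67,74]),
 ([103,105],333,[3,72,74,79,77])] [114,111])
 (CT.cons 145 (CT.leaf [4,67,74,76,4,87,72,93] [([],369,[64,68,79,71,4]),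
 ([88,12],307,[64,64,3,69]),
 ([86,81,11],312,[71,67,82,64])] [117,25])
 CT.nil)))))))))))))

noncomputable def pz_T5_12 : CT := (CT.br [4,64,64,5,64,5] [56] (CT.cons 4 (CT.leaf [4,64,64,5,64,5] [([],368,[4,67,81,68,71]),
 ([33,136],389,[72,74,79,70]),
 ([131,33],387,[65,79,71,81])] [118,24])
 (CT.cons 19 (CT.leaf [4,64,64,3,5,65,5] [([],368,[67,80,81,80]),
 ([138,33,30],389,[73,65,71,75]),
 ([32,130],387,[3,81,68,72,66])] [114,111,22])
 (CT.cons 161 (CT.leaf [66,79,78,4,88,88,81] [([],368,[3,78,79,78,65]),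
 ([139,30,30],388,[3,66,73,4,80]),
 ([105,103],332,[67,75,71,73])] [115,22,22])
 (CT.cons 72 (CT.leaf [3,76,68,74,71,88,69,88] [([],368,[78,73,3,81]),
 ([134,30],385,[4,81,3,81]),
 ([96],341,[3,72,79,70,72])] [114,116])
 (CT.cons 1019 (CT.leaf [69,76,79,76,5,88,2] [([],368,[65,78,72,76]),
 ([32,135,30],385,[82,78,74,67]),
 ([90,14],350,[72,77,76,74])] [24,114,25])
 (CT.cons 182 (CT.leaf [3,65,76,69,1,92,88,83] [([],368,[4,72,65,74,3]),
 ([136,33,30],388,[3,66,81,75,73]),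
 ([100,21],332,[72,73,77])] [116,110])
 (CT.cons 1117 (CT.leaf [70,76,79,70,2,88,92] [([],368,[77,76,71,75]),
 ([30,33,30],383,[78,66,68,65]),
 ([118,24,22],379,[3,81,77,66])] [118,110,22])
 (CT.cons 1182 (CT.leaf [67,80,76,81,91,71,91] [([],368,[3,77,67,71,80]),
 ([136,136,131],386,[3,72,64,70,70]),
 ([23,24],375,[77,69,76,77])] [117,22,22])
 (CT.cons 1307 (CT.leaf [70,66,81,87,87,75] [([],368,[3,64,73,71,67]),
 ([30,131,31],385,[66,82,76,81,78]),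
 ([99,91],346,[65,67,79,67])] [24,23])
 (CT.cons 998 (CT.leaf [73,4,82,67,87,94,73] [([],368,[65,73,65,81]),
 ([136,32],384,[3,64,81,68,80]),
 ([33,30],386,[65,69,71])] [112,111])
 (CT.cons 1374 (CT.leaf [64,64,69,74,87,64,87] [([],368,[4,72,65,74]),
 ([130,138,32],385,[71,66,79,73]),
 ([16,99,15],346,[3,71,67,4,71])] [22,118])
 (CT.cons 1224 (CT.leaf [75,81,4,81,5,74,92] [([],368,[68,64,71,81]),
 ([134,31,32],385,[64,69,76,64]),
 ([90,90,15],350,[69,82,4,72])] [22,117])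
 (CT.cons 1193 (CT.leaf [73,73,66,81,5,91,78] [([],368,[72,69,64,73]),
 ([130,132],385,[64,69,76,65]),
 ([90,15],347,[69,69,73,68])] [24,22])
 (CT.cons 1373 (CT.leaf [3,75,80,67,67,87,78,94] [([],368,[3,78,73,76]),
 ([136,136,130],386,[69,74,3,78]),
 ([115,117],374,[3,69,82,68,81])] [24,116])
 (CT.cons 1222 (CT.leaf [4,68,75,64,75,2,93,92] [([],368,[78,66,68,77]),
 ([139,33,30],385,[65,77,71,64]),
 ([98,97],346,[3,82,77,72,65])] [116,116,22])
 (CT.cons 1278 (CT.leaf [68,76,78,82,5,89,91] [([],368,[64,75,66,76]),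
 ([30,131,30],384,[81,73,3,71]),
 ([139,132,30],386,[4,75,75,3,76])] [112,110])
 (CT.cons 1332 (CT.leaf [4,80,74,76,76,87,87,75] [([],368,[79,81,74,82]),
 ([33,134,31],386,[72,66,69,81]),
 ([111,23],380,[64,76,82,75])] [111,24])
 (CT.cons 1051 (CT.leaf [64,69,4,75,91,71,91] [([],368,[3,74,76,76,69]),
 ([130,138],386,[67,82,77,70]),
 ([23,114,22],380,[80,77,64,81])] [116])
 (CT.cons 1309 (CT.leaf [3,70,4,80,66,91,5,89] [([],368,[3,70,69,75,75]),
 ([30],386,[70,74,3,70]),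
 ([112,117],367,[69,77,67])] [112,111,22])
 (CT.cons 1160 (CT.leaf [4,68,70,66,88,94,89] [([],368,[4,69,73,4]),
 ([138,137],387,[3,3,3,74,81]),
 ([117,110,22],379,[68,82,71,73])] [111,22,24])
 (CT.cons 974 (CT.leaf [64,76,69,4,1,94,87] [([],368,[68,78,73,68]),
 ([131],387,[72,64,66,74]),
 ([114,116,23],367,[66,74,76,81])] [112,25])
 (CT.cons 1350 (CT.leaf [4,67,79,4,78,1,93,91,4] [([],368,[3,71,65,78,71]),
 ([135,137,32],387,[4,69,64,75]),
 ([112,24,22],380,[3,74,75,4,74])] [117,22,22])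
 (CT.cons 166 (CT.leaf [75,75,82,78,92,5] [([],368,[64,77,72]),
 ([139,131,30],383,[72,65,70,66]),
 ([24,23],354,[4,68,82,70,81])] [117,115,22])
 (CT.cons 1190 (CT.leaf [3,75,3,79,76,2,88,5,4] [([],368,[74,72,81,69]),
 ([134,31,32],386,[3,74,70,79]),
 ([112,22],367,[3,69,67,67,65])] [22,110])
 (CT.cons 50 (CT.leaf [73,76,3,65,2,88,5] [([],368,[3,66,81,4,72]),
 ([32,134,31],385,[79,79,73,77]),
 ([14,16],343,[4,73,71,72,64])] [22,110,22])
 (CT.cons 48 (CT.leaf [3,3,68,74,81,92,92,83] [([],368,[69,78,70,69]),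
 ([132,138],388,[78,69,69,3]),
 ([],325,[3,73,67,73,64])] [])
 (CT.cons 1082 (CT.leaf [4,65,79,68,93,87,81] [([],368,[3,73,67,4,75]),
 ([131,136,31],385,[70,4,79,64]),
 ([14,95],350,[3,79,77,64])] [118,24])
 (CT.cons 1272 (CT.leaf [77,71,80,73,87,87,89] [([],368,[3,71,76,76,3]),
 ([139,136,30],383,[69,65,79,75]),
 ([110],379,[64,78,4,67])] [117,24,23])
 (CT.cons 137 (CT.leaf [73,68,77,87,72,93] [([],368,[76,68,67,70]),
 ([134,30],389,[68,68,75,80]),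
 ([135,136,30],383,[67,74,76,79])] [117,25,22])
 (CT.cons 178 (CT.leaf [73,72,80,2,87,92] [([],368,[69,66,76,76]),
 ([134,33,30],386,[72,67,79,75]),
 ([24],352,[82,79,3,79])] [118,115])
 CT.nil)))))))))))))))))))))))))))))))

noncomputable def pz_T5_13 : CT := (CT.br [65,70,5,64,5] [241] (CT.cons 31 (CT.leaf [65,70,5,64,5] [([],367,[4,78,70,66,66]),
 ([111],360,[3,64,77,71,65]),
 ([30,33,30],387,[4,72,3,81,76])] [111,22])
 (CT.cons 42 (CT.leaf [65,70,3,5,65,5] [([],367,[74,77,74,66]),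
 ([25,111,22],366,[3,75,67,68]),
 ([97],343,[75,4,70])] [110,114])
 (CT.cons 166 (CT.leaf [81,65,72,88,88,81] [([],367,[3,81,66,75,77]),
 ([117,110],367,[79,79,65,78]),
 ([25,23],354,[64,68,71,74,79])] [110,116])
 (CT.cons 82 (CT.leaf [72,81,68,73,88,69,88] [([],367,[3,73,75,73,81]),
 ([111,112,22],375,[72,78,65,72]),
 ([118],362,[82,71,78,67])] [115,117])
 (CT.cons 913 (CT.leaf [3,3,64,3,81,5,88,2] [([],367,[3,65,80,75,69]),
 ([112,111,22],368,[65,81,77,74]),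
 ([30],386,[75,80,65,73])] [112,117])
 (CT.cons 161 (CT.leaf [3,75,77,70,66,1,92,88,83] [([],367,[64,69,72,81,69]),
 ([24],371,[3,67,76,81,3]),
 ([106,18],332,[82,77,80,70])] [115,22,22])
 (CT.cons 1242 (CT.leaf [3,66,80,78,72,2,88,92] [([],367,[76,69,74,79]),
 ([24],377,[3,73,81,78,68]),
 ([98,95,16],346,[76,79,77,70])] [25,111,25])
 (CT.cons 1392 (CT.leaf [3,3,67,80,64,91,71,91] [([],367,[64,73,66,71,73]),
 ([117,23],374,[3,74,74,81,77]),
 ([111,115,22],379,[76,80,77,71])] [22,110])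
 (CT.cons 1361 (CT.leaf [3,68,79,73,76,87,87,75] [([],367,[3,71,67,79,3]),
 ([22,117],374,[3,68,67,70,80]),
 ([114,22,25],375,[67,75,69,82])] [24,111])
 (CT.cons 1293 (CT.leaf [4,75,69,78,87,94,73] [([],367,[72,66,79,66]),
 ([22,110],368,[64,68,81,72,78]),
 ([134,31,32],386,[72,69,78,80])] [112,22])
 (CT.cons 959 (CT.leaf [68,3,70,81,87,64,87] [([],367,[69,81,70,73]),
 ([118,110,22],375,[3,65,71,67,78]),
 ([23,24],374,[67,78,68,68])] [112,22])
 (CT.cons 1389 (CT.leaf [3,67,71,68,74,5,74,92] [([],367,[78,76,66,82]),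
 ([23,117],366,[82,70,72,82]),
 ([94,96,15],346,[3,72,81,69,4])] [116,110,116])
 (CT.cons 1360 (CT.leaf [65,67,77,75,81,5,92,69] [([],367,[68,76,74,79]),
 ([112,116],362,[78,78,66,74]),
 ([111,112],375,[82,75,64])] [115,24,23])
 (CT.cons 1102 (CT.leaf [71,78,66,5,91,78] [([],367,[78,76,81,3]),
 ([117,24,23],374,[78,79,65,82]),
 ([114,110],374,[4,76,74,79,71])] [111,112])
 (CT.cons 944 (CT.leaf [65,70,80,77,79,87,78,94] [([],367,[77,79,68,64]),
 ([118,110],378,[71,76,77]),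
 ([94,17],346,[75,65,73,73])] [115,115,23])
 (CT.cons 1076 (CT.leaf [69,65,75,78,91,71,91] [([],367,[3,74,65,75]),
 ([23,110],366,[82,72,65]),
 ([14,90],350,[3,73,80,77,80])] [117,22])
 (CT.cons 1091 (CT.leaf [3,78,69,78,4,91,5,89] [([],367,[4,75,74,66,64]),
 ([24,22],352,[81,77,75]),
 ([24,115,22],380,[3,67,70,64,71])] [114,24,23])
 (CT.cons 1127 (CT.leaf [65,79,65,73,88,94,89] [([],367,[3,3,82,70]),
 ([117,25,22],367,[69,4,75,68]),
 ([111,117],374,[78,3,70,80])] [115,23,24])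
 (CT.cons 1002 (CT.leaf [3,72,79,76,73,5,91,72] [([],367,[3,64,72,81,64]),
 ([116,25],354,[64,76,73,69]),
 ([111,115,22],367,[64,75,71])] [24,114,25])
 (CT.cons 11 (CT.leaf [66,69,3,67,2,94,5] [([],367,[67,65,81,76]),
 ([112,25],368,[70,76,76,70]),
 ([131],387,[76,82,72,78])] [114,116,23])
 (CT.cons 924 (CT.leaf [70,4,67,79,1,92,78,88] [([],367,[68,3,81,78]),
 ([117,110,23],353,[4,77,69,76]),
 ([107,104],333,[3,72,81,70,4])] [114,23])
 (CT.cons 1345 (CT.leaf [3,69,70,72,4,1,93,91,4] [([],367,[3,71,3,75,4]),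
 ([117,110],374,[68,77,4,68]),
 ([22,25],367,[79,74,77,75])] [23,25,23])
 (CT.cons 2 (CT.leaf [4,67,79,74,68,2,88,5] [([],367,[3,67,67,77,75]),
 ([114,25],374,[82,76,73,77]),
 ([22],373,[3,67,69,73,81])] [22,110,22])
 (CT.cons 996 (CT.leaf [80,80,3,72,2,5,88] [([],367,[69,4,77,73]),
 ([118,22],364,[71,74,77,68]),
 ([30,139],386,[4,77,64,78,72])] [24,116])
 (CT.cons 910 (CT.leaf [3,80,72,66,68,1,91,65,94] [([],367,[3,3,69,4,74]),
 ([111,25],379,[3,3,71,71,3]),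
 ([111,112,23],374,[64,64,78,80])] [24,110,114])
 (CT.cons 1357 (CT.leaf [77,73,73,75,93,5,64] [([],367,[4,66,82,74,67]),
 ([116,23],372,[80,80,72,80]),
 ([116,111,23],374,[81,67,71,65])] [110,114])
 (CT.cons 178 (CT.leaf [70,74,66,70,91,5,69] [([],367,[65,80,71]),
 ([110,22,22],380,[68,70,3,73]),
 ([24],352,[4,74,74,80,73])] [117,22])
 (CT.cons 1384 (CT.leaf [79,76,76,72,93,87,81] [([],367,[4,78,70,4]),
 ([112],367,[4,69,75,77]),
 ([111,23],367,[4,69,74,81])] [114,24])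
 (CT.cons 137 (CT.leaf [65,73,79,64,87,72,93] [([],367,[80,72,75,72]),
 ([24,111],364,[76,81,71,67]),
 ([138,33],383,[71,68,81])] [22,117])
 (CT.cons 185 (CT.leaf [68,82,77,71,2,87,92] [([],367,[80,3,66,77]),
 ([23,24],353,[3,70,75,77,70]),
 ([109,103,18],332,[3,72,65,72,76])] [118,25])
 CT.nil)))))))))))))))))))))))))))))))

noncomputable def pz_T5_14 : CT := (CT.br [64,71,65,5,4,5] [240] (CT.cons 43 (CT.leaf [64,71,65,5,4,5] [([],366,[3,3,76,76]),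
 ([98,97],348,[4,71,71,79,75]),
 ([134,33,31],387,[79,65,79,70])] [22,114,22])
 (CT.cons 1393 (CT.leaf [66,72,80,78,87,87,75] [([],366,[68,71,78,80]),
 ([97,99],348,[67,70,69,74]),
 ([136,136,130],386,[3,64,64,70,78])] [110,22,22])
 (CT.cons 75 (CT.leaf [3,64,66,81,93,5] [([],366,[73,69,80,67]),
 ([94,15],347,[79,67,78,70]),
 ([25,112],362,[77,79,3])] [117,115])
 (CT.cons 159 (CT.leaf [73,70,75,91,5,69] [([],366,[81,68,78]),
 ([91],341,[64,68,76,69]),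
 ([112],354,[3,67,71,77,3])] [110,115,22])
 (CT.cons 12 (CT.leaf [64,71,65,65,5,3,5] [([],366,[68,67,68,78]),
 ([16,95,91],348,[3,65,71,74,64]),
 ([30,137,30],387,[67,67,82,77])] [117,23])
 (CT.cons 1190 (CT.leaf [66,68,80,82,87,70,87] [([],366,[69,78,69,3]),
 ([97],343,[67,70,65,80]),
 ([110,114],367,[74,79,66,72])] [25,111,22])
 (CT.cons 1243 (CT.leaf [3,81,4,71,71,93,5,64] [([],366,[81,68,78,4]),
 ([92,14],345,[65,79,4,74]),
 ([95,92,15],346,[81,67,70,3])] [23,111,22])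
 (CT.cons 1268 (CT.leaf [4,64,82,68,92,4,92] [([],366,[69,78,69,4]),
 ([99,99,14],345,[75,71,78,4]),
 ([92,17],350,[65,81,67,73])] [25,112])
 (CT.cons 1185 (CT.leaf [74,74,75,81,93,87,81] [([],366,[4,71,78,64]),
 ([98,17,17],346,[64,3,82,77]),
 ([23,116],379,[3,72,82,71,74])] [23,25,23])
 (CT.cons 190 (CT.leaf [78,74,68,3,88,88,81] [([],366,[65,76,78,71]),
 ([95,91],336,[4,71,82,68]),
 ([107,104,19],332,[69,75,66,69])] [112,24])
 (CT.cons 1230 (CT.leaf [70,74,76,67,5,91,83] [([],366,[69,78,69]),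
 ([14,90],350,[76,74,4,64]),
 ([117,22],367,[66,77,67,75])] [23,110])
 (CT.cons 1399 (CT.leaf [74,71,79,67,93,88,75] [([],366,[78,72,74,69]),
 ([92,92,14],348,[3,70,82,66,73]),
 ([134,32,30],386,[66,72,76,76])] [115,110,24])
 (CT.cons 1183 (CT.leaf [70,67,68,71,2,88,92] [([],366,[3,76,79]),
 ([94,17],345,[3,74,78,68,80]),
 ([17,95],350,[4,65,68,70])] [25,114,25])
 (CT.cons 1244 (CT.leaf [68,77,72,79,5,91,70] [([],366,[3,75,79,66,80]),
 ([15,90],350,[64,70,64,79]),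
 ([110,22,22],380,[82,77,80,66])] [111])
 (CT.cons 1015 (CT.leaf [77,69,71,67,5,91,83] [([],366,[76,4,82,70]),
 ([93,15],346,[74,82,73]),
 ([118,25],379,[4,79,67,71])] [24,116,22])
 (CT.cons 992 (CT.leaf [67,81,64,76,1,91,87] [([],366,[72,76,76,68]),
 ([94,14],350,[3,74,4,72,69]),
 ([111,22],375,[67,81,76,4])] [118,110])
 (CT.cons 991 (CT.leaf [4,76,77,72,69,1,93,91,4] [([],366,[3,79,66,77]),
 ([92,16],345,[66,81,72]),
 ([17,90],346,[4,74,78,70])] [25,22])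
 (CT.cons 163 (CT.leaf [73,75,67,74,88,88,81] [([],366,[67,74,76,81]),
 ([90,94],336,[71,67,67,81]),
 ([106,104,101],332,[64,69,78,82,69])] [111,115,22])
 (CT.cons 1077 (CT.leaf [4,70,79,81,5,91,72] [([],366,[79,68,76,64]),
 ([94,14],346,[74,66,69,72]),
 ([23],367,[72,74,77,77])] [117,115,22])
 (CT.cons 17 (CT.leaf [65,70,73,68,5,3,5] [([],366,[67,77,77,80]),
 ([14,94],350,[4,80,75,82]),
 ([116,23],373,[79,67,72,4])] [24,115,22])
 (CT.cons 1297 (CT.leaf [3,65,72,74,75,1,1,88,94] [([],366,[74,80,74,72]),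
 ([15,95],346,[80,74,70,78]),
 ([116,112,22],380,[4,81,74,64])] [115,23])
 (CT.cons 1295 (CT.leaf [77,67,72,64,2,94,87] [([],366,[76,67,82,68]),
 ([96,91,14],350,[73,81,69,76]),
 ([116,22],374,[3,76,70])] [22])
 (CT.cons 1086 (CT.leaf [4,81,71,64,1,94,87] [([],366,[65,75,80,81]),
 ([96,15],349,[3,68,4,65,72]),
 ([97,95,15],350,[3,76,77,72,78])] [118])
 (CT.cons 1394 (CT.leaf [3,72,67,70,78,5,92,64] [([],366,[3,73,75,77,64]),
 ([96,99],348,[3,65,77,76,82]),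
 ([130,136,30],386,[69,64,73,4])] [118,25,23])
 (CT.cons 1186 (CT.leaf [78,3,73,72,2,91,87] [([],366,[78,4,75,71]),
 ([14,90],346,[77,72,82,76]),
 ([25,115],379,[3,64,66,76])] [115,117,22])
 (CT.cons 905 (CT.leaf [3,74,76,73,88,88,86] [([],366,[3,78,64,71,64]),
 ([98,14],343,[69,79,78,72]),
 ([117,112,22],380,[3,73,79,70,67])] [112,24,22])
 (CT.cons 50 (CT.leaf [73,3,81,75,2,88,5] [([],366,[3,72,82,68,3]),
 ([15,91],345,[68,75,75,79]),
 ([96,93],343,[4,66])] [112,111])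
 (CT.cons 201 (CT.leaf [66,64,64,72,91,91,79] [([],366,[69,70,66]),
 ([],337,[74,77,82,64]),
 ([12,82],314,[71,80,78,76])] [111,115,22])
 (CT.cons 1136 (CT.leaf [72,68,67,70,1,92,78,88] [([],366,[66,78,71,74]),
 ([94,15],349,[3,76,69,66,75]),
 ([92,15],347,[3,67,81,71,73])] [24,110])
 (CT.cons 114 (CT.leaf [70,66,82,66,87,73,93] [([],366,[3,67,67,80,81]),
 ([98,16],337,[4,76,66,71,79]),
 ([83,89],312,[4,4,75,75])] [110,25])
 CT.nil)))))))))))))))))))))))))))))))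

noncomputable def pz_T5_16 : CT := (CT.br [71,72,75,82,92,82] [236,237] (CT.cons 53 (CT.leaf [71,72,75,82,92,82] [([],364,[3,82,69,77,79]),
 ([],388,[69,65,79,67]),
 ([104,19],326,[73,78,76,76])] [24,116,111])
 (CT.cons 223 (CT.leaf [66,72,81,67,92,69] [([],364,[68,72,81,79]),
 ([132,130],385,[3,75,82,65]),
 ([16,95],346,[3,80,74,80,71])] [114,117,22])
 (CT.cons 467 (CT.leaf [82,79,67,71,92,77] [([],364,[4,64,75,78,65]),
 ([130,132],386,[77,74]),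
 ([110,23],380,[67,82,74,72])] [112,110,22])
 (CT.cons 490 (CT.leaf [65,72,78,71,1,87,84] [([],364,[3,69,64,76,82]),
 ([31,135],387,[74,82,75,71]),
 ([24,23],362,[3,3,74,64,79])] [25])
 (CT.cons 548 (CT.leaf [3,80,71,78,68,92,78] [([],364,[75,73,73,79]),
 ([134,33,31],385,[73,78,76,71]),
 ([16,16,15],346,[80,71,64,75])] [116,112,22])
 (CT.cons 218 (CT.leaf [4,81,78,78,73,91,3] [([],364,[80,71,73]),
 ([132,31],389,[3,69,81,73]),
 ([137,32],386,[82,75,64,79])] [116,111,25])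
 (CT.cons 893 (CT.leaf [67,80,78,81,1,87,73] [([],364,[71,73,69,76]),
 ([32,132],383,[82,70,80,74]),
 ([118],374,[3,3,79,82,72])] [112,110,23])
 (CT.cons 411 (CT.leaf [4,81,78,78,73,91,4] [([],364,[67,76,77,79]),
 ([136,139,32],385,[68,80,65,67]),
 ([93],341,[70,64,77,76])] [25])
 (CT.cons 474 (CT.leaf [74,67,69,64,92,77] [([],364,[3,72,68,66,78]),
 ([135,136,30],388,[66,73,81,66]),
 ([107,104],333,[65,73,71,76])] [25,115])
 (CT.cons 435 (CT.leaf [4,81,78,78,73,91] [([],364,[80,71,73,4]),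
 ([134,30],387,[73,68,81,66]),
 ([114,22],362,[3,65,73,81,77])] [112,117,22])
 (CT.cons 386 (CT.leaf [65,71,76,82,92,77] [([],364,[66,71,64,74]),
 ([30,132],389,[3,73,80,4,69]),
 ([32,136,32],386,[3,3,82,79,69])] [24,114])
 (CT.cons 860 (CT.leaf [70,72,78,81,1,87,73] [([],364,[3,80,4,71,3]),
 ([30,130],383,[3,3,73,78,79]),
 ([114],375,[70,77,65,75])] [111,117])
 (CT.cons 321 (CT.leaf [3,64,68,79,64,92,69] [([],364,[4,64,81,71]),
 ([130,31,31],389,[75,79,69,66]),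
 ([],383,[64,81,77,72])] [114,24,23])
 (CT.cons 245 (CT.leaf [3,3,69,4,74,1,87,84] [([],364,[78,66,82]),
 ([135,31],384,[71,79,79,71]),
 ([139,135],383,[67,75,82,72])] [117,115,112])
 (CT.cons 338 (CT.leaf [3,71,3,66,3,92,69] [([],364,[4,4,69,70]),
 ([31],386,[3,65,75,66,81]),
 ([24,116],367,[4,73,67,79,64])] [117,110,23])
 (CT.cons 264 (CT.leaf [3,81,77,4,79,92,69] [([],364,[69,80,71]),
 ([31,32,31],383,[68,80,75,3]),
 ([110],380,[77,77,65,67])] [23,110])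
 (CT.cons 898 (CT.leaf [73,4,79,74,1,87,73] [([],364,[3,69,76,65,75]),
 ([136,139],386,[81,70,75,70]),
 ([110,25,22],379,[69,76,76,77])] [111,117,23])
 (CT.cons 813 (CT.leaf [70,74,74,80,1,87,73] [([],364,[80,71,3,70]),
 ([139,32],388,[77,4,77,68]),
 ([108,106,18],332,[76,71,71,80])] [118,24,22])
 (CT.cons 235 (CT.leaf [68,67,80,74,1,87,84] [([],364,[4,78,76,69,74]),
 ([136,136],383,[4,65,82,64]),
 ([25],373,[76,78,67])] [116,111,24])
 (CT.cons 536 (CT.leaf [4,4,78,67,68,92,69] [([],364,[73,73,78,81]),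
 ([138,33],383,[66,81,74,4]),
 ([22,117],367,[3,3,67,72])] [24,111])
 CT.nil)))))))))))))))))))))

noncomputable def pz_T5_18 : CT := (CT.br [68,4,2,5] [233,234] (CT.cons 51 (CT.leaf [68,4,2,5] [([],362,[3,66,72,77,82]),
 ([],353,[74,74,74,78]),
 ([108],329,[69,81,4,66])] [111,22,24])
 (CT.cons 627 (CT.leaf [75,79,79,68,1,92,69] [([],362,[4,82,82,64,73]),
 ([112,24],364,[65,4,70,65,74]),
 ([134,30],387,[64,81,64,3])] [111,115,25])
 (CT.cons 601 (CT.leaf [66,70,74,74,1,92,77] [([],362,[3,72,82,78,68]),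
 ([23,25,22],378,[72,77,68,4]),
 ([99,95],350,[4,72,65,67])] [116,116,116])
 (CT.cons 654 (CT.leaf [68,4,2,5,65] [([],362,[69,64,74,74]),
 ([117,110],378,[4,68,68,70,75]),
 ([96,15],350,[69,67,68])] [24,116])
 (CT.cons 559 (CT.leaf [74,64,82,74,1,92,78] [([],362,[4,76,82,4]),
 ([116,23],379,[3,82,76,73,73]),
 ([24,24],375,[66,72,4,80])] [115,22,22])
 (CT.cons 874 (CT.leaf [69,76,80,69,1,91,3] [([],362,[79,67,75,70]),
 ([114,117,22],380,[73,65,80,69]),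
 ([118,23],374,[66,78,68,76])] [114,112])
 (CT.cons 419 (CT.leaf [3,80,4,70,78,1,1,87,73] [([],362,[71,78,74]),
 ([116],376,[68,80,82,74]),
 ([99,93],346,[3,77,67,68,66])] [24,115])
 (CT.cons 754 (CT.leaf [69,76,80,69,1,91] [([],362,[4,81,77,71]),
 ([112,23],374,[69,77,75,74]),
 ([118,110,22],379,[4,69,66,78,75])] [115,117])
 (CT.cons 838 (CT.leaf [68,73,71,81,1,92,77] [([],362,[4,75,74,64,78]),
 ([111,25],366,[3,72,80,72,3]),
 ([94,15],347,[3,81,68,82,75])] [111,112,23])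
 (CT.cons 427 (CT.leaf [4,68,4,73,65,1,1,87,73] [([],362,[4,76,67,81]),
 ([111,112],375,[69,3,71,64]),
 ([22,118],367,[3,78,81,68,77])] [114,117])
 (CT.cons 688 (CT.leaf [66,70,77,64,1,92,69] [([],362,[67,75,75,72]),
 ([112,25],353,[3,74,69,77,79]),
 ([19,102],332,[3,81,75,64,73])] [117,115,112])
 (CT.cons 801 (CT.leaf [64,77,75,64,2,5,65] [([],362,[64,80,78,72]),
 ([22],357,[69,66,69,69]),
 ([105,101],332,[68,77,77,79])] [114,110])
 (CT.cons 668 (CT.leaf [73,79,78,1,92,69] [([],362,[76,73,79,68]),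
 ([25],359,[4,82,74,3]),
 ([146,141,35],382,[66,79,71])] [23])
 (CT.cons 853 (CT.leaf [3,73,72,65,4,1,92,77] [([],362,[65,73,65,81]),
 ([115],379,[3,81,68,72,66]),
 ([112,25],374,[64,68,73,81,79])] [25,115])
 (CT.cons 837 (CT.leaf [3,67,81,74,75,1,92,69] [([],362,[65,65,71,68]),
 ([114,25],364,[76,70,78,82]),
 ([31,131,30],387,[4,77,77,76,77])] [112,23,24])
 (CT.cons 891 (CT.leaf [3,77,81,76,71,1,92,69] [([],362,[4,74,80,75,79]),
 ([110],377,[3,65,65,70,65]),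
 ([16],343,[3,67,4,75])] [24,114,25])
 (CT.cons 731 (CT.leaf [70,79,75,81,1,91,4] [([],362,[67,67,75,74]),
 ([22,118],367,[77,64,78,75]),
 ([111,112,22],375,[3,82,77,65,69])] [114,24])
 (CT.cons 390 (CT.leaf [77,77,69,69,1,1,87,73] [([],362,[3,78,71,64,72]),
 ([],362,[68,78,74,65]),
 ([],362,[64,71,68])] [115,112])
 (CT.cons 647 (CT.leaf [65,73,70,76,1,92,78] [([],362,[65,77,76,76]),
 ([111,24],375,[3,65,75,74,75]),
 ([116,22],379,[67,74,65,75])] [116,24,24])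
 (CT.cons 505 (CT.leaf [77,68,78,71,2,5,79] [([],362,[65,74,66,71]),
 ([112,110],374,[80,4,74,78]),
 ([114,117,22],380,[75,67,80,68])] [116,111,24])
 CT.nil)))))))))))))))))))))

noncomputable def pz_T5_20 : CT := (CT.br [70,64,1,5] [230,231] (CT.cons 52 (CT.leaf [70,64,1,5] [([],360,[79,81,77,4]),
 ([32,32,30],383,[4,75,72,68,4]),
 ([],356,[69,71,71,3])] [117,24,22])
 (CT.cons 564 (CT.leaf [70,64,1,5,4] [([],360,[65,77,66,74,65]),
 ([131,30],385,[72,78,3,70]),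
 ([14],350,[3,66,80,75])] [112,22])
 (CT.cons 662 (CT.leaf [73,81,72,76,88,75] [([],360,[79,81,77]),
 ([33],387,[65,69,81,68]),
 ([116,112,23],375,[65,65,71,78])] [24,116,22])
 (CT.cons 639 (CT.leaf [4,82,71,87,84] [([],360,[3,68,72,82,77]),
 ([138,32,32],385,[4,77,77,67]),
 ([97,95,15],350,[66,69,75,3])] [115,117])
 (CT.cons 586 (CT.leaf [68,80,81,3,87,83] [([],360,[4,69,76,67]),
 ([131,132],388,[3,81,66,77]),
 ([20,18],332,[4,67,72,4])] [116,116,22])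
 (CT.cons 798 (CT.leaf [4,72,82,71,2,91,3] [([],360,[76,78,78,64]),
 ([135,137,30],386,[70,81,73,68]),
 ([],379,[78,73,76,76])] [115,115,23])
 (CT.cons 274 (CT.leaf [4,67,73,68,87,73] [([],360,[68,3,75,69]),
 ([32,139],387,[76,66,81,64]),
 ([110,25],380,[71,66,70])] [116,23])
 (CT.cons 730 (CT.leaf [73,71,73,81,88,67] [([],360,[67,74,80]),
 ([134,138,30],383,[80,3,72,77]),
 ([25,114],375,[3,79,68,78,65])] [110,22,24])
 (CT.cons 595 (CT.leaf [70,3,65,1,5,4] [([],360,[3,69,81,3,78]),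
 ([131,31],387,[3,66,69,82,69]),
 ([111,23],374,[73,64,72,67])] [114,114])
 (CT.cons 803 (CT.leaf [64,72,78,81,68,88,75] [([],360,[3,71,72,64,76]),
 ([131,32,30],386,[77,71,80]),
 ([25,115],379,[3,82,71,72,65])] [22,117,23])
 (CT.cons 345 (CT.leaf [82,4,71,76,87,73] [([],360,[75,69,70,70]),
 ([135,136,30],389,[3,68,78,70,4]),
 ([31,135],386,[74,4,74,65])] [25,117,23])
 (CT.cons 823 (CT.leaf [69,72,65,72,1,5,4] [([],360,[3,3,79,79,73]),
 ([131,30],384,[65,67,68,81]),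
 ([30,132],387,[79,4,70,64])] [115,117,24])
 (CT.cons 848 (CT.leaf [4,65,77,88,75] [([],360,[64,70,65,67]),
 ([33,131],383,[72,73,76,73]),
 ([112,117,22],374,[3,72,3,79,75])] [116,115,23])
 (CT.cons 851 (CT.leaf [71,65,81,3,1,5,4] [([],360,[72,79,70,82]),
 ([139,31],388,[72,67,72,74]),
 ([106,102,101],332,[4,75,3,66])] [117,110,22])
 (CT.cons 612 (CT.leaf [4,65,72,67,80,88,75] [([],360,[82,70,3,74]),
 ([32,134,32],385,[3,64,68,70,65]),
 ([90,17],347,[71,64,80,66])] [110,114,22])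
 (CT.cons 836 (CT.leaf [82,70,78,87,84] [([],360,[64,64,68,77]),
 ([139,139,32],386,[3,81,73,70,4]),
 ([25],354,[4,65,78,3,65])] [23,111,22])
 (CT.cons 678 (CT.leaf [73,4,71,78,88,75] [([],360,[75,71,68,65]),
 ([136,136],387,[80,3,75,70]),
 ([25],372,[4,78,74])] [110,115,110])
 (CT.cons 364 (CT.leaf [70,65,79,71,87,73] [([],360,[3,3,78,3,65]),
 ([31,32,31],387,[67,70,73,75]),
 ([25,111,23],367,[75,66,82])] [110,25])
 (CT.cons 322 (CT.leaf [81,65,74,82,87,73] [([],360,[66,80,82,72]),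
 ([33,138],389,[65,4,77,68]),
 ([139,32],383,[64,66,66,77,66])] [114,110])
 (CT.cons 822 (CT.leaf [4,4,80,73,75,2,91,86] [([],360,[77,65,72,82]),
 ([],389,[78,4,73,77]),
 ([130,31,31],387,[68,77,4,65])] [115,23,25])
 CT.nil)))))))))))))))))))))

noncomputable def pz_T5_26 : CT := (CT.br [4,5] [223,222,223,222,223] (CT.cons 0 (CT.leaf [4,5] [([],354,[]),
 ([],358,[77,73,67,74]),
 ([28,126],304,[72,77,70,66])] [23,118,22])
 (CT.cons 204 (CT.leaf [4,5,4] [([],354,[4]),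
 ([24,22],380,[4,66,82,74]),
 ([114,25],380,[4,76,68,3])] [117,24,23])
 (CT.cons 459 (CT.leaf [4,5,3] [([],354,[3]),
 ([24],370,[73,77,4,70]),
 ([94,92],346,[66,77,65,75])] [23,25,22])
 (CT.cons 513 (CT.leaf [4,5,65] [([],354,[65]),
 ([110,116],368,[70,75,64,80]),
 ([139,131,30],383,[75,68,64,78])] [114,112,23])
 (CT.cons 755 (CT.leaf [68,68,78,78,2,87,73] [([],354,[65,4]),
 ([112,111],379,[66,64,70,3]),
 ([24,110],379,[3,69,69,80])] [117,24])
 (CT.cons 318 (CT.leaf [4,67,5,4] [([],354,[67,4]),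
 ([114,110],360,[73,76,74,68]),
 ([30,137,32],386,[75,78,72,77])] [22,115,22])
 (CT.cons 536 (CT.leaf [4,66,5,3] [([],354,[66,3]),
 ([117,25,22],367,[3,64,64,69,65]),
 ([117,110],367,[73,77,76,70])] [117,112])
 (CT.cons 446 (CT.leaf [4,72,5,3] [([],354,[72,3]),
 ([114,25],366,[4,78,73,4,70]),
 ([91],341,[71,3,73,68])] [25,114])
 (CT.cons 297 (CT.leaf [4,69,71,5,4] [([],354,[69,71,4]),
 ([24,24],369,[79,82,79,74]),
 ([11,80],314,[77,67,65,80])] [117,24])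
 (CT.cons 865 (CT.leaf [82,73,65,69,2,87,73] [([],354,[4,69,3]),
 ([25],376,[3,74,3,73,80]),
 ([99,14],343,[77,79,69,76])] [110,110])
 (CT.cons 509 (CT.leaf [4,67,67,5,4] [([],354,[67,67,4]),
 ([110],355,[77,81,79,65]),
 ([84,80,10],312,[75,80,78,75])] [24,115,25])
 (CT.cons 612 (CT.leaf [73,79,64,69,5,79] [([],354,[65,67,70,4]),
 ([115],377,[66,80,66,64]),
 ([98,16],347,[69,82,68])] [110,114,22])
 CT.nil)))))))))))))

noncomputable def pz_T5_27 : CT := (CT.br [70,64,5] [220,221] (CT.cons 0 (CT.leaf [70,64,5] [([],353,[67,65,80,64]),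
 ([],321,[3,3,66,66,68]),
 ([27,128,26,26],304,[80,66,81,75])] [23,111])
 (CT.cons 499 (CT.leaf [70,64,5,4] [([],353,[80,69,78,75]),
 ([18,101],320,[4,4,70,78,75]),
 ([90,16,14],346,[3,67,82,67])] [112,24])
 (CT.cons 532 (CT.leaf [70,64,5,3] [([],353,[78,75,77,67]),
 ([102,101],334,[75,72,78,82]),
 ([30,137,30],383,[79,67,80,73])] [116,25])
 (CT.cons 459 (CT.leaf [70,64,5,65] [([],353,[67,65,80]),
 ([18,21,19],320,[3,80,77,3,72]),
 ([96,95],346,[66,68,65])] [23,25,22])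
 (CT.cons 210 (CT.leaf [70,64,5,64] [([],353,[70,80,70,69]),
 ([102,20,19],332,[3,65,67,79]),
 ([25,22],380,[3,64,72,68,4])] [112,24])
 (CT.cons 540 (CT.leaf [70,64,5,4,4] [([],353,[81,77,75,74]),
 ([108,19],332,[64,77,65,79,67]),
 ([117,23],367,[68,4,79,81])] [22,118])
 (CT.cons 720 (CT.leaf [67,82,4,81,2,87,73] [([],353,[67,65,80,4]),
 ([101,104,18],332,[73,78,69,82]),
 ([],374,[4,80,72,64])] [116,110,24])
 (CT.cons 270 (CT.leaf [4,64,74,79,68,2,88,67] [([],353,[76,67,79,76]),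
 ([19,20],334,[66,78,74,70]),
 ([134,138,32],386,[71,71,4,74])] [115,22,22])
 (CT.cons 263 (CT.leaf [70,64,66,5,3] [([],353,[74,78,64,81]),
 ([18,107],333,[3,72,82,74]),
 ([117,110],380,[64,74,72,66])] [])
 (CT.cons 230 (CT.leaf [70,64,72,5,3] [([],353,[81,81,73,77]),
 ([105,109],332,[82,82,69,80]),
 ([25,23],362,[3,73,68,75])] [117,117])
 (CT.cons 832 (CT.leaf [3,76,74,65,68,2,87,73] [([],353,[76,66,77,76]),
 ([102,108,18],331,[75,73,68,72]),
 ([98,95],350,[3,69,82,82,76])] [116,24,24])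
 (CT.cons 338 (CT.leaf [70,64,72,5,4] [([],353,[80,82,74,67]),
 ([107,104],333,[73,81,80,66]),
 ([114,23],367,[71,76,70,82])] [117,110,23])
 (CT.cons 325 (CT.leaf [70,64,72,5,65] [([],353,[64,82,77]),
 ([104],334,[81,3,76,71]),
 ([135,30,30],386,[70,75,81,73])] [22,116])
 (CT.cons 215 (CT.leaf [70,64,69,5,3] [([],353,[64,72,74]),
 ([104,104,101],332,[3,69,77,76,68]),
 ([22],352,[4,67,65,77,82])] [22,117,23])
 (CT.cons 428 (CT.leaf [70,64,69,69,5,3] [([],353,[4,68,80,70,66]),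
 ([108],323,[70,67,71,81]),
 ([87,13],312,[64,75,66,73,65])] [116,114,22])
 (CT.cons 430 (CT.leaf [70,64,68,68,5,4] [([],353,[3,64,66,73,81]),
 ([101,18,18],330,[69,66,75,4]),
 ([103,20,19],333,[4,80,82,69])] [110,22,24])
 (CT.cons 343 (CT.leaf [70,64,68,67,5,4] [([],353,[76,76,4,71]),
 ([108,104],334,[80,65,75,69]),
 ([134,33,31],383,[74,68,82,71])] [116,24,24])
 (CT.cons 790 (CT.leaf [3,72,3,68,65,2,87,73] [([],353,[69,74,71,72]),
 ([102,106,18],334,[80,74,74,65]),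
 ([33,138],387,[3,70,67,78])] [114,117,25])
 (CT.cons 773 (CT.leaf [68,78,69,65,2,87,73] [([],353,[72,68,75,71]),
 ([102,105,102],332,[4,74,75,69,82]),
 ([115,112],375,[66,70,79,73])] [116,110,24])
 (CT.cons 390 (CT.leaf [70,64,69,5,64] [([],353,[3,3,69,82]),
 ([108],329,[65,70,4,76]),
 ([23,117],362,[71,78,69,80])] [115,112])
 CT.nil)))))))))))))))))))))

noncomputable def pz_T5 : CT := (CT.br [] [12,57,11,12,56,57,12,57,56,12] (CT.cons 1133 pz_T5_0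
 (CT.cons 1076 pz_T5_1
 (CT.cons 1048 pz_T5_2
 (CT.cons 900 pz_T5_3
 (CT.cons 808 pz_T5_4
 (CT.cons 759 pz_T5_5
 (CT.cons 733 pz_T5_6
 (CT.cons 587 (CT.br [3,64,74,77,5,87,77] [250,249,250,249,250,59] (CT.cons 104 (CT.leaf [3,64,74,77,5,87,77] [([],373,[76,70,4,64]),
 ([117,110],364,[3,66,66,80,70]),
 ([136,136],383,[70,74,4,73])] [25,118])
 (CT.cons 90 (CT.leaf [72,66,3,71,92,88,83] [([],373,[76,70,67]),
 ([24],352,[66,69,70,79]),
 ([25],372,[64,74,69,69,70])] [112,116])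
 (CT.cons 1320 (CT.leaf [68,66,80,66,91,79,87] [([],373,[76,70,4]),
 ([110],366,[4,78,76,79]),
 ([14,94],350,[3,70,76,82,64])] [25,117,22])
 (CT.cons 2 (CT.leaf [78,80,74,81,1,91,93] [([],373,[4,65,80,82,68]),
 ([24,22],373,[64,75,74,78,73]),
 ([24,22],373,[64,72,79,82,69])] [25,118,23])
 (CT.cons 1387 (CT.leaf [71,66,3,64,1,87,93] [([],373,[76,70,67,4]),
 ([24,110],367,[65,80,67,76]),
 ([114,25],374,[3,79,70,75,79])] [25,111,25])
 (CT.cons 102 (CT.leaf [4,68,4,76,91,94,90] [([],373,[72,75,81,73]),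
 ([],355,[3,67,67,80,82]),
 ([82,87],311,[81,77,65])] [115,110,22])
 (CT.cons 1333 (CT.leaf [70,77,73,70,5,87,80] [([],373,[4,78,73,79,3]),
 ([116,23],380,[3,64,74,76]),
 ([115,111],375,[3,77,80,4,65])] [116,111,23])
 (CT.cons 180 (CT.leaf [73,77,77,66,1,91,91] [([],373,[65,68,78,70]),
 ([22],351,[73,82,80,66]),
 ([107,18],329,[75,74,68,79])] [117,112])
 CT.nil)))))))))
 (CT.cons 491 (CT.br [66,70,5,4,5] [59,248,59,248,59,248] (CT.cons 1 (CT.leaf [66,70,5,4,5] [([],372,[65,69,74,78]),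
 ([23,117],360,[3,75,80,75,81]),
 ([136,136],387,[4,65,67,71,79])] [118,22,22])
 (CT.cons 1036 (CT.leaf [67,70,3,82,87,87,75] [([],372,[71,65,73,66]),
 ([24,24],378,[65,74,76]),
 ([95,15],346,[73,64,74])] [116,115,25])
 (CT.cons 55 (CT.leaf [65,77,69,78,69,93,5] [([],372,[74,66,70]),
 ([24,22],372,[4,65,72,64,64]),
 ([24,22],372,[74,66,70])] [111,117,22])
 (CT.cons 191 (CT.leaf [4,70,67,70,3,91,5,69] [([],372,[76,82,66]),
 ([111],373,[64,68,65,82]),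
 ([116,23],352,[76,79,71,64])] [23,24,22])
 (CT.cons 1101 (CT.leaf [4,77,64,78,66,87,70,87] [([],372,[67,82,68,64]),
 ([111],374,[69,65,78,72]),
 ([110,114],367,[4,4,78,73])] [114,25])
 (CT.cons 1110 (CT.leaf [3,71,65,70,92,4,92] [([],372,[74,66,70,3]),
 ([24,116],375,[4,78,68,78]),
 ([24,115],380,[69,66,80,75])] [112,23,24])
 (CT.cons 201 (CT.leaf [4,77,79,64,72,88,88,81] [([],372,[3,71,64,82]),
 ([],363,[3,76,71,4,79]),
 ([88,81],314,[66,72,74,80])] [24,114])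
 (CT.cons 130 (CT.leaf [4,71,78,64,87,73,93] [([],372,[65,74,72,69]),
 ([22],357,[3,78,78,67,79]),
 ([18],326,[3,78,3,81,79])] [24,23])
 CT.nil)))))))))
 (CT.cons 472 pz_T5_9
 (CT.cons 454 pz_T5_10
 (CT.cons 444 pz_T5_11
 (CT.cons 330 pz_T5_12
 (CT.cons 283 pz_T5_13
 (CT.cons 251 pz_T5_14
 (CT.cons 201 (CT.br [65,81,69,67,92,82] [239,56,238,56,238,239,238] (CT.cons 53 (CT.leaf [65,81,69,67,92,82] [([],365,[68,73,75,66]),
 ([100],328,[3,70,66,77]),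
 ([18],326,[77,64,64,71])] [117,112,22])
 (CT.cons 224 (CT.leaf [3,73,75,80,76,92,69] [([],365,[3,67,4,77,81]),
 ([100],325,[64,74,72,4]),
 ([111],352,[78,76,78,67])] [25,118,23])
 (CT.cons 469 (CT.leaf [75,71,78,64,92,77] [([],365,[3,64,80,76,81]),
 ([104,18],334,[4,66,68,68,81]),
 ([131,136,132],386,[3,66,69,76,82])] [117,111])
 (CT.cons 865 (CT.leaf [69,70,78,78,1,87,73] [([],365,[4,82,64,71,68]),
 ([107],331,[73,79,67,80]),
 ([98,16],343,[72,65,77,3])] [115,116,23])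
 (CT.cons 392 (CT.leaf [3,3,78,66,73,92,69] [([],365,[77,72,3]),
 ([108,21],330,[64,70,80,81]),
 ([100],333,[67,73,4,66])] [25])
 (CT.cons 304 (CT.leaf [64,74,69,75,74,92,69] [([],365,[78,76,74,81]),
 ([18],322,[71,4,80,74]),
 ([89,84,10],314,[3,77,77,68,74])] [111,115,25])
 (CT.cons 775 (CT.leaf [81,72,82,72,1,87,73] [([],365,[76,78,78]),
 ([104],323,[4,4,75,4,76]),
 ([12,11],311,[72,80,75,79])] [118,110])
 CT.nil))))))))
 (CT.cons 196 pz_T5_16
 (CT.cons 152 (CT.br [3,64,68,70,64,2,5] [235,56,235,235,56,235,235,56,235,235] (CT.cons 51 (CT.leaf [3,64,68,70,64,2,5] [([],363,[73,79,72,66]),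
 ([],313,[3,75,78,71,3]),
 ([103],329,[3,79,76,71])] [25,118])
 (CT.cons 629 (CT.leaf [65,75,80,70,64,1,92,69] [([],363,[68,73,72,64]),
 ([88,81],314,[72,68,4]),
 ([112],372,[66,76,77])] [116,111])
 (CT.cons 600 (CT.leaf [3,64,73,79,64,1,92,77] [([],363,[4,65,4,82,65]),
 ([87,85,81,10],312,[81,76,71,72]),
 ([114],379,[67,75,3,80])] [25,115,22])
 (CT.cons 416 (CT.leaf [75,82,76,1,1,87,73] [([],363,[79,78,67,65]),
 ([83,12],315,[74,74,71,67]),
 ([83,83],312,[3,75,70,75])] [118,110,22])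
 (CT.cons 818 (CT.leaf [75,66,70,72,1,92,77] [([],363,[73,80,75,3]),
 ([88,84,11],318,[77,77,76,68]),
 ([],347,[64,75,65,81])] [25,117,23])
 (CT.cons 781 (CT.leaf [3,76,64,71,72,1,92,77] [([],363,[3,64,66,80,70]),
 ([],305,[72,69,3]),
 ([82,13],311,[3,66,3,71,81])] [22,114])
 (CT.cons 367 (CT.leaf [3,66,68,75,69,1,1,87,73] [([],363,[82,72,75,79]),
 ([10,13],308,[64,75,3,79]),
 ([104],325,[72,3,78,64])] [25,117])
 CT.nil))))))))
 (CT.cons 148 pz_T5_18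
 (CT.cons 102 (CT.br [3,64,68,70,64,1,5] [56,232,56,232,232,56,232,56,232,56,232,232,56,232] (CT.cons 52 (CT.leaf [3,64,68,70,64,1,5] [([],361,[73,79,72,66]),
 ([110],361,[3,80,3,71,76]),
 ([],356,[72,73,73,78])] [112])
 (CT.cons 587 (CT.leaf [3,64,68,70,64,1,5,4] [([],361,[68,73,72,64]),
 ([118,22],359,[4,76,3,77]),
 ([141,36],382,[79,73,76,64])] [24,110])
 (CT.cons 642 (CT.leaf [67,69,76,77,88,75] [([],361,[4,65,4,82,65]),
 ([24,116,25],378,[3,3,79,3,65]),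
 ([90,90,15],350,[69,81,81])] [24,116,25])
 (CT.cons 406 (CT.leaf [75,82,76,87,73] [([],361,[79,78,67,65]),
 ([24],376,[71,66,71,78]),
 ([91],341,[3,78,71,76,3])] [110,110])
 (CT.cons 808 (CT.leaf [68,75,75,73,88,75] [([],361,[73,80,75,3]),
 ([114,25],370,[74,79,77,4]),
 ([90],347,[71,68,4,74])] [110,23])
 (CT.cons 751 (CT.leaf [76,68,66,79,88,75] [([],361,[3,64,66,80,70]),
 ([],356,[66,81,73,79]),
 ([],361,[73,79,69,71])] [23,114])
 (CT.cons 297 (CT.leaf [3,66,68,75,69,87,73] [([],361,[82,72,75,79]),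
 ([22],355,[76,76,76,65]),
 ([82,11,11],314,[4,64,79,70])] [24,115,22])
 CT.nil))))))))
 (CT.cons 93 pz_T5_20
 (CT.cons 55 (CT.br [65,4,1,5] [229,59,229,229,59,229,229] (CT.cons 52 (CT.leaf [65,4,1,5] [([],359,[3,71,71,74,69]),
 ([146,34],382,[66,64,74]),
 ([],356,[64,69,65,67])] [23,25,22])
 (CT.cons 705 (CT.leaf [65,4,1,5,4] [([],359,[71,77,77,65]),
 ([34,143,141],382,[78,69,74,71]),
 ([116,22],375,[82,76,73,72])] [117,115,22])
 (CT.cons 711 (CT.leaf [69,79,81,81,87,84] [([],359,[71,77,77,67]),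
 ([37,147],382,[77,70,69]),
 ([114,112],374,[64,79,70])] [25,111,23])
 (CT.cons 456 (CT.leaf [4,77,4,68,87,73] [([],359,[3,78,74,76,82]),
 ([144,143,140],382,[3,64,78,74,78]),
 ([114,22],362,[66,71,82,76])] [111,115,22])
 (CT.cons 681 (CT.leaf [65,4,67,1,5,4] [([],359,[64,76,77,70]),
 ([141,145,141],382,[4,66,75,80,64]),
 ([24,111],379,[65,81,69,78])] [115,117,24])
 (CT.cons 491 (CT.leaf [74,70,66,81,87,73] [([],359,[3,65,77,77,67]),
 ([149,149,146,34],382,[72,65,76,74]),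
 ([24,22],352,[67,74,76,4])] [116,24])
 (CT.cons 751 (CT.leaf [3,67,69,78,73,88,75] [([],359,[3,73]),
 ([141,36],382,[3,73,68,3]),
 ([22],361,[71,64,68,81])] [112,117])
 (CT.cons 663 (CT.leaf [77,79,72,79,87,84] [([],359,[73,77,71,76]),
 ([],381,[66,64,81,64]),
 ([],382,[65,74,67,68])] [23,114])
 CT.nil)))))))))
 (CT.cons 53 (CT.br [1,1] [12,56,228,12,57,228,12] (CT.cons 154 (CT.leaf [1,1] [([],358,[]),
 ([26,128,126],301,[64,69,65,78]),
 ([18,106,100],332,[3,65,76,73])] [25,118])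
 (CT.cons 164 (CT.leaf [4,1,1] [([],358,[4]),
 ([26,125,125],304,[65,82,80,78,82]),
 ([23,111],354,[4,69,77,69,3])] [23,25,22])
 (CT.cons 155 (CT.leaf [65,4,1,1] [([],358,[65,4]),
 ([28,129,120],304,[65,75,4,64]),
 ([112],352,[75,81,68,4])] [25,114,24])
 (CT.cons 180 (CT.leaf [65,67,4,1,1] [([],358,[65,67,4]),
 ([122,126,120],301,[72,74,65,4]),
 ([104],329,[82,4,68,72])] [114,117,25])
 (CT.cons 200 (CT.leaf [66,3,3,1,1] [([],358,[66,3,3]),
 ([128,120],302,[80,78,4,64]),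
 ([12,82],314,[69,79,72,80])] [116,111,25])
 CT.nil))))))
 (CT.cons 52 (CT.br [1] [12,56,227,12,57,227,12] (CT.cons 54 (CT.leaf [1] [([],357,[]),
 ([105,101],332,[66,72,73,72]),
 ([114,110],362,[4,68,77,68,73])] [22])
 (CT.cons 64 (CT.leaf [4,1] [([],357,[65]),
 ([107,108],331,[75,70,70,82]),
 ([90],341,[66,79,77,69])] [110,115])
 (CT.cons 55 (CT.leaf [4,65,1] [([],357,[65,4]),
 ([19],326,[76,3,69,64]),
 ([118,22],372,[69,73,76,82])] [118,24,22])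
 (CT.cons 80 (CT.leaf [64,64,64,1] [([],357,[3,3,3]),
 ([104],321,[3,77,4,68,76]),
 ([120,125,26],304,[4,4,78,79])] [116,116,22])
 (CT.cons 102 (CT.leaf [3,64,68,70,64,1] [([],357,[68,65]),
 ([20],319,[67,76,66,80]),
 ([87,87],311,[79,64,78])] [25,117,22])
 CT.nil))))))
 (CT.cons 51 (CT.br [2] [12,56,226,12,57,226,12] (CT.cons 104 (CT.leaf [2] [([],356,[]),
 ([112],360,[3,71,78,3,68]),
 ([32,32,30],383,[81,67,75,79])] [117,110])
 (CT.cons 114 (CT.leaf [4,2] [([],356,[65]),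
 ([110,25],369,[65,69,73,82]),
 ([83,80,12],312,[72,74,69,81])] [114,22,25])
 (CT.cons 105 (CT.leaf [4,65,2] [([],356,[65,4]),
 ([116,23],359,[3,78,66,71]),
 ([146,34],382,[3,79,71,3,79])] [116,111])
 (CT.cons 130 (CT.leaf [64,64,64,2] [([],356,[3,3,3]),
 ([22],351,[76,3,82]),
 ([104],326,[3,72,67,74,64])] [111,115,25])
 (CT.cons 152 (CT.leaf [3,64,68,70,64,2] [([],356,[68,65]),
 ([],361,[64,79,68,80]),
 ([110],361,[68,72,69])] [24,24])
 CT.nil))))))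
 (CT.cons 48 (CT.br [69,71,65,5] [224,225,224,56,224,56,224] (CT.cons 0 (CT.leaf [69,71,65,5] [([],355,[3,71,81,73,65]),
 ([],310,[4,64,76,72,65]),
 ([127,29,27],304,[69,71,65])] [])
 (CT.cons 533 (CT.leaf [69,71,65,5,4] [([],355,[67,82,78,67]),
 ([82,87],311,[69,66,68,75]),
 ([116,23],373,[74,75,75,82])] [117,23])
 (CT.cons 502 (CT.leaf [69,71,65,5,3] [([],355,[66,81,68,76]),
 ([86,89,10],318,[82,71,4,67]),
 ([96,16,16],346,[76,73,69,67])] [24,116,22])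
 (CT.cons 819 (CT.leaf [3,77,66,74,65,2,87,73] [([],355,[3,66,74,3,71]),
 ([84,80,10],312,[78,75,66,69]),
 ([114],354,[68,64,64,81])] [116,24,24])
 (CT.cons 346 (CT.leaf [69,71,65,72,5,4] [([],355,[78,79,79,78]),
 ([88,82,10],308,[79,69,76,68]),
 ([104,104],333,[66,72,79,70])] [117,111])
 (CT.cons 374 (CT.leaf [74,74,72,5,4] [([],355,[68,79,70,79]),
 ([12],316,[73,76,74,71]),
 ([101,21],325,[4,71,67,81,65])] [23,111,22])
 (CT.cons 745 (CT.leaf [3,78,78,69,2,87,73] [([],355,[67,4,69,3,73]),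
 ([82,11,11],314,[78,4,82,71]),
 ([22],361,[76,79,75,69])] [24,115,22])
 CT.nil))))))))
 (CT.cons 21 pz_T5_26
 (CT.cons 18 pz_T5_27
 (CT.cons 2 (CT.br [65,4,5] [219,59,219,59,219,59,219] (CT.cons 0 (CT.leaf [65,4,5] [([],352,[80,67,76]),
 ([],358,[82,68,64,73]),
 ([28,28,26],304,[3,73,75,80])] [25,115])
 (CT.cons 282 (CT.leaf [65,4,5,4] [([],352,[65,74,82,66]),
 ([25,114,23],380,[74,3,73,66]),
 ([114,24,23],367,[77,80,74,77])] [112,23,24])
 (CT.cons 276 (CT.leaf [65,4,5,65] [([],352,[80,67,76,65]),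
 ([24],367,[3,71,80,4,79]),
 ([110,22,22],380,[68,72,77,70])] [23,24,22])
 (CT.cons 218 (CT.leaf [65,4,5,4,4] [([],352,[3,3,65,82,64]),
 ([25,114],368,[3,73,73,76,80]),
 ([134,33,30],386,[79,72,77,72])] [116,111,25])
 (CT.cons 554 (CT.leaf [76,72,4,76,2,87,73] [([],352,[75,3,72,75]),
 ([112,116],353,[74,82,68,67]),
 ([104,104,101],332,[3,76,69,67,80])] [114,116])
 (CT.cons 587 (CT.leaf [82,68,68,3,2,87,73] [([],352,[3,69,67,81,66]),
 ([111],359,[3,73,78,4,82]),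
 ([149,149,146,34],382,[79,82,3,79])] [24,110])
 (CT.cons 209 (CT.leaf [65,4,69,69,5,3] [([],352,[76,76,69,65]),
 ([112],372,[66,74,64,72]),
 ([23],373,[4,73,71,75])] [23,111])
 (CT.cons 374 (CT.leaf [65,4,70,5,65] [([],352,[78,4,81,74]),
 ([22],365,[3,65,74,75,77]),
 ([101],325,[3,68,68,73,68])] [23,118])
 CT.nil)))))))))
 (CT.cons 0 (CT.br [] [12,56,218,12,57,218,12] (CT.cons 1 (CT.leaf [] [([],351,[]),
 ([20,101,18],334,[78,72,4,71]),
 ([],387,[71,73,70,82])] [114,24])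
 (CT.cons 21 (CT.leaf [4] [([],351,[4]),
 ([109,19],320,[68,65,80,82]),
 ([90,17],343,[3,68,4,78,82])] [112,22])
 (CT.cons 2 (CT.leaf [65,4] [([],351,[65,4]),
 ([20,18],329,[65,72,65,76]),
 ([24,22],373,[81,69,72,81])] [22,110,22])
 (CT.cons 37 (CT.leaf [65,67,4] [([],351,[65,67,4]),
 ([104],326,[69,78,75,69]),
 ([22],356,[64,82,70,70])] [112,24,22])
 (CT.cons 47 (CT.leaf [66,3,3] [([],351,[66,3,3]),
 ([18],328,[64,66,69,74,64]),
 ([100],325,[78,82,4,77])] [23,25,23])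
 CT.nil))))))
 CT.nil)))))))))))))))))))))))))))))))

theorem pz_T5_ok : ctB nets tb B Lc civ L0 al xF 390 pz_S (mapL (·.1) pz_Y) 5 pz_T5 true Lv Lc [] = true := by decide +kernel

end Cfsg.Lib.Comp.HNn
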