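import Cfsg.Agent.Lib.Comp.HNn.Ctl

set_option maxRecDepth 100000
set_option Elab.async false

namespace Cfsg.Lib.Comp.HNn

universe u

noncomputable def uPR : List (ℕ × List ℕ × List (List ℕ)) := [(0,[],[[2,2],
 [1,1]]),
 (1,[3],[[4]]),
 (1,[4],[[3]]),
 (1,[2,3,1],[[2,4,1]]),
 (1,[2,4,1],[[2,3,1]]),
 (0,[2,2],[[1,1],
 []]),
 (1,[2,2,2],[[1],
 [1,1]]),
 (1,[2],[[],
 [1]]),
 (1,[5,2,2],[[1,1,5,2,2],
 [1,1,5]]),
 (0,[5,2,2],[[1,1,5,2,2],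
 [1,1,5,2,2],
 [1,1]]),
 (0,[2,2],[[2],
 [1],
 [1,1]]),
 (0,[2],[[],
 [2],
 [1,1]]),
 (1,[2,2],[[],
 [],
 [],
 [1,1]]),
 (1,[],[[]]),
 (1,[2,2],[[2],
 [1,1,1]]),
 (0,[2,2],[[],
 [],
 [],
 [],
 [1,1]])]

noncomputable def uFs : List (List SF) := [[(0,0,0,[],[1]),
 (0,0,0,[],[3]),
 (0,0,0,[],[5]),
 (0,1,1,[],[]),
 (1,2,1,[5,2],[]),
 (1,3,1,[5,1],[]),
 (1,4,1,[87,5,1],[]),
 (1,5,1,[92,92,2],[]),
 (1,6,1,[93,93,87,2],[]),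
 (2,7,1,[66,87],[]),
 (7,8,1,[74,88],[]),
 (5,9,1,[92,92,2],[]),
 (0,0,0,[],[64]),
 (0,0,0,[],[66]),
 (0,0,0,[],[68]),
 (0,0,0,[],[70]),
 (0,0,0,[],[72]),
 (0,0,0,[],[73]),
 (0,0,0,[],[75]),
 (0,0,0,[],[77]),
 (0,0,0,[],[79]),
 (0,0,0,[],[81]),
 (0,0,0,[],[83]),
 (0,0,0,[],[85]),
 (0,0,0,[],[87]),
 (0,0,0,[],[89]),
 (0,0,0,[],[91]),
 (0,0,0,[],[93]),
 (1,0,1,[1,1],[1,1]),
 (1,1,0,[],[3]),
 (1,1,0,[],[64]),
 (1,1,0,[],[71,77,77,76])],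
 [(1,1,0,[],[3,70,79,79,78]),
 (1,1,1,[1],[1,1]),
 (1,1,1,[],[2]),
 (1,1,1,[2],[1]),
 (1,1,1,[5],[92,82]),
 (2,1,1,[1,1],[2,5]),
 (2,2,0,[],[71,77,77,76]),
 (2,2,0,[],[79,73,76,82]),
 (2,2,0,[],[75,81,74,75]),
 (2,2,0,[],[66,69,66,66]),
 (2,2,0,[5],[3,75,3,78,70,92,82]),
 (2,2,0,[69,71,66,69],[69,71,66,69,1,1]),
 (3,1,1,[1,1],[1,5]),
 (3,3,0,[],[71,77,77,76]),
 (3,3,0,[],[79,73,76,82]),
 (3,3,0,[],[75,81,74,75]),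
 (3,3,0,[],[66,69,66,66]),
 (1,3,1,[3,75,3,78,70,92,82],[3,75,3,78,70,92,82]),
 (3,1,1,[5],[5]),
 (3,3,0,[3,65,69,75,69,2,5],[69,71,66,69,1,5]),
 (3,3,1,[69,71,66,69],[68,73,73,77,1,1]),
 (2,3,1,[1],[5]),
 (3,2,1,[3,75,3,78,70,92,82],[2]),
 (4,1,1,[1,1],[65,70,77,69,1,92,87]),
 (4,4,0,[64,64,80,82,75,5],[3,64,81,69,67,1,87,65]),
 (2,4,1,[79,5],[72,75,66,76,92,82]),
 (4,2,1,[3,69,76,68,71,5],[4,64,79,74,70,92,82]),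
 (2,4,1,[79,5],[72,75,66,76,92,82]),
 (2,2,0,[4,64,79,74,70,92,82],[68,67,79,75,87,73,93]),
 (3,4,1,[79,5],[71,82,65,4,92,82]),
 (4,3,0,[72,75,66,76,92,82],[4,74,79,79,5,81,87]),
 (3,1,1,[4,72,80,78,64,92,87],[65,70,77,69,1,92,87])],
 [(3,3,1,[4,69,79,69,65,87,73,87],[4,77,81,69,78,88,75]),
 (5,1,1,[1,1],[64,73,65,77,81,5,93,80]),
 (5,5,0,[],[73,4,64,80]),
 (5,5,0,[],[4,66,71,68]),
 (5,5,0,[],[64,72,74,68]),
 (5,5,0,[],[72]),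
 (5,5,0,[70,65,72,5],[81,78,66,76,1,87,3]),
 (2,5,1,[3,5],[65,65,74,74,92,82]),
 (5,2,1,[75,64,78,73,5],[65,69,77,79,65,92,82]),
 (5,5,0,[65,65,74,74,92,82],[72,82,64,92,92,89]),
 (3,5,1,[3,5],[80,67,78,4,92,82]),
 (5,3,1,[80,72,80,3,5],[65,69,77,79,65,92,82]),
 (3,5,1,[81,74,77,73,88,1,93],[4,71,76,81,72,92,82]),
 (5,3,1,[64,76,79,77,73,5],[5,79,5]),
 (5,5,1,[4,69,67,71,87,2],[77,72,76,4,2,93,69]),
 (3,5,1,[78,75,3,67,1,87,5],[67,75,77,79,1,1]),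
 (5,3,1,[67,75,77,79],[78,75,3,67,2,87,5]),
 (5,5,1,[75,64,78,73,2,5],[80,70,67,87,83]),
 (5,5,1,[3,75,66,69,67,92,78,5],[67,80,65,76,5,75,5]),
 (6,1,1,[1,1],[64,81,3,72,1,93,93,88]),
 (6,6,0,[],[3,71,77,68,67]),
 (6,6,0,[],[3,72,82,69]),
 (6,6,0,[],[3,3,70,4,81]),
 (6,6,0,[],[64,70,79,81]),
 (3,6,1,[3,64,77,75,65,1,92,5,92],[72,4,70,77,92,82]),
 (6,3,1,[64,73,82,72,5],[3,64,77,75,65,2,92,5,92]),
 (5,6,1,[5],[3,77,3,80,75,92,82]),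
 (6,5,1,[70,75,74,82,5],[3,75,3,78,70,92,82]),
 (6,6,1,[1],[78,66,74,82,1,1]),
 (6,6,1,[78,66,74,82],[2]),
 (6,6,1,[2],[71,73,68,77,1]),
 (6,6,0,[70,73,69,64,92,78,5],[3,80,3,72,67,87,87,91])],
 [(5,6,1,[3,74,80,67,74,87,73,87],[64,77,73,88,88,67]),
 (6,5,1,[4,68,75,69,75,91,89,5],[64,76,79,77,73,5,3,5]),
 (6,6,1,[64,73,82,72,2,5],[67,67,71,3,87,4,64]),
 (6,6,1,[64,69,66,76,69,92,78,5],[75,68,64,75,2,94,5]),
 (6,6,1,[74,76,73,88,5,83],[3,74,72,64,73,1,91,93]),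
 (7,2,1,[1,1],[66,1,1,87]),
 (7,7,0,[],[67,73,67,73]),
 (7,7,0,[],[81,72,78,70]),
 (7,7,0,[],[3,64,71,64,3]),
 (7,7,0,[],[77,66,81,4]),
 (3,7,1,[5,3,5],[76,3,67,78,92,82]),
 (7,3,1,[64,77,73,72,5],[4,69,79,69,65,87,73,87]),
 (5,7,1,[75,64,78,73,1,5],[3,65,79,77,1,1]),
 (7,5,1,[3,65,79,77],[75,64,78,73,2,5]),
 (5,7,1,[65,65,74,74,92,82],[67,75,72,78,2]),
 (7,5,1,[67,75,72,78,1],[75,64,78,73,5]),
 (5,7,1,[80,73,65,71,87,73,87],[4,79,77,69,64,92,82]),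
 (7,5,1,[3,64,66,73,5],[75,64,78,73,5,3,5]),
 (7,7,0,[3,82,79,67,67,2,5],[70,76,67,79,87,76]),
 (7,7,1,[2],[67,72,76,76,1]),
 (7,7,1,[4,5],[75,74,76,72,92,82]),
 (7,7,1,[64,3,5],[69,79,3,81,92,82]),
 (7,3,1,[3,73,70,81,1,92,78],[67,4,68,78,5]),
 (3,7,1,[68,74,67,71,92,82],[70,69,4,75,87,83]),
 (3,7,1,[74,77,65,78,91,91],[64,3,80,64,91,93]),
 (7,3,1,[67,74,69,77,93,5],[70,76,71,88,70,93]),
 (7,7,1,[71,74,69,3,1,5],[3,69,69,4,73,1,92,77]),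
 (5,7,1,[80,72,80,3,1,5],[67,74,72,5]),
 (7,5,1,[67,70,76,4,92,82],[80,72,80,3,2,5]),
 (5,7,1,[65,74,77,67,92,78,5],[75,68,72,4,5,75,5]),
 (7,5,1,[76,68,65,82,91,5,68],[80,72,80,3,5,64,5]),
 (6,7,1,[64,73,82,72,1,5],[4,71,74,68,75,88,70,93])],
 [(7,6,1,[3,75,79,75,91,91],[64,73,82,72,2,5]),
 (6,7,1,[72,4,70,77,92,82],[3,68,78,66,66,1,87,85,88]),
 (7,6,1,[3,73,64,75,73,88,5,4],[64,73,82,72,5]),
 (6,7,1,[67,4,78,67,92,75,92],[70,77,73,76,5,86,5]),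
 (7,6,1,[3,66,66,80,3,93,87,76],[64,73,82,72,5,73,5]),
 (6,7,1,[64,80,71,71,76,88,1,93],[78,72,81,80,5,81,93,88]),
 (7,6,1,[65,73,71,3,92,93,88],[64,73,82,72,5,79,5]),
 (6,7,1,[66,68,80,82,91,93,65],[74,72,76,66,88,93,81]),
 (7,6,1,[79,72,64,5,90,94],[3,77,79,74,71,5,65,5]),
 (7,7,1,[64,71,78,76,66,91,93,65],[67,76,80,78,5,87,77]),
 (7,7,1,[77,75,77,71,5,88,82],[64,77,73,72,5,65,5]),
 (7,7,1,[3,73,79,68,2,5],[71,79,4,69,5,94,84]),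
 (7,7,1,[71,3,70,82,92,78,5],[76,71,3,73,1,87,5,93]),
 (7,7,1,[66,74,67,79,94,87,87],[3,64,66,73,5,64,5]),
 (7,7,1,[65,69,70,3,1,93,5],[78,67,70,87,2,93]),
 (7,7,1,[78,67,70,87,1,93],[4,77,4,71,1,91,93]),
 (7,7,1,[68,80,75,73,5,65,94,94],[74,70,78,80,91,88,94]),
 (8,7,1,[1,1],[74,1,1,88]),
 (8,8,0,[],[64,66,69,66]),
 (8,8,0,[],[3,77,73,66,71]),
 (8,8,0,[],[79,77,76]),
 (8,8,0,[4,64,76,80,3,5],[3,82,71,65,1,88]),
 (8,8,0,[3,69,76,79,64],[4,76,67,81,1,1]),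
 (8,8,0,[78,79,67,81,5],[74,76,65,70,91,65]),
 (8,8,0,[3,68,67,81,66,5],[4,76,78,71,88,2,65]),
 (8,8,0,[74,72,76,68,5],[66,78,76,74,91,82]),
 (8,8,1,[4,5],[64,80,68,80,92,82]),
 (9,5,1,[1,1],[64,73,65,77,81,5,93,80]),
 (9,9,0,[],[3,75,64,80,64]),
 (9,9,0,[],[4,77,73,80,81]),
 (9,9,0,[74,75,81,73,5],[74,75,67,65,1,88,70]),
 (9,9,0,[73,75,75,5],[3,72,67,79,77,1,87,68])],
 [(6,9,1,[65,75,75,72,79,88,1,93],[4,75,74,76,92,82]),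
 (9,6,1,[73,79,65,79,5],[70,75,74,82,5,79,5]),
 (7,9,1,[4,67,73,64,92,82],[71,81,81,73,92,82]),
 (9,7,1,[75,70,3,80,5],[66,68,76,72,5]),
 (9,9,1,[71,81,81,73,92,82],[80,4,71,80,2,93,3]),
 (7,9,1,[3,64,66,73,1,5],[3,68,75,69,66,1,1]),
 (9,7,1,[3,68,75,69,66],[3,64,66,73,2,5]),
 (7,9,1,[68,68,74,76,87,73,87],[3,72,64,81,76,92,82]),
 (9,7,1,[76,81,76,5],[3,64,66,73,5,3,5]),
 (9,9,1,[79,5],[68,74,75,78,92,82]),
 (0,0,0,[],[64,64,74,82]),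
 (0,0,0,[],[3,65,4,4,67]),
 (0,0,0,[],[65,67,65,67]),
 (0,0,0,[],[71,71,72]),
 (1,1,0,[],[3,65,81,65,80]),
 (1,1,0,[],[3,65,68,72,78]),
 (1,1,0,[],[73,77,79,82]),
 (1,1,0,[],[71,71,72]),
 (1,3,1,[87,5,1],[4,74,79,79,5,81,87]),
 (2,2,0,[],[4,66,75,72]),
 (2,2,0,[],[3,74,80,75,80]),
 (2,2,0,[],[67,76,3,3,88,69,88]),
 (2,2,0,[],[69,72,66,71]),
 (3,3,0,[],[71,71]),
 (3,3,0,[],[69,72,68]),
 (3,3,1,[79,5],[65,65,71,75,1,87,81]),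
 (5,5,0,[],[64,72,3,68,92,92,89]),
 (5,5,0,[],[4,73,80,81]),
 (6,6,0,[],[67,81,4,76]),
 (7,7,0,[],[70,72]),
 (9,9,0,[],[80,70,66,79,5,4,5])]]

noncomputable def uF : ℕ → SF := nth2 (0,0,0,[],[]) uFs

noncomputable def uPA : List (List (List ℕ)) := [[],
 [[]],
 [[],
 [5,2]],
 [[],
 [5,1]],
 [[],
 [87,5,1]],
 [[],
 [92,92,2]],
 [[],
 [93,93,87,2]],
 [[],
 [5,2],
 [66,87]],
 [[],
 [5,2],
 [66,87],
 [74,88]],
 [[],
 [92,92,2],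
 [92,92,2]]]

noncomputable def uV : List SN := [(0,[0,1,2,12,17,18,20,24,25,26,27,170,171,172,173],[0,2,24,26,27,0,2,18,20,17,26,25,18],[(3,0)],[([1,12,170,171,172,173],[0,2,24,26,27,0,2,18,20,17,26,25,18],0,1408),
 ([170,171,172,173],[1,12,1,12,1,12,1,12,1,12,1,12,1,12,1,12,1],904,504),
 ([173],[170,172,171,170,172,170,171,170,172,170,171],216,125),
 ([],[173],4,2)],1),
 (1,[29,30,174,175,176,177],[29,30,29,30,29,30,29,30,177,29,30,29,30,29,30,29],[(28,53),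
 (33,52),
 (34,0),
 (35,51),
 (36,1),
 (4,54),
 (5,104),
 (49,154),
 (178,204),
 (7,554),
 (8,904)],[([174,175,176,177],[29,30,29,30,29,30,29,30,29,30,29,30,29,30,29,30,29],904,504),
 ([177],[176,174,175,176,174,175,176,174,175,176,176],216,125),
 ([],[177],4,2)],1408),
 (2,[38,39,40,41,42,43,60,179,180,181,182],[43,42,60,40,41,39,179,40,38,41,179,182,39,39],[(37,53),
 (53,52),
 (71,9),
 (9,62)],[([179,180,181,182],[38,40,41,39,43,42,60,40,41,39,38,40,39,38],9,672),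
 ([182],[179,181,179,180,179,181,179,180,179],11,60),
 ([],[182],2,2)],2200),
 (3,[45,46,47,48,51,183,184],[183,184,46,183,51,183,48,183,46,183,184,48,183],[(44,53),
 (50,1),
 (52,0),
 (54,154),
 (185,6),
 (63,563),
 (64,534),
 (74,9),
 (76,557),
 (79,458),
 (88,968),
 (106,492),
 (119,167),
 (120,424)],[([183,184],[45,46,47,48,45,46,48,51,46,47,48,46,48],204,504),
 ([],[183,184,183,183,183],9,10)],35200),
 (5,[66,67,68,69,70,73,186,187],[69,70,69,68,69,67,69,73,69,68,69,187,69,67,69,68],[(65,53),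
 (72,14),
 (75,20),
 (77,19),
 (78,162),
 (80,0),
 (81,141),
 (82,335),
 (90,1),
 (96,379),
 (108,91),
 (110,189),
 (112,500),
 (123,63),
 (125,529),
 (11,554)],[([186,187],[69,66,67,68,69,66,68,69,70,69,67,69,68,69],207,360),
 ([],[187,186],1,4)],123200),
 (6,[84,85,86,87,95,188],[85,188,87,85,95,84,87,188,85,84,87,85],[(83,53),
 (89,16),
 (91,2),
 (92,52),
 (93,0),
 (94,51),
 (97,280),
 (98,140),
 (99,482),
 (100,736),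
 (127,90),
 (129,191),
 (131,517),
 (133,847),
 (135,546),
 (160,630)],[([188],[85,87,84,86,85,95,87,84,87,86,85],206,250),
 ([],[188],1,2)],354816),
 (7,[102,103,104,105,114,189],[189,103,105,189,114,102,189,105,189,102],[(101,53),
 (107,48),
 (109,0),
 (111,52),
 (113,18),
 (115,51),
 (116,21),
 (117,2),
 (118,152),
 (121,444),
 (122,102),
 (124,201),
 (126,472),
 (128,454),
 (130,900),
 (132,251),
 (134,1048),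
 (136,808),
 (137,491),
 (138,587),
 (139,148),
 (140,283),
 (141,1133),
 (142,759),
 (143,733),
 (144,1076),
 (10,55),
 (162,196),
 (165,93),
 (167,330)],[([189],[102,103,105,104,102,114,103,102,103],204,120),
 ([],[189],4,2)],739200),
 (8,[146,147,148,149,150,151,152,153],[149,150,151,153,148,146,148,153,148,146,148,152,147,153,148,148],[(145,53),
 (154,21)],[([146,147,148],[149,150,151,153,148,146,148,151,152,147,153,148,152,147],0,1280),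
 ([],[148,146,148,147,146,148],208,24)],5775),
 (9,[156,157,158,159,190],[158,190,159,156,157,159,158,159,156,159,159,159,157],[(155,53),
 (161,12),
 (163,38),
 (164,181),
 (166,0),
 (168,37),
 (169,6)],[([190],[156,157,158,159,156,157,159,159,157,159,159,159,156],1,320),
 ([],[190],0,2)],277200)]

noncomputable def uDs : List (List SD) := [[(0,0,[],[]),
 (0,0,[],[]),
 (0,0,[],[]),
 (0,0,[],[]),
 (0,0,[],[]),
 (0,0,[],[]),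
 (0,0,[],[]),
 (0,0,[],[]),
 (0,0,[],[]),
 (0,0,[],[]),
 (0,0,[],[]),
 (0,0,[],[]),
 (0,999,[],[0,2,1]),
 (0,999,[],[24,3,24]),
 (0,999,[],[25,25,3,3,3,3,25,25]),
 (0,999,[],[28,27,28,27,28,28,27,28,27]),
 (0,999,[],[26,26,29,27,27,29,29,29,26,26,29]),
 (0,999,[],[28,26,2,29,26,29,29,2,27]),
 (0,999,[],[24,28,32,31,28,35,28,2,32]),
 (0,999,[],[32,24,35,27,32,37,2,28,26]),
 (0,999,[],[3,39,34,39,36,39,27,29,38]),
 (0,999,[],[30,2,35,25,27,31,37,32,25]),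
 (0,999,[],[38,42,27,2,30,36,40,36,43]),
 (0,999,[],[34,25,28,41,37,45,32,37,45]),
 (0,999,[],[39,30,1,42,34,46,3,4,44]),
 (0,999,[],[47,34,30,41,42,32,2,29,26]),
 (0,999,[],[31,24,48,35,51,41,32,0,42]),
 (0,999,[],[49,36,4,28,3,28,52,37,41]),
 (1,3,[],[]),
 (0,5,[([],28,[]),
 ([2],3,[3])],[]),
 (0,5,[([],28,[]),
 ([24],3,[64])],[]),
 (0,999,[],[60,58,60,58,58,60,58,60])],
 [(0,999,[],[62,60,60,58,60,62,62,60]),
 (0,6,[([],28,[]),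
 ([0],3,[])],[]),
 (1,33,[],[]),
 (0,7,[([],28,[]),
 ([0,0],3,[])],[]),
 (0,8,[([],28,[]),
 ([43,53],3,[3,75,71,74,72])],[]),
 (1,4,[],[]),
 (0,5,[([],37,[]),
 ([62],4,[71,77,77,76])],[]),
 (0,5,[([],37,[]),
 ([61,64],4,[79,73,76,82])],[]),
 (0,5,[([],37,[]),
 ([60,62,65],4,[75,81,74,75])],[]),
 (0,5,[([],37,[]),
 ([58,65,58,65],4,[66,69,66,66])],[]),
 (0,9,[([],37,[]),
 ([],35,[]),
 ([],4,[])],[]),
 (0,10,[([],37,[69,71,66,69]),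
 ([],36,[3,65,69,75,69]),
 ([58,58,58],4,[68,73,73,77])],[]),
 (1,5,[],[]),
 (0,5,[([],44,[]),
 ([62],5,[71,77,77,76])],[]),
 (0,5,[([],44,[]),
 ([61,64],5,[79,73,76,82])],[]),
 (0,5,[([],44,[]),
 ([60,62,65],5,[75,81,74,75])],[]),
 (0,5,[([],44,[]),
 ([58,65,58,65],5,[66,69,66,66])],[]),
 (0,8,[([],34,[]),
 ([],5,[])],[]),
 (1,49,[],[]),
 (0,11,[([],50,[3,65,69,75,69]),
 ([],36,[3,65,69,75,69]),
 ([58,58,58],5,[68,73,73,77])],[]),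
 (0,12,[([],44,[69,71,66,69]),
 ([],4,[69,71,66,69]),
 ([86],37,[68,73,73,77]),
 ([],5,[68,73,73,77])],[]),
 (0,6,[([],37,[]),
 ([],49,[])],[]),
 (1,53,[],[]),
 (1,6,[],[]),
 (0,9,[([],55,[64,64,80,82,75]),
 ([60],36,[3,69,69,75,75]),
 ([60,64,60],6,[65,82,70,64])],[]),
 (0,8,[([],37,[79]),
 ([58,61,59],6,[3,69,76,68,71])],[]),
 (1,57,[],[]),
 (1,58,[],[]),
 (0,5,[([],59,[]),
 ([112,112],58,[3,74,65,68,78])],[]),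
 (0,8,[([],44,[79]),
 ([58,64,64],6,[64,68,75,72])],[]),
 (0,5,[([],58,[]),
 ([79,80,120,84],53,[64,74,3,78,72])],[]),
 (0,13,[([125],55,[])],[])],
 [(0,8,[([],50,[3]),
 ([61,59],6,[77,77,4,69])],[124]),
 (1,7,[],[]),
 (0,5,[([],65,[]),
 ([62],7,[73,4,64,80])],[]),
 (0,5,[([],65,[]),
 ([65,63,58,65],7,[4,66,71,68])],[]),
 (0,5,[([],65,[]),
 ([59,61,58,60],7,[64,72,74,68])],[]),
 (0,5,[([],65,[]),
 ([60,58,60,58],7,[72])],[]),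
 (0,9,[([],65,[70,65,72]),
 ([],36,[4,79,79,70]),
 ([65,59,62,59],7,[64,3,80,73])],[]),
 (0,8,[([],37,[3]),
 ([65,61,65,58],7,[75,64,78,73])],[]),
 (1,71,[],[]),
 (0,5,[([],72,[]),
 ([86,82,121],71,[71,64,81,66])],[]),
 (0,8,[([],44,[3]),
 ([61,65,58,58],7,[80,72,80,3])],[]),
 (1,74,[],[]),
 (0,8,[([],50,[79]),
 ([65,58,58],7,[64,76,79,77,73])],[]),
 (1,76,[],[]),
 (0,12,[([],77,[64,80,71,4]),
 ([93,94],63,[]),
 ([64,64,61,59],6,[73,68,77,4]),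
 ([124,94,92],76,[3,3,75,72])],[]),
 (0,6,[([],63,[]),
 ([58,61,58,64],7,[67,75,77,79])],[]),
 (1,79,[],[]),
 (0,7,[([],72,[]),
 ([121,79,76],71,[79,66,80])],[]),
 (0,8,[([],72,[64]),
 ([86,84,76],71,[67,74,68,71])],[]),
 (1,8,[],[]),
 (0,5,[([],83,[]),
 ([65,62,64],8,[3,71,77,68,67])],[]),
 (0,5,[([],83,[]),
 ([59,64,64,58],8,[3,72,82,69])],[]),
 (0,5,[([],83,[]),
 ([60,63,58,60,58],8,[3,3,70,4,81])],[]),
 (0,999,[],[170,168,168,172,170,170,168,172]),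
 (0,8,[([],63,[3]),
 ([58,58,61,61],8,[64,73,82,72])],[]),
 (1,88,[],[]),
 (0,8,[([],65,[]),
 ([60,58,58,60],8,[70,75,74,82])],[]),
 (1,90,[],[]),
 (0,6,[([],83,[]),
 ([61,65,61,58],8,[78,66,74,82])],[]),
 (1,92,[],[]),
 (0,7,[([],83,[]),
 ([59,64,58],8,[71,73,68,77])],[]),
 (0,9,[([],89,[3,65,68,78]),
 ([94],64,[3,70,73,80,4]),
 ([94,103,93,97],88,[3,70,67,68])],[])],
 [(0,8,[([],77,[3]),
 ([92,96,90],88,[3,3,3,64,81])],[]),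
 (1,96,[],[]),
 (0,7,[([],89,[]),
 ([103,97,102,96],88,[80,4,80,82])],[]),
 (0,8,[([],89,[64]),
 ([94,102,90],88,[71,66,68,77])],[]),
 (0,8,[([],89,[78,4]),
 ([103,94,97],88,[75,82,73,69])],[]),
 (1,9,[],[]),
 (0,5,[([],101,[]),
 ([78,76,79],9,[67,73,67,73])],[]),
 (0,5,[([],101,[]),
 ([86,86,79],9,[81,72,78,70])],[]),
 (0,5,[([],101,[]),
 ([81,82,76],9,[3,64,71,64,3])],[]),
 (0,5,[([],101,[]),
 ([78,86,120,80,76],9,[77,66,81,4])],[]),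
 (0,8,[([],54,[3]),
 ([80,86,78],9,[64,77,73,72])],[]),
 (1,106,[],[]),
 (0,6,[([],72,[]),
 ([79,80,76],9,[3,65,79,77])],[]),
 (1,108,[],[]),
 (0,14,[([],72,[]),
 ([121,82],9,[67,75,72,78])],[]),
 (1,110,[],[]),
 (0,8,[([],72,[3]),
 ([86,121,84,76],9,[3,64,66,73])],[]),
 (1,112,[],[]),
 (0,9,[([],111,[70,78,73,67]),
 ([141,134],72,[66,78,66,73]),
 ([121,84,82],9,[64,80,81,65])],[]),
 (0,7,[([],101,[]),
 ([83,80,86,78],9,[67,72,76,76])],[]),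
 (0,8,[([],101,[4]),
 ([83,120,87,84,78],9,[77,73,67,74])],[]),
 (0,8,[([],101,[64,3]),
 ([79,86,84],9,[82,3,79,3])],[]),
 (0,7,[([],107,[4,77,77,76,68]),
 ([],64,[4,77,77,76,68])],[]),
 (1,118,[],[]),
 (0,8,[([102,96],64,[73,78,75,71]),
 ([102,97],119,[67,69,66,75])],[]),
 (1,120,[],[]),
 (0,12,[([],118,[3,79,76,74,75]),
 ([92],74,[65,81,4]),
 ([146,136],75,[80,81,74]),
 ([93],119,[3,77,76,79,4])],[]),
 (0,6,[([],75,[]),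
 ([102,96,90],106,[74,77,76,76])],[]),
 (1,123,[],[]),
 (0,8,[([],75,[64]),
 ([93,97],106,[3,82,72,73,79])],[]),
 (1,125,[],[]),
 (0,6,[([],89,[]),
 ([96,102,93],120,[70,3,79])],[])],
 [(1,127,[],[]),
 (0,14,[([],89,[]),
 ([102,96,93],120,[4,79,75,80,64])],[]),
 (1,129,[],[]),
 (0,8,[([],89,[73]),
 ([97],106,[4,4,64,74])],[]),
 (1,131,[],[]),
 (0,8,[([],89,[79]),
 ([102,97,103,94],120,[3,72,79,67,65])],[]),
 (1,133,[],[]),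
 (0,8,[([],89,[76,4]),
 ([102,96,93],119,[3,73,4,72,64])],[]),
 (1,135,[],[]),
 (0,8,[([],107,[65]),
 ([90],119,[66,71,67,4])],[]),
 (1,137,[],[]),
 (0,8,[([],111,[3]),
 ([136,140,140,135],112,[65,81,76,73])],[]),
 (0,8,[([],113,[64]),
 ([140],125,[66,76,77,75])],[]),
 (1,140,[],[]),
 (0,8,[([],113,[80]),
 ([141,147],112,[3,70,72,77,77])],[]),
 (1,142,[],[]),
 (0,8,[([],126,[3]),
 ([141,137],125,[75,79,67,71])],[]),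
 (1,10,[],[]),
 (0,5,[([],145,[]),
 ([208],10,[64,66,69,66])],[]),
 (0,5,[([],145,[]),
 ([207,210],10,[3,77,73,66,71])],[]),
 (0,5,[([],145,[]),
 ([206,204],10,[79,77,76])],[]),
 (0,9,[([],145,[4,64,76,80,3]),
 ([],115,[4,66,66,71,75]),
 ([208,204],10,[4,79,4,79])],[]),
 (0,15,[([],145,[3,69,76,79,64]),
 ([229,206],138,[3,65,82,70,65]),
 ([229,206],117,[3,74,78,67,68]),
 ([228,204],137,[3,73,77,75,78]),
 ([229,206],10,[66,78,70,72])],[]),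
 (0,9,[([],145,[78,79,67,81]),
 ([229,206],117,[67,74,77,71]),
 ([228,204],10,[77,65,81,68])],[]),
 (0,9,[([],145,[3,68,67,81,66]),
 ([228],122,[75,75,81,78]),
 ([228,204],10,[68,75,81,65])],[]),
 (0,9,[([],145,[74,72,76,68]),
 ([],143,[76,3]),
 ([208,204],10,[68,64,78,67])],[]),
 (0,8,[([],145,[4]),
 ([228],10,[75,75,68,77])],[]),
 (1,11,[],[]),
 (0,5,[([],155,[]),
 ([138],11,[3,75,64,80,64])],[]),
 (0,5,[([],155,[]),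
 ([137,137,134,146,136],11,[4,77,73,80,81])],[]),
 (0,9,[([],155,[74,75,81,73]),
 ([137],81,[80,80]),
 ([136,134,147,132],11,[74,75,81,73])],[]),
 (0,9,[([],155,[73,75,75]),
 ([134,140,134],82,[67,77,65,71]),
 ([147,141,136,132],11,[66,66,3,3])],[])],
 [(0,8,[([],91,[79]),
 ([136,134,147],11,[73,79,65,79])],[]),
 (1,160,[],[]),
 (0,8,[([],109,[64]),
 ([137,146,146],11,[75,70,3,80])],[]),
 (1,162,[],[]),
 (0,12,[([],163,[]),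
 ([207],113,[]),
 ([136,140,140,135],112,[65,81,76,73]),
 ([206],162,[65,81,76,73])],[]),
 (0,6,[([],113,[]),
 ([136,138,146,132],11,[3,68,75,69,66])],[]),
 (1,165,[],[]),
 (0,8,[([],113,[3]),
 ([141,137],11,[76,81,76])],[]),
 (1,167,[],[]),
 (0,8,[([],155,[79]),
 ([146,140,135],11,[74,80,72,66])],[]),
 (0,999,[],[2,2,24,2,24,24,2,24,24,24,2]),
 (0,999,[],[3,24,2,2,2,25,2]),
 (0,999,[],[24,24,3,24,24,2,25,2]),
 (0,999,[],[341,343,340,344,341,342,340]),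
 (0,999,[],[60,64,60,60,64,62,59]),
 (0,999,[],[60,63,60,64,59,65]),
 (0,999,[],[59,63,58,58,62,64,62,58]),
 (0,999,[],[349,352,350,353,348,351,348,351,348]),
 (0,13,[([],6,[])],[124]),
 (0,999,[],[77,78,86,78,87,83]),
 (0,999,[],[77,87,83,86,82,80]),
 (0,999,[],[82,86,121,80,121,83,80]),
 (0,999,[],[363,358,363,360,358,360,359,360]),
 (0,999,[],[91,103,91,95,92,94,102,90]),
 (0,999,[],[102,96,93,94,102,94,90]),
 (0,13,[([],61,[])],[124]),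
 (0,999,[],[134,147,132,137,132]),
 (0,999,[],[135,141,136,136,141,138]),
 (0,999,[],[190,190,170,174,174]),
 (0,999,[],[207,205,229,210,204,228]),
 (0,999,[],[313,317,319,312,318,316,312])]]

noncomputable def uD : ℕ → SD := nth2 (0,0,[],[]) uDs

end Cfsg.Lib.Comp.HNn
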