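import Cfsg.Agent.Lib.Comp.HNn.Ctl

set_option maxRecDepth 100000
set_option Elab.async false

namespace Cfsg.Lib.Comp.HNn

universe u

noncomputable def xFs : List (List SF) := [[(0,0,0,[],[1]),
 (0,0,0,[],[3]),
 (0,0,0,[],[5]),
 (1,1,0,[],[3,64,75,79,76]),
 (1,1,0,[],[3,68,77,67,68]),
 (2,2,0,[],[70,66,68]),
 (2,2,0,[],[65,71,78,69,1,5]),
 (3,3,0,[],[73,3,80,4,87,87,91]),
 (3,3,0,[],[72,74,82,79,87,87,91]),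
 (4,4,0,[],[3,67,68,80,73,1,87,3]),
 (4,4,0,[],[69,73,3,68,92,92,89]),
 (5,5,0,[],[64,82,66,78,87,76]),
 (5,5,0,[],[64,70,4,72]),
 (6,6,0,[],[4,66,64,75,3,5]),
 (6,6,0,[],[3,3,80,77,64,87,73]),
 (7,7,0,[],[72,81,80,71,5,91,5,78]),
 (7,7,0,[],[3,73,65,79,82,88,91,76]),
 (8,8,0,[],[4,77,4,74,5,88,88,64]),
 (8,8,0,[],[67,81,77,71,91,68]),
 (0,0,0,[],[64]),
 (0,0,0,[],[66]),
 (0,0,0,[],[68]),
 (0,0,0,[],[70]),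
 (0,0,0,[],[72]),
 (0,0,0,[],[73]),
 (0,0,0,[],[75]),
 (0,0,0,[],[77]),
 (0,0,0,[],[79]),
 (0,0,0,[],[81]),
 (0,0,0,[],[83]),
 (0,0,0,[],[85]),
 (0,0,0,[],[87])],
 [(0,0,0,[],[89]),
 (0,0,0,[],[91]),
 (0,0,0,[],[93]),
 (1,1,0,[],[67,76,77,79]),
 (1,1,0,[],[65,67,79,70]),
 (1,1,0,[],[69,81,80]),
 (1,1,0,[],[4,70,70,67]),
 (1,1,0,[],[4,64,66,82]),
 (2,2,0,[],[70,66,70,66,1,5]),
 (2,2,0,[],[67,70,67,67,1,5]),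
 (2,2,0,[],[70,64,79,79]),
 (2,2,0,[],[71,67,71,67,1,5]),
 (2,2,0,[],[3,67,81,67,75,1,5]),
 (3,3,0,[],[82,69,3,71]),
 (3,3,0,[],[73,4,80,3]),
 (3,3,0,[],[64,80,66,68]),
 (3,3,0,[],[64,69,78,75,67]),
 (3,3,0,[],[3,3,81,65,71,87,87,91]),
 (4,4,0,[],[73,73,70,3,88,67]),
 (4,4,0,[],[3,71,67,81,72,92,92,89]),
 (4,4,0,[],[3,78,82,73,88,67]),
 (4,4,0,[],[64,77,79,76]),
 (4,4,0,[],[3,73,73,79,82]),
 (5,5,0,[],[3,79,69,79,87,76]),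
 (5,5,0,[],[70,77,82,82]),
 (5,5,0,[],[3,82,68,78]),
 (5,5,0,[],[3,65,75,80,3,87,76]),
 (5,5,0,[],[3,66,82,78,80]),
 (6,6,0,[],[76,67,74,70,91,91]),
 (6,6,0,[],[4,69,65,74,87,4]),
 (6,6,0,[],[71,64,79,70,87,70,93]),
 (6,6,0,[],[3,69,3,75,88,70,93])],
 [(6,6,0,[],[74,66,3,81,87,81,5]),
 (7,7,0,[],[66,73,77,82,5,87,78,87]),
 (7,7,0,[],[76,79,68,67,87,73,94]),
 (7,7,0,[],[3,74,70,65,69,93,92,73]),
 (7,7,0,[],[64,76,70,74,72,2,93,87,5]),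
 (7,7,0,[],[81,79,69,75,5,94,74]),
 (8,8,0,[],[73,79,74,77,91,5,74]),
 (8,8,0,[],[66,82,69,65,5,94,90]),
 (8,8,0,[],[4,74,82,71,79,87,87,93]),
 (8,8,0,[],[73,82,66,73,88,75,87]),
 (8,8,0,[],[71,77,3,87,3,87]),
 (0,0,0,[],[68,3,80,64]),
 (0,0,0,[],[69,79,77,68]),
 (0,0,0,[],[65,72,75,75]),
 (0,0,0,[],[77,75,82,79]),
 (0,0,0,[],[78,4,67,74]),
 (0,0,0,[],[71,71,72]),
 (1,1,0,[],[4,80,70,76]),
 (1,1,0,[],[4,66,74,79]),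
 (1,1,0,[],[64,64,74,82]),
 (1,1,0,[],[71,71,72]),
 (1,1,0,[],[70,66,76,65]),
 (1,1,0,[],[4,69,65,68]),
 (1,1,0,[],[71]),
 (1,1,0,[],[71,72]),
 (1,1,0,[],[3,72,81,72,4]),
 (1,1,0,[],[75,69,80,72]),
 (1,1,0,[],[65,70,77,67]),
 (1,1,0,[],[71,71,72]),
 (1,1,0,[],[75,69,80,70]),
 (1,1,0,[],[77,75,82,79]),
 (1,1,0,[],[64,64,74,82])],
 [(1,1,0,[],[71,71,72]),
 (1,1,0,[],[76,80,4,77]),
 (1,1,0,[],[3,3,75,66]),
 (1,1,0,[],[3,78,67,68,74]),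
 (1,1,0,[],[71,71,72]),
 (1,1,0,[],[79,72,80,69]),
 (1,1,0,[],[70,70,66,68]),
 (1,1,0,[],[68,65,82,65]),
 (1,1,0,[],[3,80,82,70,4]),
 (1,1,0,[],[71]),
 (1,1,0,[],[69,72,68]),
 (1,1,0,[],[65,70,77,75]),
 (1,1,0,[],[68,70,69,67]),
 (1,1,0,[],[71,67,68,70]),
 (1,1,0,[],[71,67,68,70]),
 (1,1,0,[],[3,66,78,82,79]),
 (1,1,0,[],[71]),
 (1,1,0,[],[71,71,72]),
 (1,1,0,[],[71,64,81,64]),
 (1,1,0,[],[76,70,3,78]),
 (1,1,0,[],[70]),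
 (1,1,0,[],[69,72,68]),
 (1,1,0,[],[70,4,68,81]),
 (1,1,0,[],[3,81,4,76,78]),
 (1,1,0,[],[72]),
 (1,1,0,[],[3,79,64,69,75]),
 (1,1,0,[],[71,68]),
 (1,1,0,[],[72,66,66,68]),
 (1,1,0,[],[70]),
 (1,1,0,[],[71,71,72]),
 (1,1,0,[],[66,3,69,75]),
 (1,1,0,[],[3,67,78,68,66])],
 [(1,1,0,[],[3,76,82,3,71]),
 (1,1,0,[],[68,73,82,73]),
 (1,1,0,[],[4,74,69,81,64]),
 (1,1,0,[],[71,71,72]),
 (2,2,0,[],[70]),
 (2,2,0,[],[71,72]),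
 (2,2,0,[],[71,71]),
 (2,2,0,[],[70,72]),
 (2,2,0,[],[71,64,81,64]),
 (2,2,0,[],[4,66,78,72,3]),
 (2,2,0,[],[71,71,72]),
 (2,2,0,[],[3,69,65,82,68]),
 (2,2,0,[],[78,66,72,78]),
 (2,2,0,[],[71]),
 (2,2,0,[],[71,72]),
 (2,2,0,[],[70,70]),
 (2,2,0,[],[70,72]),
 (2,2,0,[],[3,71,64,81]),
 (2,2,0,[],[72,67,71,72]),
 (2,2,0,[],[82,66,73,70]),
 (2,2,0,[],[67,65,74,79]),
 (2,2,0,[],[69,67,72,69]),
 (2,2,0,[],[4,68,82]),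
 (2,2,0,[],[70,72]),
 (2,2,0,[],[75,65,79,70]),
 (2,2,0,[],[3,69,65,82,68]),
 (2,2,0,[],[71,80,64,76]),
 (2,2,0,[],[69,3,68,64]),
 (2,2,0,[],[81,73,77,80]),
 (2,2,0,[],[67,68,72,66]),
 (2,2,0,[],[71,71,72]),
 (2,2,0,[],[4,64,81,76,77])],
 [(2,2,0,[],[67,69,71,66]),
 (2,2,0,[],[70,72]),
 (2,2,0,[],[68,76,4,64]),
 (2,2,0,[],[66,68,70,72]),
 (3,3,0,[],[67,81,4,76]),
 (3,3,0,[],[66,72,67,69]),
 (3,3,0,[],[67,72,67,70]),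
 (3,3,0,[],[4,78,69,82]),
 (3,3,0,[],[3,67,77,4,73]),
 (3,3,0,[],[67,81,4,76]),
 (3,3,0,[],[67,81,4,76]),
 (3,3,0,[],[67,81,4,76]),
 (3,3,0,[],[4,78,69,82]),
 (3,3,0,[],[67,72,66]),
 (3,3,0,[],[81,68,77,3]),
 (3,3,0,[],[4,65,73,79]),
 (3,3,0,[],[69,78,78,4]),
 (3,3,0,[],[4,65,73,79]),
 (3,3,0,[],[69,78,78,4]),
 (3,3,0,[],[3,67,77,4,73]),
 (3,3,0,[],[66,82,82]),
 (3,3,0,[],[3,67,77,4,73]),
 (3,3,0,[],[3,77,77,68]),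
 (3,3,0,[],[3,3,70,4,81]),
 (3,3,0,[],[67,72,67,70]),
 (3,3,0,[],[81,68,77,3]),
 (3,3,0,[],[67,72,66]),
 (3,3,0,[],[4,65,73,79]),
 (4,4,0,[],[4,73,80,81]),
 (4,4,0,[],[64,70,77,69,78]),
 (4,4,0,[],[71,64,71,81]),
 (4,4,0,[],[64,72,3,71,92,92,89])],
 [(4,4,0,[],[66,70,72,67]),
 (4,4,0,[],[4,73,80,81]),
 (4,4,0,[],[81,74,74]),
 (4,4,0,[],[3,77,73,66,71]),
 (4,4,0,[],[4,73,80,81]),
 (4,4,0,[],[74,74,74,3]),
 (4,4,0,[],[80,67,4,71]),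
 (4,4,0,[],[81,69,79,67,92,92,89]),
 (4,4,0,[],[3,68,76,67,92,92,89]),
 (4,4,0,[],[3,66,74,65,79]),
 (4,4,0,[],[66,70,72,67]),
 (4,4,0,[],[4,79,81,74]),
 (4,4,0,[],[66,70,72,67]),
 (4,4,0,[],[4,73,80,81]),
 (4,4,0,[],[73,69,75,75]),
 (4,4,0,[],[66,70,72,67]),
 (4,4,0,[],[76,69,71,71]),
 (4,4,0,[],[4,76,76,70,80]),
 (4,4,0,[],[4,68,75,66,73]),
 (4,4,0,[],[3,82,4,79,82]),
 (4,4,0,[],[72,78,70,76,92,92,89]),
 (4,4,0,[],[3,81,64,64,81]),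
 (4,4,0,[],[68,64,78,80]),
 (4,4,0,[],[72]),
 (4,4,0,[],[4,4,68,66,92,92,89]),
 (4,4,0,[],[73,75,71,76,92,92,89]),
 (5,5,0,[],[70,72]),
 (5,5,0,[],[73,68,72,74]),
 (5,5,0,[],[4,70,74,81]),
 (5,5,0,[],[67,73,67,73]),
 (5,5,0,[],[3,65,74,78,69]),
 (5,5,0,[],[67,73,67,73])],
 [(5,5,0,[],[82,80,76,69]),
 (5,5,0,[],[71,77,72,82]),
 (5,5,0,[],[70,72]),
 (5,5,0,[],[70,72]),
 (5,5,0,[],[70,72]),
 (5,5,0,[],[73,72,69,74]),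
 (5,5,0,[],[72,81,72,81]),
 (5,5,0,[],[67,73,67,73]),
 (5,5,0,[],[77,82,80,82]),
 (5,5,0,[],[72,81,72,81]),
 (5,5,0,[],[67,73,67,73]),
 (5,5,0,[],[70,70,77]),
 (5,5,0,[],[77,74,71,82]),
 (5,5,0,[],[4,70,64,72]),
 (5,5,0,[],[73,71,68,74]),
 (5,5,0,[],[4,79,71,67]),
 (5,5,0,[],[64,3,80,74]),
 (5,5,0,[],[3,3,3]),
 (5,5,0,[],[78,73,69,66]),
 (5,5,0,[],[64,68,70,65]),
 (5,5,0,[],[78,73,69,66]),
 (5,5,0,[],[67,65,67,68]),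
 (5,5,0,[],[3,68,65,74,82]),
 (5,5,0,[],[64,68,70,65]),
 (5,5,0,[],[3,75,71,73,77]),
 (5,5,0,[],[3,65,78,78,76]),
 (5,5,0,[],[70,72]),
 (5,5,0,[],[4,70,74,81]),
 (5,5,0,[],[72,81,72,81]),
 (5,5,0,[],[71,77,80,78]),
 (5,5,0,[],[3,81,67,68,78]),
 (5,5,0,[],[67,79,3,75])],
 [(5,5,0,[],[67,65,67,68]),
 (5,5,0,[],[3,81,67,68,78]),
 (5,5,0,[],[75,64,69,79]),
 (6,6,0,[],[68,70,3,68,88,69,88]),
 (6,6,0,[],[66,78,81,80]),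
 (6,6,0,[],[69,72,66,71]),
 (6,6,0,[],[77,75,78,3]),
 (6,6,0,[],[66,68,70,67]),
 (6,6,0,[],[70,70]),
 (6,6,0,[],[71,72]),
 (6,6,0,[],[72,67,68]),
 (6,6,0,[],[73,65,78]),
 (6,6,0,[],[70,70]),
 (6,6,0,[],[71,72]),
 (6,6,0,[],[67,78,71,73,93,5,66]),
 (6,6,0,[],[80,66,76,3]),
 (6,6,0,[],[66,78,81,80]),
 (7,7,0,[],[3,76,72,4,71]),
 (7,7,0,[],[3,75,64,80,64]),
 (7,7,0,[],[68,82,79,68,87,85,93]),
 (7,7,0,[],[3,75,64,80,64]),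
 (7,7,0,[],[4,74,78,72,66,5,85,91]),
 (7,7,0,[],[4,77,73,80,81]),
 (7,7,0,[],[3,76,72,4,71]),
 (7,7,0,[],[3,75,64,80,64]),
 (7,7,0,[],[3,76,72,4,71]),
 (7,7,0,[],[4,77,73,80,81]),
 (7,7,0,[],[3,76,72,4,71]),
 (8,8,0,[],[71,68,65,71,93,87,81]),
 (8,8,0,[],[71,4,75,66,2,5,88]),
 (8,8,0,[],[3,73,66,77,81,5,89,91]),
 (8,8,0,[],[3,72,79,74,80])],
 [(8,8,0,[],[74,4,4,69]),
 (0,1,1,[],[]),
 (1,1,1,[],[2]),
 (1,1,1,[5],[92,82]),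
 (1,1,1,[2],[1]),
 (1,1,1,[1],[1,1]),
 (1,0,1,[2,2],[1,1]),
 (1,6,1,[5,2],[]),
 (1,2,1,[5,1],[]),
 (1,2,1,[81,91],[81,91]),
 (1,2,1,[87,5,1],[4,74,79,79,5,81,87]),
 (1,4,1,[92,92,2],[]),
 (1,3,1,[93,93,87,2],[]),
 (6,4,1,[3,5],[65,65,74,74,92,82]),
 (6,2,1,[1],[5]),
 (6,1,1,[2,2],[2,5]),
 (6,5,1,[66,87],[]),
 (2,2,1,[],[69,71,66,69,1,1]),
 (2,1,1,[5],[5]),
 (2,2,1,[94,1],[66,78,78,67,91,71]),
 (2,4,1,[3,5],[80,67,78,4,92,82]),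
 (2,1,1,[2,2],[1,5]),
 (2,6,1,[81,91],[66,74,2]),
 (2,5,1,[70,91],[68,70,4,68,88,80]),
 (2,5,1,[92,5],[3,3,71,3,66,87,83,87]),
 (2,4,1,[87,68,87],[65,68,68,73,1,1]),
 (2,5,1,[5,3,5],[76,3,67,78,92,82]),
 (2,2,1,[91,80,92],[3,64,70,76,73,87,4]),
 (2,4,1,[5,94,2],[66,79,74,77,92,4]),
 (2,1,1,[80,94,87],[75,82,3,71,1,94,87]),
 (2,3,1,[88,5,91],[4,82,77,4,1,87,65]),
 (4,2,1,[],[4,76,76,69,1,5,93,80])],
 [(4,3,1,[5],[3,77,3,80,75,92,82]),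
 (4,6,1,[86,88,1],[75,72,4,81,88,2]),
 (4,2,1,[66,87,1],[71,67,74,76,2,87,93]),
 (4,2,1,[4,94,1],[70,74,72,73,92,4]),
 (4,1,1,[2,2],[64,73,65,77,81,5,93,80]),
 (4,5,1,[4,94],[65,75,74,74,2,94]),
 (4,5,1,[86,88],[81,74,67,69,1,1]),
 (4,4,1,[1,75,92],[65,72,82,4,93,64]),
 (4,4,1,[3,92],[4,77,65,4,76,2,93,3]),
 (4,5,1,[86,88,2],[73,75,80,73,2]),
 (4,4,1,[90,88,88],[73,82,65,74,94,92]),
 (4,3,1,[88,3,88],[4,80,78,65,2,88,5]),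
 (4,5,1,[5,85,5],[74,68,81,69,91,68]),
 (4,5,1,[84,87,91,2],[4,75,72,69,81,2,5,87,78]),
 (4,7,1,[92,92,2],[]),
 (3,3,1,[],[3,73,66,76,64,2]),
 (3,4,1,[74,88,1],[4,78,4,65,88,2]),
 (3,2,1,[69,88,1],[67,82,67,67,2,5,91,91]),
 (3,3,1,[2],[71,73,68,77,1]),
 (3,3,1,[1],[78,66,74,82,1,1]),
 (3,1,1,[2,2],[64,81,3,72,1,93,93,88]),
 (3,5,1,[69,88],[65,82,76,81,5,94,4]),
 (3,3,1,[71,1,91],[81,70,75,68,87,84]),
 (3,5,1,[69,88,2],[82,79,4,79,88,92,75]),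
 (3,4,1,[1,91,87],[3,65,76,79,67,93,87,78]),
 (3,3,1,[5,65,5],[66,64,80,66,5,74,91]),
 (3,5,1,[5,76,92],[68,82,66,66,87,4,5]),
 (3,5,1,[76,92,5],[4,65,70,73,78,91,88]),
 (3,7,1,[74,5,88],[64,69,65,75,91,4]),
 (3,3,1,[74,94,87],[3,64,73,71,72,91,75,87]),
 (3,5,1,[75,91,88],[79,73,79,65,1,88,92,5]),
 (5,4,1,[],[3,71,73,69,67,1,1,87])],
 [(5,5,1,[74,88,1],[73,4,81,81,88,2]),
 (5,4,1,[93,1],[3,66,80,81,79,87,65,93]),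
 (5,5,1,[4,5],[75,74,76,72,92,82]),
 (5,2,1,[88,1],[3,80,77,67,87,73,93]),
 (5,5,1,[2],[67,72,76,76,1]),
 (5,4,1,[1],[66,3,74,70,2,94]),
 (5,6,1,[2,2],[66,1,1,87]),
 (5,8,1,[74,88],[]),
 (5,7,1,[93],[3,72,64,80,67,1,1]),
 (5,5,1,[88],[4,81,69,82,2,5]),
 (5,5,1,[64,92,2],[67,72,76,88,94,76]),
 (5,2,1,[88,2,2],[3,64,76,80,70,5]),
 (5,7,1,[66,92],[3,77,81,81,68,92]),
 (5,4,1,[88,2],[3,77,77,75,1,88,2]),
 (5,3,1,[90,91,5],[65,77,4,74,88,94,90]),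
 (5,5,1,[91,3,5],[70,4,79,79,4,5,87,80,92]),
 (5,7,1,[76,5,88,2],[3,79,81,68,92,77]),
 (5,2,1,[80,93,88],[68,4,81,77,1,1,91,5]),
 (5,3,1,[79,93,5],[67,4,75,80,2,5]),
 (5,4,1,[5,4,5],[3,74,4,64,1,5,93]),
 (5,5,1,[5,73,5],[78,66,80,82,5,90,94]),
 (5,5,1,[87,94,1],[69,67,67,69,5,92,66]),
 (5,5,1,[93,5,1],[78,76,65,67,87,2,93]),
 (5,5,1,[92,67,93],[74,72,77,75,5,83,94]),
 (5,3,1,[79,92,88],[3,3,70,76,73,92,92]),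
 (5,3,1,[72,94,5],[69,75,67,65,2,94,85]),
 (5,3,1,[91,5,87],[69,75,64,77,1,88,88,80]),
 (5,5,1,[92,5,90,5],[3,64,79,71,91,5,87]),
 (5,5,1,[88,93,87,2],[70,67,73,72,93,5]),
 (8,8,1,[4,5],[64,80,68,80,92,82]),
 (8,5,1,[2,2],[74,1,1,88]),
 (7,5,1,[],[70,4,74,77,5,86,1])],
 [(7,7,1,[94,1],[77,82,77,64,92,4]),
 (7,3,1,[84,5],[71,77,65,77,88,93,79]),
 (7,5,1,[73,5],[4,68,4,72,68,93,87,78]),
 (7,5,1,[81,94,1],[4,67,65,78,4,94,1]),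
 (7,4,1,[2,2],[64,73,65,77,81,5,93,80]),
 (7,7,1,[81,94,2],[82,68,81,69,2,88,67])]]

noncomputable def xF : ℕ → SF := nth2 (0,0,0,[],[]) xFs

noncomputable def xN0 : XN := ([0,1,2],[(289,0,[0,2,31,33,34,0,2,25,27,24,33,32,25],1408,[(1,[3],[77,72,8,78,6]),
 (19,[64],[79,74,73,79,8]),
 (75,[68,3,80,64],[8,78,78,77,8]),
 (76,[69,79,77,68],[72,79,76,78]),
 (77,[65,72,75,75],[72,72,7,72,71]),
 (78,[77,75,82,79],[7,75,73,6]),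
 (79,[78,4,67,74],[6,77,75,6,71]),
 (80,[71,71,72],[76,79,71,72,72])],[([77,78,79,80],[1,19,1,19,1,19,1,19,1,19,1,19,1,19,1,19,1],904,504),
 ([80],[77,78,79,77,78,79,77,79,77,78,77],216,125),
 ([],[80],4,2)])],177408000,0,0,[],[])

noncomputable def xN1 : XN := ([3,4],[(290,0,[],1,[(3,[3,64,75,79,76],[74,9,71,6,8]),
 (4,[3,68,77,67,68],[9,7,72,74,6]),
 (81,[4,80,70,76],[77,70,76,8,6]),
 (82,[4,66,74,79],[6,71,77,74,6]),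
 (83,[64,64,74,82],[77,9,78,8,78]),
 (84,[71,71,72],[76,79,71,72,72])],[([81,82,83,84],[3,4,3,4,3,4,3,4,3,4,3,4,3,4,3,3,4],904,504),
 ([84],[81,82,83,81,82,83,81,82,81,81],216,125),
 ([],[84],4,2)]),
 (291,1,[37,35,39,37,36,37,35,37],50,[(85,[70,66,76,65],[79,7,78,70,6]),
 (86,[4,69,65,68],[7,71,73,7,72]),
 (87,[71],[6,75,7,7,73]),
 (88,[71,72],[76,72,79,71])],[([87,88],[85,86,85,86,85,86,85,86,85,86,85,86,85,86,85],204,252),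
 ([],[87,88,87,87,87],9,10)]),
 (292,51,[],1,[(3,[64,74,74,76],[6]),
 (4,[68,74,64,81],[8]),
 (89,[3,75,78,68,74],[73,79,74,71,9]),
 (90,[4,78,81,81],[78,77,75,9,9]),
 (91,[64,66,73,77],[76,9,75,75,9,6]),
 (92,[71,71,72],[76,79,71,72,72])],[([89,90,91,92],[3,4,3,4,3,4,3,4,3,4,3,4,3,4,3,3,4],904,504),
 ([92],[90,91,89,90,91,89,90,91,89,90],216,125),
 ([],[92],4,2)]),
 (293,52,[],1,[(3,[64,74,74,76],[74,9,71,6,8]),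
 (4,[68,74,64,81],[9,7,72,74,6]),
 (93,[69,64,75,78],[7,73,74,74,7]),
 (94,[4,77,79,67],[8,72,74,6]),
 (95,[72,67,71,82],[77,9,78,8,78]),
 (96,[71,71,72],[76,79,71,72,72])],[([93,94,95,96],[3,4,3,4,3,4,3,4,3,4,3,4,3,4,3,3,4],904,504),
 ([96],[93,94,95,93,94,95,93,94,93,94],216,125),
 ([],[96],4,2)]),
 (294,53,[],1,[(3,[3,64,75,79,76],[51,54,50,38,2]),
 (4,[3,68,77,67,68],[42,41,52,42,2]),
 (97,[76,80,4,77],[52,3,55,51]),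
 (98,[3,3,75,66],[40,50,2,2]),
 (99,[3,78,67,68,74],[49,42,41,53,2]),
 (100,[71,71,72],[46,45,45])],[([97,98,99,100],[3,4,3,4,3,4,3,4,3,4,3,4,3,4,3,3,4],904,504),
 ([100],[97,98,99,97,98,99,97,98,97,97],216,125),
 ([],[100],4,2)]),
 (295,54,[37,35,39,37,36,37,35,37],50,[(101,[4,66,71,81],[128,127,123,123,120]),
 (102,[69,67,71,71],[120,27,128,128,122]),
 (103,[66,66,70,70],[123,129,126,26]),
 (104,[69,3,74,78],[124,128,121,128,122,26]),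
 (105,[69,69,72],[26,129,125,127,29]),
 (106,[68,72,69],[125,129,122,129,123])],[([105,106],[101,102,103,101,102,103,101,104,103,102,101],204,252),
 ([],[105,105,106,105,105],9,10)]),
 (296,104,[37,35,39,37,36,37,35,37],50,[(107,[3,75,70,76],[12,12,12,12]),
 (108,[68,68,72,67],[10,10,13,13]),
 (109,[66,76,65,69],[80,86,89,82]),
 (110,[66,76,65,69],[80,86,89,82]),
 (111,[77,70,64,68],[86,82,13,13]),
 (112,[69,69,72],[88,12,84,10]),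
 (113,[71,71,72],[82,85,11,81])],[([112,113],[107,108,109,107,108,109,107,111,109,108,109],204,252),
 ([],[112,112,113,112,112],9,10)]),
 (297,154,[37,35,39,37,36,37,35,37],50,[(114,[3,66,82,74,78],[86,10,83]),
 (115,[66,77,67,76],[83,83,89,80]),
 (116,[67,69,73,73],[88,80,13,81,10]),
 (117,[4,73,79,77],[86,89,80,87])],[([116,117],[114,115,114,115,114,115,114,115,114,115,114,115,114,114],204,252),
 ([],[116,116,117,116,116],9,10)]),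
 (298,204,[37,35,36,37,39,38,37,35,37,39,37,36],350,[(118,[3,68,82,72,78],[89,83,12,12]),
 (119,[3,3,82,65,76],[81,85,89,11]),
 (120,[65,68,71,82,70],[13,85,12,11])],[([120],[118,119,118,118,119,118,118,119,118,118,119,118,118,119,118,119,118,118],206,180),
 ([],[120],5,2)]),
 (299,554,[37,35,36,37,38,39,37,38,37,39,37,35],350,[(121,[77,74,65,78],[101,106,102,19]),
 (122,[64,73,68,68],[19,21,19,21]),
 (123,[3,76,81,67,67],[106,21,21]),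
 (124,[3,68,81,71,75],[100,104]),
 (125,[3,75,3,78,81],[20,105,109,18])],[([125],[124,122,124,122,124,123,124,124,124,122,124,122,124],226,180),
 ([],[125],4,2)]),
 (300,904,[37,35,36,37,39,38,37,35,37,39,37,35,37],504,[(126,[65,77,67,75,71],[90,17,14]),
 (127,[80,4,73,3],[96,99,16]),
 (128,[4,73,71,68],[15,95,17]),
 (129,[3,69,75,77,67],[93,97,91]),
 (130,[3,76,70,80],[14,96,17]),
 (131,[67,72,66],[90,16,15])],[([131],[126,129,127,126,128,126,129,126,127,126],216,125),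
 ([],[131],4,2)])],126000,0,0,[[]],[[(0,[4,6,2,7,2]),
 (0,[3,3,2,4,3])]])

noncomputable def xN2 : XN := ([5,6],[(305,0,[6],2,[(5,[70,66,68],[81,13,85]),
 (42,[70,64,79,79],[85,11]),
 (132,[70],[89,12,86,81,10]),
 (133,[71,72],[85,89,85,83])],[([132,133],[5,42,5,42,5,42,5,42,5,42,5,5,42,5,42],204,252),
 ([],[132,133,132,132,132],9,10)]),
 (306,1,[6],2,[(5,[70,66,68],[73,74,79,7,70]),
 (42,[70,64,79,79],[77,70,76,74]),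
 (134,[71,71],[75,70,75,6,6]),
 (135,[70,72],[76,71,8,75,8])],[([134,135],[5,42,5,42,5,42,5,42,5,42,5,5,42,5,42],204,252),
 ([],[134,135,134,134,134],9,10)]),
 (307,6,[5,42,6,42,5],14,[(136,[3,67,65,75,72],[82,10,13]),
 (137,[4,4,70,66,79],[86,88,84,10]),
 (138,[67,4,79,71],[88,84,80,10])],[([138],[136,137,136,137,136,137,136,137,136,137,136,137,136,136],204,180),
 ([],[138],4,2)]),
 (308,9,[5,42,5,6,5,43,5,42,5,5],84,[(139,[79,81,3,77],[100,19,100,18]),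
 (140,[71,76,65,68],[104,106,100])],[([],[140,139,140,139,140,139,140,139,140,139,140],204,60)]),
 (309,53,[6],2,[(5,[70,66,68],[73,70,9,78]),
 (42,[70,64,79,79],[75,7,73,79]),
 (141,[71],[8,73,76,73]),
 (142,[71,72],[77,75,70,79,74])],[([141,142],[5,42,5,42,5,42,5,42,5,42,5,5,42,5,42],204,252),
 ([],[141,142,141,141,141],9,10)]),
 (310,154,[6],2,[(5,[70,81,76,71],[26,126,129,125,28]),
 (42,[3,64,3,71,4],[26,127,120,127,29]),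
 (143,[3,69,73,72,67],[125,125,126,126]),
 (144,[3,77,69,81,3],[124,127,121,29,27])],[([143,144],[5,42,5,42,5,42,5,42,5,42,5,5,42,5,42],204,252),
 ([],[143,144,143,143,143],9,10)]),
 (311,167,[5,42,5,6,5,42,5,5,42,5],84,[(145,[3,68,73,75,72],[118,110,22]),
 (146,[80,82,4,77],[114,116,22])],[([],[145,146,145,146,145,145,146,146,145,145,146,145],206,60)]),
 (312,424,[5,42,5,6,5,42,5,42,5,42,5,43,5,5,5],504,[(147,[4,75,74,68,66],[116,110]),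
 (148,[66,82,80,75],[25,111,22])],[([],[147,148,147,147,147],11,10)]),
 (313,458,[5,42,6,42,5],14,[(149,[65,4,73,81],[19,105,101,18]),
 (150,[3,68,71,75,79],[21,108,20]),
 (151,[64,68,70,65],[101,106,18,21])],[([151],[150,149,150,149,150,149,150,149,150,149,150,149,150,150,150],204,180),
 ([],[151],4,2)]),
 (314,492,[5,42,5,6,5,43,5,42,5,5],84,[(152,[3,71,67,67,81],[118,115]),
 (153,[79,81,3,77],[110,22,24])],[([],[152,153,152,153,152,153,152,153,152,152],204,60)]),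
 (315,534,[5,42,5,6,5,43,5,42,5,5],84,[(154,[71,75,77,77],[12,87,12,88]),
 (155,[4,77,80,65],[82,82])],[([],[154,155,154,154,155,154,155,154,155,154,155,155,154,154],204,60)]),
 (316,557,[5,42,6,42,5],14,[(156,[68,81,77,77],[104,108,20,19]),
 (157,[72,66,70,75],[104,102,19]),
 (158,[67,4,79,71],[103,100,18])],[([158],[156,157,156,157,156,157,156,157,156,157,156,157,156,156],204,180),
 ([],[158],4,2)]),
 (317,563,[5,42,6,42,5],14,[(159,[77,70,70,78],[8,74,7,76,9,6]),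
 (160,[4,68,71,79,79],[72,77,73,7,72]),
 (161,[71,3,72,73],[77,74,6,6,71])],[([161],[160,159,160,159,160,159,160,159,160,159,160,159,160,159,160,159,160,159,160],204,180),
 ([],[161],4,2)]),
 (318,968,[5,42,5,6,5,42,5,43,5,42,5,42,5,5],504,[(162,[68,67,68,70],[94,17,17]),
 (163,[64,82,82,76],[90,16,15])],[([],[162,163,162,162,162],13,10)])],5040,1,6,[[],
 [65,71,78,69,1,5]],[[(0,[1,4,5,6,4]),
 (1,[])],
 [(1,[5,1,1,4,5]),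
 (0,[0,0,0])]])

noncomputable def xN3 : XN := ([7,8],[(335,0,[7],2,[(45,[82,69,3,71],[96,96,91]),
 (46,[73,4,80,3],[94,16,15]),
 (47,[64,80,66,68],[15,92,16]),
 (164,[67,81,4,76],[92,90])],[([164],[45,47,45,46,45,47,46,45,47,45,45],206,125),
 ([],[164],1,2)]),
 (336,2,[45,46,47,7,46,46,47,46],50,[(165,[74,74,81],[101,19,20]),
 (166,[67,68,67,70],[103,103,18,18])],[([],[165,166,165,165,165],12,10)]),
 (337,16,[45,46,48,47,7,47,46,47],50,[(167,[4,69,3,70,78],[11,87,81]),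
 (168,[64,74,79,67],[88,81])],[([],[167,168,167,167,167],3,10)]),
 (338,51,[7],2,[(45,[4,4,70,70],[97,91,95]),
 (46,[64,68,72,74,78],[94,17,15]),
 (47,[64,64,71,64,75],[96,95,91]),
 (169,[67,4,70,80],[93,96,91])],[([169],[45,47,45,46,45,47,46,45,47,45,45],206,125),
 ([],[169],1,2)]),
 (339,52,[7],2,[(45,[4,4,70,70],[15,91,14]),
 (46,[64,68,72,74,78],[14,93,14]),
 (47,[64,64,71,64,75],[94,16,16]),
 (170,[67,4,70,80],[99,15])],[([170],[45,47,45,46,45,47,46,45,47,45,45],206,125),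
 ([],[170],1,2)]),
 (340,53,[7],2,[(45,[82,69,3,71],[75,78,77,75,71]),
 (46,[73,4,80,3],[76,9,75,75,9,6]),
 (47,[64,80,66,68],[72,72,6,77,72]),
 (171,[67,81,4,76],[78,72,77,6,8,6])],[([171],[45,47,45,46,45,47,46,45,47,45,45],206,125),
 ([],[171],1,2)]),
 (341,90,[45,46,48,47,7,47,46,47],50,[(172,[72,74,72,3],[116,110]),
 (173,[70,72],[24,116,22])],[([],[173,172,173,172,173],3,10)]),
 (342,140,[45,46,48,47,7,47,46,47],50,[(174,[3,79,75,3],[96,16,16]),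
 (175,[69,3,73,77],[93,96,91])],[([],[174,175,174,174,174],3,10)]),
 (343,191,[45,46,48,47,7,47,46,47],50,[(176,[3,3,71,65,73],[116,110]),
 (177,[3,79,81,77,81],[117,25,23])],[([],[176,177,176,176,176],3,10)]),
 (344,280,[45,46,48,47,7,47,46,47],50,[(178,[66,76,69,70],[21,104,19]),
 (179,[68,64,77,82],[101,106,18,21])],[([],[178,179,178,178,178],3,10)]),
 (345,482,[45,46,47,45,46,47,7,45,46,45,47],250,[(180,[66,74,66,74],[99,16,16,14])],[([],[180],1,2)]),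
 (346,517,[45,46,47,45,46,48,7,45,47,46,45,45],250,[(181,[67,72,67,70],[117,110])],[([],[181],1,2)]),
 (347,546,[45,46,48,47,7,47,46,47],50,[(182,[3,74,64,71],[110,110]),
 (183,[65,67,65,67],[117,115,22])],[([],[182,183,182,182,182],3,10)]),
 (348,630,[45,46,47,48,46,45,7,47,46,45,47],250,[(184,[76,4,4,78],[30,139,132,30])],[([],[184],3,2)]),
 (349,736,[45,46,48,47,7,47,46,47],50,[(185,[3,67,74,82,82],[96,16,16]),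
 (186,[67,65,67,68],[91,14,17])],[([],[186,185,186,185,186],3,10)]),
 (350,847,[45,46,48,45,46,47,7,45,46,47,45],250,[(187,[64,70,64,81],[22,22])],[([],[187],1,2)])],500,1,10,[[],
 [73,3,80,4,87,87,91]],[[(1,[]),
 (1,[5,2,0])],
 [(0,[1,4,4]),
 (0,[0,0,3])]])

noncomputable def xN4 : XN := ([9,10],[(319,0,[50,10],4,[(53,[64,77,79,76],[85,80,83]),
 (54,[3,73,73,79,82],[89,13,88,13]),
 (188,[4,73,80,81],[88,84,80,10])],[([188],[53,54,53,54,53,54,53,54,53,54,53,54,53,53],207,180),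
 ([],[188],1,2)]),
 (320,1,[53,54,53,50,53,10,54,53,50,53],144,[(189,[64,70,77,69,78],[93,17,14]),
 (190,[71,64,71,81],[98,14])],[([],[190,189,190,189,190],9,10)]),
 (321,14,[53,54,50,53,53],12,[(10,[3,69,67,70,75],[121,129,122,124,26]),
 (191,[3,81,64,64,81],[123,127,128,124,28]),
 (192,[81,71,72,82],[127,121,129,123,29])],[([192],[10,191,10,10,191,10,10,191,10,191,10],1,60),
 ([],[192],2,2)]),
 (322,19,[50,10],4,[(53,[78,74,82,71],[85,87,83]),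
 (54,[78,78,73,70],[82,82,84,10]),
 (193,[3,3,75,77],[11,88,81,10])],[([193],[53,54,53,54,53,54,53,54,53,54,53,54,53,53],207,180),
 ([],[193],1,2)]),
 (323,20,[53,50,10,53,54,53],24,[(194,[3,78,80,81,67],[11,81,13]),
 (195,[67,65,67,68],[82,84,83,10])],[([],[194,195,194,194,195,194,194,195,194,194,194,195,194],207,60)]),
 (324,53,[50,10],4,[(53,[64,77,79,76],[76,7,71,76,9,6]),
 (54,[3,73,73,79,82],[76,73,7,74]),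
 (196,[4,73,80,81],[77,6,72,72])],[([196],[53,54,53,54,53,54,53,54,53,54,53,54,53,53],207,180),
 ([],[196],1,2)]),
 (325,63,[53,50,10,53,54,53],24,[(197,[75,78,67,67],[114,25]),
 (198,[4,71,68,79,81],[118,115])],[([],[197,198,197,198,197,198,197,198,197,197],207,60)]),
 (326,91,[53,54,50,53,53],12,[(10,[3,68,77,72],[114]),
 (199,[72,76,64,64],[112,111,22]),
 (200,[68,4,67,69],[24]),
 (201,[3,65,78,69,77],[25,117,22]),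
 (202,[69,72,66,71],[117,110])],[([202],[201,10,199,201,199,200,10,200],1,60),
 ([],[202],2,2)]),
 (327,141,[53,54,50,53,53],12,[(10,[3,77,81,70,3],[105,20,105]),
 (203,[3,65,76,71],[107,103,20]),
 (204,[3,69,75,77,67],[109,21,102])],[([204],[203,10,203,10,203,10,203,203,10,203],1,60),
 ([],[204],2,2)]),
 (328,162,[50,10],4,[(53,[68,72,3,69],[107,21,104,18]),
 (54,[67,68,74,65],[18,100,104,19]),
 (205,[64,69,71,65],[101,106,18,21])],[([205],[53,54,53,54,53,54,53,54,53,54,53,54,53,53],207,180),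
 ([],[205],1,2)]),
 (329,189,[53,54,50,53,53],12,[(10,[3,69,67,70,75],[24,115,25]),
 (206,[3,74,68,82,77],[116,111]),
 (207,[81,71,72,82],[24,116,22])],[([207],[206,10,206,10,206,10,206,10,206,10,206,10],1,60),
 ([],[207],2,2)]),
 (330,335,[53,54,53,50,10,53,54,53,52,53,53],144,[(208,[3,70,3,65],[103,20,18,18]),
 (209,[3,82,72,81,4],[100,18,100,18])],[([],[208,209,208,208,208],1,10)]),
 (331,379,[53,54,53,50,53,10,54,53,52,53],144,[(210,[78,68,77],[96,16,16]),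
 (211,[4,81,78,72],[91,14,17])],[([],[210,211,210,210,210],1,10)]),
 (332,500,[53,54,53,50,52,54,53,50,53,54,53,53,53],360,[(212,[80,76,74,81],[116,110,24]),
 (213,[75,69,80,80],[110,115,22])],[([],[213,212],1,4)]),
 (333,529,[53,50,53,54,10,53,54,52,54,53,54],144,[(214,[3,64,3,81,64],[25,118]),
 (215,[69,69,70,72],[25,117,22])],[([],[215,214,215,214,215],5,10)]),
 (334,554,[53,54,53,50,52,54,53,50,53,54,53,53,53],360,[(216,[4,77,73,80,81],[31,132,30]),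
 (217,[3,76,72,4,71],[30,139,30])],[([],[216,217],5,4)])],1440,1,9,[[],
 [3,67,68,80,73,1,87,3],
 [69,73,3,68,92,92,89],
 [74,74,65,88,67]],[[(1,[]),
 (2,[])],
 [(0,[0,0,0,2]),
 (3,[])],
 [(3,[2,2,4,1]),
 (0,[2,1,2])],
 [(2,[3,3,1,0]),
 (1,[1,3,2,0])]])

noncomputable def xN5 : XN := ([11,12],[(351,0,[11],2,[(12,[64,70,4,72],[100,18]),
 (56,[70,77,82,82],[109,18,18]),
 (57,[3,82,68,78],[20]),
 (218,[70,72],[20,19,101,20])],[([218],[12,56,57,12,56,12,57,56],204,60),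
 ([],[218],4,2)]),
 (352,2,[12,56,11,57],10,[(59,[3,80,72,73,67],[23,118,22]),
 (219,[69,77,69,77],[116,25,22])],[([],[219,59,219,59,219,219,59,219],226,24)]),
 (353,18,[12,56,12,11,56,12,57,12],60,[(220,[3,66,82,82,70],[18,20,109,18]),
 (221,[70,79,64,73],[108,102,21])],[([],[220,221],1,4)]),
 (354,21,[12,59,56,11,57,12],24,[(222,[82,73,73],[24,115]),
 (223,[64,74,66,74],[25,117,22])],[([],[223,222,223,222,223],3,10)]),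
 (355,48,[12,11],4,[(56,[67,68,67,70],[86,81,83,12]),
 (224,[76,80,76],[10,83,85,12]),
 (225,[3,81,80,80],[87,88,84,11])],[([],[56,224,225,56,224,225,56,224,56],204,60)]),
 (356,51,[11],2,[(12,[78,66,76,69],[116,22]),
 (56,[3,3,68,73,73],[24,116,22]),
 (57,[3,80,67,81,68],[23,116]),
 (226,[68,71,71,68],[114,112])],[([226],[12,56,57,12,56,12,57,56],204,60),
 ([],[226],4,2)]),
 (357,52,[11],2,[(12,[78,66,76,69],[105,109,106,19]),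
 (56,[3,3,68,73,73],[100,18,100,18]),
 (57,[3,80,67,81,68],[109,107,102]),
 (227,[68,71,71,68],[105,103,19,20])],[([227],[12,56,57,12,56,12,57,56],204,60),
 ([],[227],4,2)]),
 (358,53,[11],2,[(12,[64,70,4,72],[128,123,127,27,123,26]),
 (56,[70,77,82,82],[123,126,126,122]),
 (57,[3,82,68,78],[122,124,127,124,124,26]),
 (228,[70,72],[123,126,120,129,27])],[([228],[12,56,57,12,56,12,57,56],204,60),
 ([],[228],4,2)]),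
 (359,55,[12,56,11,57],10,[(59,[4,76,67,81],[143,141,36,142,34]),
 (229,[65,70,65,79],[148,37,146,36])],[([],[229,59,229,59,229,229,59,229],226,24)]),
 (360,93,[12,56,12,11,56,12,57,12],60,[(230,[69,72,65,71],[31,132,30]),
 (231,[3,82,68,75,82],[30,139,132,30])],[([],[230,231],1,4)]),
 (361,102,[12,11],4,[(56,[64,71,81,71],[110,115,22]),
 (232,[69,69,72,67],[25,114])],[([],[56,232,56,232,56,232,56,232,56,232,56,232,56,232],204,60)]),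
 (362,148,[12,56,12,11,56,12,57,12],60,[(233,[65,80,80,68,70],[116,110,24]),
 (234,[4,70,72,3],[110,115,22])],[([],[233,234],1,4)]),
 (363,152,[12,11],4,[(56,[64,71,81,71],[82,88,81,83]),
 (235,[71,66,66],[83,80,85,10])],[([],[235,56,235,235,56,235,56,235,56,235,56],204,60)]),
 (364,196,[12,56,12,11,57,12,59,12],60,[(236,[3,82,76,80,74],[30,139,30]),
 (237,[3,3,70,70,69],[31,132,30])],[([],[236,237],1,4)]),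
 (365,201,[12,11],4,[(56,[67,68,67,70],[107,100,20,18]),
 (238,[3,74,74,69,79],[106,104,20,18]),
 (239,[4,78,71,74,66],[18,109,18])],[([],[56,238,239,56,238,239,56,238],204,60)]),
 (366,251,[12,57,59,12,57,11,12,57,56],120,[(240,[71,68,72],[97,92,90])],[([],[240],1,2)]),
 (367,283,[12,56,59,57,56,11,12,57,12,12],120,[(241,[4,68,81,72],[118])],[([],[241],1,2)]),
 (368,330,[12,57,59,56,11,57,12,56,12,57],120,[(56,[3,3,76,82],[130,138,30])],[([],[56],1,2)]),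
 (369,444,[12,56,59,11,12,12],24,[(242,[66,81,77,75],[89,13,88,13]),
 (243,[73,69,71,74],[13,85,12,11])],[([],[242,243,242,242,242],1,10)]),
 (370,454,[12,56,59,11,12,12],24,[(244,[67,76,65],[92,98,15]),
 (245,[4,72,75,82],[97,92,90])],[([],[244,245,244,244,244],1,10)]),
 (371,472,[12,59,56,11,57,12],24,[(246,[82,70,81],[20,105,18]),
 (247,[3,82,72,81,4],[104,107,101])],[([],[247,246,247,246,247],3,10)]),
 (372,491,[12,56,11,57],10,[(59,[74,69,71,73],[115,112]),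
 (248,[3,73,66,78,81],[22,116])],[([],[59,248,59,248,59,248,59,248],226,24)]),
 (373,587,[12,56,11,57],10,[(59,[67,69,71,66],[115,112]),
 (249,[65,80,72,80],[112,110,23]),
 (250,[66,79,75,73],[22,118,23])],[([],[250,59,249,250,249,59],226,24)]),
 (374,733,[12,56,59,12,57,11,56,59,12],120,[(251,[3,66,82,82,70],[116,110,24])],[([],[251],1,2)]),
 (375,759,[12,56,57,12,11,56,12,57,57,12],120,[(252,[75,69,80,80],[115,112])],[([],[252],1,2)]),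
 (376,808,[12,56,57,11,57,12],24,[(253,[76,74,75,65],[94,17,17]),
 (254,[68,65,77,82],[97,92,90])],[([],[253,254,253,253,253],1,10)]),
 (377,900,[12,56,59,11,12,12],24,[(255,[67,73,77,65],[92,98,15]),
 (256,[4,73,65,73],[97,92,90])],[([],[255,256,255,255,255],1,10)]),
 (378,1048,[12,56,57,59,12,11,57,56,12],120,[(257,[4,65,73,79],[94,92,91])],[([],[257],1,2)]),
 (379,1076,[12,56,57,12,11,57,56,12,57,12],120,[(258,[4,66,74,79],[114,112,25])],[([],[258],1,2)]),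
 (380,1133,[12,56,57,12,56,11,57,12,57,12],120,[(59,[67,68,70,72],[115,22,22])],[([],[59],1,2)])],240,4,7,[[68,66,73,82,1,1],
 [4,4,71,91,2]],[[(1,[]),
 (0,[2])],
 [(0,[0,3,4,1]),
 (1,[0,0,3,0])]])

noncomputable def xN6 : XN := ([13,14],[(301,9,[13,60,14,61,63,60,13,62,64,13,61,60,13],672,[(259,[67,76,68,81],[109,18,101]),
 (260,[66,68,70,67],[104,106,102,18]),
 (261,[3,67,4,4,65],[103,103,18,18])],[([261],[260,259,260,259,259,260,259,260,259,260,259,260,259],11,60),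
 ([],[261],2,2)]),
 (302,52,[13,60,14,64,60,14,60],32,[(262,[3,75,69,79,65],[81,13,84]),
 (263,[66,72,67],[82,82,87,88,10]),
 (264,[68,71,72],[85,87,13]),
 (265,[69,70,72],[81,10,13,10])],[([264,265],[262,263,262,262,263,262,262,263,262,263,262,262,263,262,262,263,262],204,252),
 ([],[264,265,264,264,264],9,10)]),
 (303,53,[13,60,14,64,60,14,60],32,[(266,[72,67,68],[72,74,77,74,73]),
 (267,[73,65,78],[75,72,72,75,73]),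
 (268,[70,70],[71,74,76,79,74]),
 (269,[71,72],[77,75,70,79,74])],[([268,269],[266,267,266,267,266,267,266,267,266,267,266,267,266,266,267],204,252),
 ([],[268,269,268,268,268],9,10)]),
 (304,62,[13,60,14,61,63,60,13,64,60,63,61,60,13],672,[(270,[3,74,79,77,65],[24,114,25]),
 (271,[68,75,79,81],[25,115]),
 (272,[66,75,3,82],[111,22,25])],[([272],[271,270,271,270,271,270,271,270,271,270,271,270],9,60),
 ([],[272],2,2)])],80640,1,5,[[],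
 [4,66,64,75,3,5],
 [3,3,80,77,64,87,73],
 [3,68,74,71,3,91,91],
 [64,81,79,77,87,4,5],
 [66,3,81,73,87,4],
 [65,82,73,4,93,66],
 [3,70,82,66,70,1,91,78],
 [75,70,82,93,5,66],
 [69,75,75,3,5,94,78],
 [3,65,77,71,77,87,81,5],
 [3,65,74,3,80,87,73,93],
 [3,77,80,76,82,87,72,93],
 [65,4,81,77,88,69,88],
 [3,73,78,68,87,81],
 [3,65,74,82,74,91,2,77],
 [67,68,71,80,2,5,79],
 [81,67,70,93,4],
 [73,4,69,76,1,92,3],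
 [72,75,3,64,1,1,87,73],
 [69,73,71,80,93,69],
 [64,64,77,81,70,92,2,64],
 [4,69,3,70,74,5,89,92],
 [68,78,73,65,88,70,93],
 [67,71,74,70,93,5,69],
 [77,74,70,69,87,70,93],
 [77,3,64,81,1,1],
 [3,78,82,69,81,91,93],
 [73,72,4,73,93,5],
 [68,73,4,70,92,82],
 [72,68,81,65,1,1,93],
 [64,77,76,80,93]],[[(1,[]),
 (2,[])],
 [(0,[3,0,4,1,4]),
 (3,[])],
 [(4,[]),
 (0,[0,1,0,0,5])],
 [(5,[]),
 (1,[2,1,5,2])],
 [(6,[]),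
 (7,[])],
 [(8,[]),
 (9,[])],
 [(10,[]),
 (11,[])],
 [(12,[]),
 (13,[])],
 [(14,[]),
 (15,[])],
 [(16,[]),
 (17,[])],
 [(17,[3,1,0,5]),
 (18,[])],
 [(19,[]),
 (20,[])],
 [(15,[1,1,2,0,4]),
 (5,[4,4,0,0])],
 [(2,[1,4,0,2,2]),
 (21,[])],
 [(13,[3,5,1,1,3]),
 (22,[])],
 [(23,[]),
 (24,[])],
 [(11,[2,3,2,3,2]),
 (4,[0,2,0])],
 [(3,[1,4,4,4]),
 (25,[])],
 [(9,[3,5,4,1]),
 (8,[0,3,2,4,5])],
 [(22,[1,2,2,2,0]),
 (26,[])],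
 [(24,[4,0]),
 (27,[])],
 [(25,[0,3,4,2]),
 (28,[])],
 [(7,[0,1,0,2,3]),
 (6,[4,3,1,0])],
 [(18,[0,0,5,2,0]),
 (29,[])],
 [(20,[0,0,4,0,0]),
 (30,[])],
 [(21,[0,0,2,3,4]),
 (31,[])],
 [(29,[2,5,3,0]),
 (19,[0,0,2,5,4,3])],
 [(30,[0,2,1,4,1]),
 (14,[2,1,1,3])],
 [(31,[0,3,4,0,1]),
 (16,[0,3,2,2,4])],
 [(26,[2,4,5,3]),
 (23,[2,2,4,3])],
 [(27,[1,1,5,3,3]),
 (10,[0,2,4,1,2])],
 [(28,[5,1,4,0,1]),
 (12,[4,1,0,2])]])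

noncomputable def xN7 : XN := ([15,16],[(383,0,[66,69,15,16,67,68,69,15,66,69],160,[(273,[3,76,72,4,71],[115,112]),
 (274,[3,75,64,80,64],[110,115,22])],[([],[273,274],1,4)]),
 (384,6,[66,15,16,65,67,69,15,66,69,15],128,[(275,[3,71,3,3,66],[30,131,33])],[([],[275,275,275,275],0,5)]),
 (385,12,[66,69,15,16,67,66,69,15,16,69,66],320,[(276,[67,65,74,79],[98,91,14])],[([],[276],1,2)]),
 (386,37,[66,69,15,16,65,66,69,65,15,67,66],320,[(277,[3,75,3,78,81],[112])],[([],[277],0,2)]),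
 (387,38,[66,69,15,16,67,68,69,15,66,69],160,[(278,[67,81,81],[22,114,22]),
 (279,[4,81,72,82,3],[22,118,23])],[([],[278,279],1,4)]),
 (388,53,[66,69,15,16,67,68,69,15,66,69],160,[(280,[3,75,64,80,64],[107,100,20,18]),
 (281,[3,76,72,4,71],[105,103,19,20])],[([],[280,281],1,4)]),
 (389,181,[66,69,15,16,67,68,69,15,66,69],160,[(282,[67,81,81],[30,139,30]),
 (283,[4,81,72,82,3],[31,132,30])],[([],[282,283],1,4)])],640,4,15,(apd [[],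
 [72,81,80,71,5,91,5,78],
 [3,73,65,79,82,88,91,76],
 [3,81,79,64,80,5,87,4],
 [64,3,79,69,81,5,74,91,94],
 [82,64,78,76,1,87,91,5],
 [77,67,65,80,92,77,87],
 [3,78,69,76,77,2,94,94,5],
 [3,81,70,70,75,87,92,73],
 [74,75,67,65,1,88,70],
 [3,80,68,70,67,92,78,88],
 [4,70,82,77,1,91,74],
 [4,82,64,69,1,91,66],
 [68,71,79,81,5,87,1],
 [3,68,66,79,81,87,91,65],
 [4,65,4,66,2,5,86],
 [76,68,82,73,5,3,94,88],
 [3,65,67,76,91,79,94],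
 [4,77,69,78,88,93,79],
 [65,73,64,78,1,92,69],
 [71,79,78,65,2,88,92,94],
 [69,81,71,67,92,93,77],
 [75,74,65,5,91,94],
 [3,70,70,64,69,5,92,66],
 [4,72,79,4,5,81,5,94],
 [66,73,77,82,5,87,78,87],
 [65,68,77,71,71,1,87,85,88],
 [3,73,78,76,64,88,67],
 [3,64,72,79,66,87,81,94],
 [80,68,74,72,5,65,94],
 [4,72,4,78,91,75,94],
 [4,71,64,73,87,94,5],
 [67,73,67,81,5,91,80],
 [76,79,68,72,5,65,93,91],
 [75,80,67,73,1,91,5],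
 [64,78,75,66,64,92,82,92],
 [68,75,81,65,5,82,88,94],
 [4,70,66,3,91,86,87],
 [67,75,68,73,2,93,4],
 [68,81,76,66,5,87,5,71]]
 (apd [[3,75,4,80,78,87,93,80],
 [71,76,67,71,1,87,85],
 [4,80,82,78,87,92,4],
 [3,74,68,82,68,87,72,87],
 [64,72,64,81,2,88,94,92],
 [3,70,69,76,79,92,88,83],
 [64,78,3,72,5,88,79,92],
 [71,82,65,68,5,75,87],
 [70,73,79,70,87,94,77],
 [4,65,67,78,2,94,94,88],
 [67,79,73,3,2,87,80],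
 [3,80,78,78,71,88,93,89],
 [65,80,73,66,1,91,3],
 [77,80,76,69,87,65,93],
 [78,3,65,65,5,75,88],
 [4,65,79,68,5,83,88,88],
 [78,67,75,79,1,87,67],
 [71,64,79,72,5,74,91],
 [69,82,77,72,5,64,5,88],
 [3,68,4,69,73,5,65,94,92],
 [64,64,72,80,5,65,93],
 [72,73,68,3,2,93,91],
 [65,4,4,74,88,2],
 [78,70,74,4,93,91,5],
 [67,74,80,73,87,87,73],
 [4,79,78,82,5,74,87,92],
 [75,74,75,72,87,91,91],
 [77,69,64,80,91,5,94],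
 [3,66,80,75,65,1,92,93],
 [71,64,70,76,91,5,68],
 [3,3,66,66,70,1,5,88,5],
 [64,82,74,91,71,92],
 [75,65,82,75,5,87,81,92],
 [76,81,77,66,5,94,3],
 [79,67,65,4,5,91,83],
 [68,66,74,75,1,94],
 [74,4,66,80,1,93,93,88],
 [4,75,80,75,5,94,74],
 [66,71,71,73,5,88,67],
 [69,67,80,82,5,87,80,92]]
 (apd [[66,68,79,72,5,85,91],
 [80,64,75,68,1,87,91,93],
 [80,3,70,72,88,94,85],
 [65,4,64,79,88,2,91],
 [82,73,70,79,92,71],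
 [3,68,70,80,77,5,91,67,87],
 [65,74,79,77,5,3,92,92],
 [72,75,82,64,93,87,81],
 [3,69,67,65,79,87,87,81],
 [77,76,79,5,93,5],
 [68,71,4,87,67,92],
 [69,82,79,74,1,87,81],
 [73,75,69,77,5,65,5],
 [73,72,65,81,87,80,87],
 [73,72,82,78,1,1,87,73],
 [4,68,81,67,67,93,5,69],
 [81,78,81,72,1,87,68],
 [3,76,3,69,82,91,89],
 [81,67,72,80,5,81,88,92],
 [76,79,68,67,87,73,94],
 [3,80,78,79,78,87,87,71],
 [67,74,78,76,94,91,94],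
 [82,69,71,4,2,91,5,3],
 [78,66,69,75,87,94],
 [70,80,70,70,87,64,87],
 [71,71,76,1,93,91,94],
 [69,65,80,69,87,85,93],
 [68,80,3,64,1,91,65],
 [79,79,78,79,5,3,90],
 [64,79,66,3,5,89,5,91],
 [68,68,74,69,5,4,5],
 [4,81,80,71,2,5,93,88],
 [3,80,81,81,64,5,87,5],
 [76,77,76,66,87,85,94],
 [65,78,3,3,66,5,85,91,5],
 [3,65,73,65,72,92,92,93],
 [4,4,73,77,74,5,75],
 [65,4,71,80,87,93,81],
 [70,77,73,75,88,1,93],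
 [3,81,80,78,87,92,90]]
 [[81,66,71,71,5,91,78],
 [74,75,66,78,2,88,92,92],
 [77,69,71,74,1,88,5,91],
 [3,67,77,66,74,87,91,74],
 [64,69,79,74,93,82],
 [4,82,68,81,88,92,93],
 [72,77,68,5,88,78],
 [3,67,77,64,70,94,85,91],
 [73,81,64,70,1,91,5,91],
 [3,68,81,76,70,87,94,3],
 [3,77,64,68,74,5,88,4],
 [3,76,66,80,1,92,5,92],
 [4,67,68,77,82,87,87,68],
 [74,3,82,76,87,5,92],
 [70,3,81,70,91,93,92],
 [3,78,66,82,4,5,92,2],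
 [77,79,66,64,5,93,4],
 [66,70,76,82,2,93,87,94],
 [78,4,82,68,94,82],
 [4,76,66,71,77,2,91,88,5],
 [68,65,78,79,5,87,79],
 [70,78,65,67,93,91,93],
 [3,76,70,81,3,2,5,65],
 [73,75,81,75,87,4],
 [70,73,79,69,5,73,87],
 [3,73,81,67,68,91,94,85],
 [66,72,80,69,93,4,91],
 [64,80,82,66,93,93],
 [4,64,81,79,77,1,91],
 [4,81,77,70,93,69,91],
 [65,70,4,76,79,5,93,73],
 [4,66,75,82,68,93,92,73],
 [64,81,67,71,67,88,91,5],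
 [3,72,79,67,78,2,93,87,5],
 [68,73,65,69,5,65,5,92],
 [80,77,3,66,91,88],
 [75,78,74,3,5,89,93,5],
 [65,73,76,4,93,5,85],
 [81,71,74,77,5,86,5,92],
 [3,66,66,73,64,5,93,79]]))),(apd [[(1,[]),
 (2,[])],
 [(3,[]),
 (4,[])],
 [(5,[]),
 (6,[])],
 [(7,[]),
 (8,[])],
 [(6,[0]),
 (9,[])],
 [(10,[]),
 (11,[])],
 [(12,[]),
 (13,[])],
 [(14,[]),
 (15,[])],
 [(16,[]),
 (17,[])],
 [(18,[]),
 (19,[])],
 [(20,[]),
 (21,[])],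
 [(13,[1]),
 (22,[])],
 [(23,[]),
 (24,[])],
 [(25,[]),
 (26,[])],
 [(27,[]),
 (28,[])],
 [(29,[]),
 (25,[1])],
 [(30,[]),
 (31,[])],
 [(22,[1]),
 (32,[])],
 [(33,[]),
 (34,[])],
 [(35,[]),
 (36,[])],
 [(37,[]),
 (38,[])],
 [(39,[]),
 (40,[])],
 [(34,[]),
 (41,[])],
 [(31,[]),
 (42,[])],
 [(43,[]),
 (44,[])],
 [(45,[]),
 (46,[])],
 [(41,[0,1]),
 (47,[])],
 [(48,[]),
 (49,[])],
 [(19,[0,1]),
 (45,[0])],
 [(50,[]),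
 (51,[])],
 [(52,[]),
 (53,[])],
 [(54,[]),
 (55,[])],
 [(56,[]),
 (57,[])],
 [(51,[]),
 (58,[])],
 [(36,[0]),
 (0,[])],
 [(59,[]),
 (60,[])],
 [(61,[]),
 (62,[])],
 [(63,[]),
 (64,[])],
 [(42,[0]),
 (65,[])],
 [(32,[0]),
 (66,[])]]
 (apd [[(67,[]),
 (68,[])],
 [(69,[]),
 (1,[1])],
 [(70,[]),
 (61,[])],
 [(65,[]),
 (71,[])],
 [(0,[]),
 (72,[])],
 [(66,[]),
 (73,[])],
 [(74,[]),
 (75,[])],
 [(76,[]),
 (77,[])],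
 [(38,[]),
 (78,[])],
 [(53,[0]),
 (79,[])],
 [(40,[0,1]),
 (59,[0])],
 [(46,[0,1]),
 (80,[])],
 [(64,[0]),
 (70,[0])],
 [(81,[]),
 (82,[])],
 [(79,[]),
 (83,[])],
 [(73,[1]),
 (84,[])],
 [(83,[0,1]),
 (85,[])],
 [(86,[]),
 (87,[])],
 [(88,[]),
 (86,[])],
 [(71,[0]),
 (89,[])],
 [(62,[1]),
 (90,[])],
 [(91,[]),
 (92,[])],
 [(93,[]),
 (94,[])],
 [(95,[]),
 (96,[])],
 [(97,[]),
 (69,[0])],
 [(47,[0,1]),
 (91,[0,1])],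
 [(82,[0,1]),
 (98,[])],
 [(99,[]),
 (76,[1])],
 [(89,[]),
 (100,[])],
 [(101,[]),
 (102,[])],
 [(68,[1]),
 (101,[0,1])],
 [(72,[1]),
 (103,[])],
 [(104,[]),
 (105,[])],
 [(85,[0,1]),
 (3,[1])],
 [(84,[]),
 (106,[])],
 [(2,[]),
 (107,[])],
 [(87,[]),
 (5,[1])],
 [(108,[]),
 (10,[0,1])],
 [(96,[0]),
 (74,[0,1])],
 [(80,[0]),
 (109,[])]]
 (apd [[(98,[0]),
 (93,[1])],
 [(110,[]),
 (111,[])],
 [(112,[]),
 (113,[])],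
 [(111,[0,1]),
 (104,[1])],
 [(103,[1]),
 (114,[])],
 [(100,[1]),
 (115,[])],
 [(90,[1]),
 (116,[])],
 [(115,[0,1]),
 (117,[])],
 [(109,[0,1]),
 (118,[])],
 [(119,[]),
 (108,[0])],
 [(4,[]),
 (120,[])],
 [(118,[]),
 (121,[])],
 [(122,[]),
 (123,[])],
 [(107,[1]),
 (14,[0,1])],
 [(120,[0,1]),
 (124,[])],
 [(55,[]),
 (88,[0])],
 [(57,[0,1]),
 (112,[0,1])],
 [(60,[]),
 (125,[])],
 [(77,[0,1]),
 (7,[0])],
 [(125,[]),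
 (126,[])],
 [(94,[0]),
 (127,[])],
 [(106,[1]),
 (122,[])],
 [(128,[]),
 (129,[])],
 [(121,[]),
 (130,[])],
 [(131,[]),
 (132,[])],
 [(129,[0,1]),
 (133,[])],
 [(134,[]),
 (135,[])],
 [(136,[]),
 (137,[])],
 [(127,[]),
 (138,[])],
 [(126,[0]),
 (134,[0])],
 [(75,[0]),
 (119,[1])],
 [(102,[0,1]),
 (139,[])],
 [(92,[]),
 (131,[1])],
 [(114,[1]),
 (140,[])],
 [(132,[0]),
 (27,[0,1])],
 [(8,[]),
 (141,[])],
 [(117,[0]),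
 (142,[])],
 [(143,[]),
 (144,[])],
 [(139,[0,1]),
 (145,[])],
 [(116,[0]),
 (136,[1])]]
 [[(133,[1]),
 (18,[1])],
 [(146,[]),
 (12,[])],
 [(130,[0]),
 (20,[0])],
 [(9,[]),
 (37,[0,1])],
 [(147,[]),
 (50,[1])],
 [(113,[1]),
 (128,[1])],
 [(105,[]),
 (146,[0,1])],
 [(148,[]),
 (147,[0,1])],
 [(123,[0]),
 (148,[0,1])],
 [(11,[]),
 (149,[])],
 [(124,[1]),
 (23,[1])],
 [(145,[0,1]),
 (16,[1])],
 [(142,[]),
 (150,[])],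
 [(151,[]),
 (152,[])],
 [(140,[0,1]),
 (153,[])],
 [(15,[1]),
 (30,[])],
 [(153,[0,1]),
 (29,[0,1])],
 [(144,[]),
 (33,[])],
 [(21,[0]),
 (154,[])],
 [(135,[]),
 (143,[0])],
 [(141,[0]),
 (155,[])],
 [(28,[1]),
 (39,[1])],
 [(17,[]),
 (156,[])],
 [(155,[]),
 (63,[0,1])],
 [(154,[1]),
 (157,[])],
 [(137,[]),
 (48,[0,1])],
 [(138,[0,1]),
 (151,[0])],
 [(156,[]),
 (35,[1])],
 [(149,[0]),
 (52,[0,1])],
 [(158,[]),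
 (159,[])],
 [(24,[]),
 (95,[0])],
 [(49,[0,1]),
 (43,[1])],
 [(159,[]),
 (97,[1])],
 [(150,[1]),
 (158,[])],
 [(26,[]),
 (67,[])],
 [(152,[]),
 (54,[1])],
 [(157,[1]),
 (56,[0])],
 [(58,[0]),
 (110,[0])],
 [(78,[0,1]),
 (81,[0,1])],
 [(44,[0,1]),
 (99,[])]]))))

noncomputable def xN8 : XN := ([17,18],[(381,21,[18,74,70,18,71,74,18,71,74,18],128,[(284,[71,77,82,66],[140,35,36,140]),
 (285,[3,3,74,72],[145,145,35,148,34]),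
 (286,[4,74,74,71],[143,141,148,144,36])],[([286],[284,285,284,285,284,285,284,285,284,285,284,285,284],3,120),
 ([],[286],0,2)]),
 (382,53,[18,74,70,18,71,74,18,70,73,74,18,70,74,18,18],1280,[(287,[3,72,79,74,80],[111,22]),
 (288,[74,4,4,69],[114,114])],[([],[288,287,288,287,288,287,288],208,24)])],30720,5,8,(apd [[],
 [4,77,4,74,5,88,88,64],
 [67,81,77,71,91,68],
 [74,78,64,69,91,78,94],
 [64,3,80,81,81,87,91,76],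
 [4,73,77,74,88,5,79],
 [68,66,81,75,93,66,93],
 [75,81,69,1,94,94,88],
 [66,82,70,76,87,3],
 [79,73,3,81,5,73,92,87],
 [75,73,76,1,1,94],
 [4,75,73,65,65,94],
 [68,68,82,74,94,69],
 [78,70,65,80,2,88,93,92],
 [80,73,68,82,1,93],
 [69,78,80,81,87,81,91],
 [75,69,72,82,88,92,75],
 [4,81,72,80,74,5,93,79],
 [67,80,67,75,88,91,68],
 [64,69,75,81,5,93,81],
 [77,77,72,77,2,91,87],
 [4,74,82,77,82,1,87,94,77],
 [3,74,79,73,67,5,87,79],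
 [69,66,75,64,88,76,5],
 [3,72,77,75,73,87,87,75],
 [64,72,79,76,5,87,3],
 [69,71,75,73,1,91,5],
 [70,3,76,70,91,94,1],
 [3,65,79,68,68,87,78,5],
 [65,77,66,74,65,88,94,89],
 [4,65,80,69,70,5,86,5,92],
 [4,74,66,71,88,93,92],
 [66,64,75,79,1,88,92,5],
 [3,64,3,65,70,1,88,93,87],
 [78,71,76,64,5,73,87,5],
 [78,64,75,78,5,64,88,92],
 [70,66,73,91,84],
 [75,73,80,78,1,91,69],
 [79,76,76,3,2,88,92,94],
 [81,78,72,69,5,91,94]]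
 (apd [[66,68,70,64,88,94,87],
 [3,78,76,76,69,1,87,81],
 [64,64,3,74,76,1,93,91,93],
 [67,65,73,72,5,88,94,68],
 [70,77,4,78,2,88,92,5],
 [72,4,74,68,1,91,88,93],
 [3,66,81,76,2,93,91,93],
 [74,71,73,76,88,91,94],
 [67,75,80,73,5,4,92,92],
 [70,76,78,66,91,78],
 [78,71,67,68,5,81,88,92],
 [78,82,75,74,1,91,75],
 [65,75,3,79,1,92,5,92],
 [4,82,73,73,5,81,93,5],
 [78,4,82,74,5,65],
 [3,72,64,81,66,1,87,5,94],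
 [72,65,77,66,87,72],
 [3,80,4,81,74,5,65,94,94],
 [66,69,71,74,88,5,94],
 [72,82,82,3,87,2],
 [4,79,73,66,64,87,91,4],
 [64,66,74,74,1,1,91,5],
 [3,3,69,69,72,92,93,79],
 [79,77,72,75,5,91,64],
 [66,75,66,87,94,75],
 [74,79,79,75,91,5,78],
 [65,68,77,71,71,5,94,4],
 [68,64,69,71,93,91,1],
 [75,79,73,88,67,93],
 [3,68,4,78,65,91,87,72],
 [70,69,82,71,87,73,87],
 [67,76,3,76,5,88,76],
 [69,73,4,4,88,94,3],
 [3,64,71,65,79,88,5],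
 [72,82,78,73,87,65,92],
 [69,4,72,78,1,87,73,87],
 [72,81,69,73,5,65,91],
 [69,65,72,4,1,87,87,1],
 [77,3,66,70,87,4,5],
 [73,72,65,77,91,75,91]]
 (apd [[78,66,74,64,87,81,94],
 [3,71,82,73,66,2,5,94],
 [66,3,3,64,92,75,92],
 [79,72,3,74,87,2,88],
 [73,72,4,64,1,91,94],
 [73,68,70,64,93,88],
 [64,76,70,73,1,88,88,80],
 [69,69,67,70,5,92,67],
 [75,81,4,81,91,4,91],
 [64,76,77,65,87,80,87],
 [79,79,71,91,91,84],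
 [3,79,71,3,5,94,67],
 [77,3,71,81,2,91,94],
 [3,68,65,76,67,5,74,5],
 [71,82,64,66,92,93,77],
 [3,73,79,75,4,91,71,92],
 [71,67,77,68,5,92,80],
 [74,80,3,66,5,93,74],
 [3,69,64,80,92,92,72],
 [69,74,71,82,87,81,92],
 [78,72,76,3,91,5,79],
 [3,77,67,80,64,1,91,91],
 [4,75,72,78,76,5,82,88],
 [75,74,66,3,87,94,73],
 [75,3,74,3,5,87,72],
 [3,77,64,80,71,94,87,90],
 [4,74,80,64,5,93,69],
 [3,77,5,92,3],
 [3,66,3,74,69,87,92,66],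
 [73,65,81,81,92,2,92],
 [3,66,82,74,68,87,76,93],
 [71,78,68,81,5,75,88],
 [81,65,79,74,92,5,71],
 [3,68,75,4,4,5,93,89],
 [80,74,78,65,87,1,87],
 [3,64,69,72,81,5,93,3],
 [79,78,64,75,1,87,5,75],
 [68,3,77,66,88,94,77],
 [4,67,69,64,91,76,2],
 [71,74,80,73,91,5,88]]
 (apd [[74,71,4,71,5,73,91,87],
 [67,72,74,4,2,88,5,94],
 [78,4,69,66,87,84],
 [72,3,65,76,5,86,88,92],
 [71,78,66,71,87,87,91],
 [78,73,68,76,2,88,88,93],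
 [4,68,81,70,66,2,5,87,92],
 [66,73,67,65,5,3,92,88],
 [4,72,73,70,2,87,71],
 [69,78,78,81,2,94,66],
 [4,71,73,72,93,66],
 [66,82,77,67,5,74,92,5],
 [70,70,80,65,5,82,91,93],
 [79,72,73,66,92,82],
 [65,82,69,69,5,85,5,91],
 [82,78,3,73,1,91,94,87],
 [3,3,67,79,66,2,93,3],
 [66,66,75,67,87,64],
 [66,79,65,82,87,91,91],
 [3,71,82,66,79,2,88,94,92],
 [69,64,73,70,5,93,88],
 [3,74,80,73,64,87,81],
 [69,66,66,70,87,5,87],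
 [3,68,76,70,64,2,87,4],
 [80,82,76,64,1,5,94,91],
 [4,74,82,69,81,87,94,88],
 [3,64,71,68,65,94,94,5],
 [3,66,80,82,67,1,87,91,91],
 [64,74,66,69,77,88,94,92],
 [66,78,80,75,5,64,5,87],
 [3,66,73,80,5,81],
 [4,80,71,81,87,1],
 [73,72,73,5,93,93,79],
 [3,80,72,82,68,87,5,93],
 [65,73,78,68,92,87,94],
 [66,70,65,81,73,2,94,81],
 [65,70,69,4,1,93,91,88],
 [75,69,4,75,5,91,91,77],
 [68,75,4,4,88,93,87],
 [3,77,66,71,4,5,94,5,75]]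
 (apd [[3,73,65,71,5,89,5,91],
 [4,65,76,1,91,87,5],
 [78,3,70,77,5,87,92,90],
 [74,64,3,71,1,88,5,88],
 [81,74,3,5,91,94,76],
 [3,78,73,82,65,2,92,92,5],
 [4,70,81,4,66,5,85,93,88],
 [71,73,69,81,1,93,93,88],
 [81,3,82,5,88,88],
 [65,72,65,74,1,5,87,92],
 [81,3,79,66,94,91,94],
 [3,64,72,65,71,91,74],
 [81,80,78,74,1,94,66],
 [69,74,76,73,1,91,78],
 [3,77,64,72,5,91,1,91],
 [3,3,80,77,2,91,87,5],
 [3,74,72,81,4,91,94,87],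
 [66,80,64,74,92,88,94],
 [67,78,78,5,87,4,88],
 [4,68,71,78,1,92,92,5],
 [69,71,3,65,5,3,5,91],
 [66,76,3,69,5,88,94,1],
 [3,69,77,69,5,91,81,5],
 [80,71,66,73,5,75],
 [74,64,79,75,1,88,92,94],
 [3,72,67,74,79,1,5,88,94],
 [3,74,69,71,75,2,5,93,87],
 [76,68,67,67,5,94,5],
 [3,69,71,76,64,2,88,4],
 [4,4,68,71,75,2,94,85],
 [66,75,75,67,1,5,88,93],
 [66,66,66,73,5,65,94,92],
 [71,82,68,71,5,75,5,87],
 [77,68,4,65,1,88],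
 [79,75,67,78,5,87,68,92],
 [3,73,71,64,76,5,92,3,91],
 [64,82,65,79,73,5,91,5],
 [4,75,3,78,1,87,3],
 [65,76,73,79,1,94,92,87],
 [65,77,72,64,1,92,5,87]]
 (apd [[3,79,81,68,80,5,65,93,88],
 [3,66,73,76,79,1,91,86],
 [71,78,74,82,5,64,88,5],
 [64,82,76,70,79,87,76],
 [76,82,2,92,92,93],
 [64,70,66,77,79,2,87,93,87],
 [3,77,72,80,66,2,5,65],
 [77,68,78,74,87,5,94],
 [65,4,77,69,88,2,65],
 [3,69,73,78,68,1,87,73],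
 [79,72,77,72,1,91,88,5],
 [67,70,75,67,72,5,74,94,88],
 [77,71,75,77,87,78],
 [4,70,66,76,67,5,87,81,87],
 [71,75,69,64,1,87,5,92],
 [3,82,65,75,65,2,88],
 [64,79,68,64,64,87,71],
 [67,70,77,3,94,66],
 [4,65,65,77,2,94,92,87],
 [3,68,79,75,1,88,5,92],
 [4,71,80,66,79,92,87,87],
 [66,64,64,66,2,91,86],
 [69,4,81,5,91,5,72],
 [3,77,73,67,68,87,91,94],
 [68,71,77,82,92,69],
 [4,74,68,78,5,81,5],
 [64,79,4,64,2,93,88],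
 [79,79,3,64,5,75,87],
 [76,79,77,67,5,4,5],
 [71,82,79,69,87,3,88],
 [71,64,74,77,5,73,91],
 [3,70,78,70,87,4,91],
 [3,73,68,81,87,85,93],
 [3,65,73,68,3,87,94,3],
 [64,76,70,74,72,1,5,92,3],
 [66,75,3,64,5,73,92],
 [3,73,3,70,82,2,87,87,69],
 [72,80,82,79,92,4,92],
 [3,81,77,76,66,87,92,67],
 [4,80,81,4,87,1,93]]
 (apd [[3,65,79,73,72,5,93,4],
 [3,64,66,80,69,87,94,68],
 [71,74,82,67,2,93,91],
 [75,72,75,64,87,3,87],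
 [78,70,67,69,5,85,93],
 [78,68,67,82,5,87,71],
 [3,71,78,71,82,1,91,87,69],
 [3,66,73,66,74,1,93,87],
 [72,74,3,3,1,5,93,78],
 [3,70,78,73,3,87,87,79],
 [73,76,76,78,91,86,92],
 [73,4,77,72,91,79,92],
 [3,67,68,65,79,87,87,85],
 [67,69,82,77,91,66,87],
 [66,69,79,65,91,87,82],
 [67,80,80,76,91,89,92],
 [80,4,74,81,91,5,3],
 [66,77,4,76,91,87],
 [65,72,81,4,5,94,74],
 [4,75,3,66,5,93,73],
 [66,77,3,77,5,93,64],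
 [68,81,77,77,5,86,94],
 [70,81,77,69,87,84,91],
 [73,69,78,75,88,67,87],
 [4,77,65,65,5,79,94],
 [69,74,71,3,5,87,1],
 [3,74,77,75,5,90,94],
 [3,78,71,65,75,1,94,94],
 [3,64,76,82,78,5,93,66],
 [74,70,3,79,91,5,77],
 [65,79,74,71,93,64,93],
 [74,81,72,75,5,83,88],
 [64,79,64,73,1,87,87,73],
 [3,77,67,76,65,87,71,94],
 [73,78,73,67,88,94,1],
 [73,66,76,78,1,5,94],
 [3,78,4,64,68,94,91,84],
 [4,68,79,81,1,87,84,91],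
 [76,70,72,66,2,87,5],
 [4,72,69,69,73,87,83,87]]
 (apd [[4,79,65,65,5,92],
 [73,71,81,66,91,84,91],
 [70,66,73,65,1,5,94,68],
 [68,81,64,64,87,78,94],
 [3,78,71,72,69,88,70,88],
 [66,76,76,76,88,2,91],
 [3,78,73,64,75,92,82,92],
 [4,69,74,79,66,5,88],
 [65,77,77,88,5,86],
 [72,76,67,87,5,90],
 [3,80,76,65,76,94,94,71],
 [4,77,79,71,5,79,92],
 [68,78,81,66,94,85,91],
 [74,79,77,73,87,67,87],
 [71,72,69,4,5,91,81],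
 [79,78,68,5,87,4],
 [3,78,72,80,67,91,75,87],
 [3,66,74,69,3,1,91,91,84],
 [67,75,71,77,87,5,73],
 [67,78,68,74,1,91,87],
 [67,4,70,65,5,75,93],
 [3,72,66,76,70,94,87],
 [3,66,77,65,71,88,91,77],
 [3,66,81,3,78,88,5,81],
 [64,78,75,3,5,88,85],
 [64,78,81,75,2,88,92],
 [3,70,77,70,74,5,82,5],
 [65,75,80,67,93,92,4],
 [4,75,82,3,65,1,92,93],
 [3,76,79,74,79,5,91,78],
 [76,82,80,70,1,5,91],
 [79,3,80,78,2,91,88],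
 [3,78,82,82,72,91,4,88],
 [74,82,78,4,87,65,93],
 [74,66,80,73,87,5,66],
 [66,71,76,74,72,5,89,5],
 [70,79,66,87,2,93],
 [80,82,76,5,87,67],
 [71,72,66,79,87,92,4],
 [66,66,82,3,88,94,85]]
 (apd [[3,81,64,76,76,1,93,91],
 [72,3,68,79,5,64,92],
 [64,66,77,73,87,91,74],
 [3,76,77,73,73,5,87,81],
 [75,78,72,67,5,92,4],
 [75,75,72,82,2,93,87],
 [74,75,70,69,2,91,91],
 [3,82,74,70,2,5,93,78],
 [71,65,79,87,2,94],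
 [4,68,75,71,93,92],
 [3,65,69,74,80,87,92,90],
 [3,78,3,69,77,2,91,5,3],
 [3,72,77,73,64,1,88,92],
 [66,74,67,68,88,75,87],
 [64,81,67,75,92,88,69],
 [80,76,82,77,2,92,93],
 [69,72,77,4,88,88,75],
 [78,69,78,69,5,88,4],
 [3,64,71,4,67,2,5,91],
 [64,80,75,80,1,91,88],
 [64,76,82,75,75,93,4,87],
 [66,72,76,72,88,5,73],
 [70,91,5,86],
 [79,78,69,65,87,1,91],
 [3,79,3,74,5,91,68],
 [3,66,69,73,69,5,82,87],
 [4,4,64,73,66,88,1,93],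
 [72,81,74,78,5,92,66],
 [3,72,77,72,93,92,73],
 [75,75,64,3,92,77,94],
 [66,80,66,82,1,88,94,1],
 [3,70,78,76,87,65,87],
 [4,81,71,64,69,5,92,75],
 [71,78,65,79,91,5,69],
 [3,64,80,74,74,1,92,88],
 [3,70,73,68,77,5,82,93],
 [4,76,73,5,91,71],
 [65,67,82,93,69,91],
 [73,78,3,72,5,65,94],
 [74,74,82,72,91,5,89]]
 (apd [[3,66,82,82,72,5,82,91],
 [79,74,67,70,91,5,74],
 [68,73,75,3,87,93,1],
 [79,73,70,74,94,87,84],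
 [74,4,82,80,88,2,92],
 [81,71,67,73,1,87,92],
 [3,72,77,69,74,93,91,82],
 [3,74,68,4,74,88,88,67],
 [3,73,72,68,87,91,75],
 [75,3,73,3,88,88],
 [70,70,4,88,69,88],
 [68,76,82,82,87,67,93],
 [4,68,68,80,5,91,1],
 [3,76,66,71,4,1,88,88],
 [4,4,78,4,65,5,88,78],
 [64,82,66,81,5,81,94],
 [74,67,74,67,93,93],
 [65,74,78,74,92,75,91],
 [69,75,69,80,87,78,93],
 [3,73,67,65,5,88,86],
 [3,71,79,76,79,5,91,65],
 [73,82,3,65,93,87,83],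
 [73,79,3,75,2,93,92],
 [65,68,79,4,92,78,5],
 [75,73,75,77,5,89,91],
 [74,69,70,4,93,87,3],
 [65,81,80,64,87,76,87],
 [69,77,67,2,94,87],
 [4,78,4,64,68,87,91,80],
 [65,4,78,68,5,92,82],
 [65,76,66,75,5,74,93],
 [67,68,65,68,5,92,74],
 [3,73,71,3,1,87,87,84],
 [71,66,77,76,87,80,94],
 [65,71,71,73,93,87,81],
 [79,76,80,72,93,91],
 [66,70,69,74,91,88,82],
 [3,82,71,71,88,76,93],
 [3,73,80,4,75,93,5,85],
 [3,3,69,82,71,5,93,83]]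
 (apd [[78,79,71,4,87,5,68],
 [68,77,69,66,88,2,5],
 [72,80,67,4,5,93,65],
 [72,81,3,66,87,73,93],
 [3,71,79,82,64,5,74,94],
 [3,68,64,3,74,5,91,2],
 [3,69,76,67,74,5,92,89],
 [72,3,75,75,5,87,74],
 [3,65,80,75,5,82,92],
 [71,73,70,3,2,94,82],
 [71,65,77,69,91,87,5],
 [3,81,74,3,5,87,66,92],
 [3,72,4,72,3,92,93,91],
 [65,65,68,72,1,88,94,92],
 [4,75,73,66,1,91,77],
 [3,70,67,77,68,2,87,94,5],
 [70,73,75,73,1,5,91,5],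
 [68,77,79,75,2,94,94,88],
 [68,65,76,73,2,5,82],
 [71,81,67,74,5,3,88,94],
 [67,81,69,71,88,5,92],
 [68,3,76,76,2,92,87,87],
 [74,80,73,70,5,3,90],
 [79,3,74,5,93,66,87],
 [66,64,81,80,91,71],
 [76,79,71,3,92,92,93],
 [66,76,68,87,93,87],
 [3,73,3,81,78,87,92,5],
 [66,81,70,73,1,1,87,73],
 [66,82,74,4,75,88,91,88],
 [4,72,73,77,1,5,88,5],
 [4,70,73,78,2,94,94,91],
 [3,3,74,4,71,1,88,92,93],
 [72,79,3,67,1,91,84],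
 [67,74,75,81,92,5,94],
 [3,69,76,65,80,93,87,94],
 [82,77,4,67,94,87,87],
 [3,67,65,71,64,2,92,87,94],
 [3,71,66,71,5,92,94],
 [3,82,3,75,80,88,92,87]]
 (apd [[82,74,75,75,5,91,93,77],
 [3,81,78,79,77,5,65,91,94],
 [4,73,66,64,69,87,4,64],
 [3,71,72,75,5,65,93,91],
 [3,78,69,80,4,1,88,92,87],
 [3,79,66,3,76,5,88,94],
 [76,72,76,74,5,88,65,88],
 [3,68,65,72,66,2,5,94,5],
 [74,77,77,69,1,91,65],
 [65,65,69,73,5,88,88,89],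
 [4,75,73,73,5,87,90,87],
 [67,78,79,77,88,1],
 [69,3,80,76,5,83,1],
 [3,71,68,72,81,2,91,77],
 [3,78,71,75,64,1,87,91,87],
 [4,80,71,4,74,5,88,82,92],
 [74,68,77,67,94,87,92],
 [69,69,3,68,87,65],
 [3,76,79,71,1,87,91,5],
 [4,80,4,66,5,88,93],
 [76,74,64,82,1,93,91,91],
 [4,71,4,65,5,3,94,5],
 [4,65,67,68,3,1,92,5,93],
 [74,79,76,4,1,88,94,87],
 [72,81,72,81,2,5,79],
 [71,64,82,69,92,3],
 [81,66,76,3,2,5,94,91],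
 [66,73,4,79,87,82],
 [3,3,68,71,4,1,88,91,93],
 [4,68,67,81,70,2,91,5,88],
 [65,81,73,82,5,65,91,93],
 [76,78,4,65,5,91,94,90],
 [82,70,78,79,2,92],
 [76,64,75,68,2,92,93,88],
 [76,66,73,87,91,5],
 [64,74,74,81,1,92,75],
 [76,72,81,80,93,91,88],
 [3,76,81,72,68,5,75,5,93],
 [72,82,64,66,5,91,5,78],
 [82,3,80,75,2,92,5,94]]
 (apd [[72,73,71,75,91,5,91],
 [67,70,74,88,91,5],
 [82,69,75,2,5,93,5],
 [3,82,64,69,3,1,91,76],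
 [3,3,72,68,1,87,5,87],
 [3,71,68,77,75,93,87,92],
 [4,77,71,4,5,87,92,89],
 [68,81,66,69,5,3,85],
 [65,68,68,66,74,2,93,91,87],
 [65,80,74,71,5,82,5,87],
 [69,67,65,4,2,5,91,93],
 [72,65,80,5,87,5,81],
 [3,66,74,72,64,92,5,92],
 [3,3,77,81,70,5,93,93],
 [72,81,74,5,88,92,65],
 [64,73,81,67,92],
 [74,3,3,72,92,93,88],
 [77,75,77,68,93,87,5],
 [3,64,74,74,79,2,87,87,93],
 [76,65,76,78,94,81],
 [64,70,78,66,88,92,93],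
 [70,80,64,71,93,91,5],
 [81,72,78,66,1,88,94,88],
 [71,68,4,77,5,75,88,88],
 [72,74,74,2,91,5,87],
 [4,80,76,65,76,5,4],
 [3,81,64,66,75,87,5,92,81],
 [66,68,75,1,94,92,88],
 [79,71,67,73,1,87,87,93],
 [71,68,75,82,91,5,94],
 [3,72,81,79,72,91,2],
 [3,64,70,74,76,91,5,87],
 [78,67,74,80,1,91,82],
 [3,74,68,66,77,93,4],
 [3,79,68,66,2,87,5,94],
 [64,82,66,71,5,88,79,92],
 [3,65,77,68,1,91,89],
 [74,76,4,74,1,1,87],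
 [77,65,68,75,92,87,91],
 [3,71,64,75,92,71]]
 (apd [[66,80,67,71,93],
 [3,64,79,77,82,5,91,5,67],
 [4,70,73,72,76,1,93,88,91],
 [4,64,80,3,75,1,91,74],
 [79,68,3,74,91,2,64],
 [73,68,67,81,2,93,66],
 [78,78,70,72,5,73,88,5],
 [4,72,76,70,76,1,93,92,88],
 [4,69,67,79,70,2,5,93,88],
 [64,80,82,69,5,79],
 [66,74,76,78,91,76],
 [71,78,79,72,1,91,4],
 [3,76,76,73,64,88,70],
 [64,81,69,2,87,73],
 [4,70,65,80,80,1,87,67],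
 [3,72,82,71,78,5,89,91,93],
 [75,82,79,88,94,5],
 [4,74,69,79,2,93,91,94],
 [67,65,69,75,88,93,88],
 [64,73,69,67,1,94,87,94],
 [68,72,67,4,5,3,87,93],
 [3,82,68,67,67,5,3,93,87],
 [3,3,81,77,69,1,94,94,91],
 [69,71,81,70,5,75,88,93],
 [68,72,69,4,93,3],
 [73,3,82,73,91,69],
 [4,67,81,3,68,2,87],
 [4,75,77,68,74,5,87,71,92],
 [71,65,78,65,5,88,4,87],
 [75,77,76,80,1,88,94,94],
 [3,65,72,69,74,2,5,91,5],
 [66,68,75,79,5,81,5,94],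
 [4,79,67,81,5,93,93,89],
 [3,68,77,67,72,1,87,5,93],
 [67,78,82,73,1,92,87,94],
 [68,66,80,5,91,91],
 [67,4,75,73,87,80],
 [66,69,65,65,74,91,65],
 [4,73,77,64,1,93,88,93],
 [3,67,81,76,3,5,87,92,3]]
 (apd [[66,75,70,79,1,92,92,93],
 [3,72,3,69,87,94,91],
 [67,78,72,67,5,91,71,91],
 [80,4,82,65,5,64,92,94],
 [3,74,82,79,73,2,88,92,87],
 [3,80,82,77,72,2,92,88,93],
 [79,65,82,5,93,87],
 [76,74,70,79,88,88,94],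
 [3,3,74,70,3,88,4],
 [76,74,64,82,93,91,91],
 [3,76,72,68,66,5,87,5,72],
 [68,78,74,72,88,67],
 [74,77,65,67,5,86,1],
 [3,69,81,78,5,73],
 [66,69,76,77,91,88,94],
 [64,82,82,79,92,5,93],
 [65,65,68,4,1,93,91,94],
 [3,68,68,80,82,94,85],
 [4,77,82,65,74,88,5,91],
 [70,81,68,78,1,91,91,88],
 [78,82,64,81,87,92,92],
 [3,78,66,75,74,5,87,3,87],
 [3,68,65,70,81,2,87,64],
 [65,70,3,81,1,88,92,88],
 [3,70,73,76,72,5,88,92,4],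
 [80,3,82,3,1,87],
 [68,80,72,82,1,92,93,88],
 [68,74,65,67,5,87,81,92],
 [4,67,82,4,5,91,67,87],
 [64,77,82,77,93,64],
 [3,66,71,73,67,5,81,94,91],
 [78,3,65,81,5,88,74,87],
 [69,74,72,64,2,5,87,5],
 [4,4,75,64,66,5,92,5,67],
 [3,66,82,79,71,1,88,93,92],
 [64,64,80,70,5,81,92,92],
 [79,67,71,79,91,88,93],
 [66,70,70,69,2,93],
 [4,4,64,75,1,87,94,91],
 [65,77,3,70,5,92,84,92]]
 (apd [[78,67,79,69,88,92,88],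
 [3,66,77,81,71,92,2],
 [73,70,82,72,2,92,88,94],
 [68,79,69,64,87,92,94],
 [3,75,68,67,5,91,87,78],
 [64,68,78,79,5,91,93],
 [71,75,67,68,5,93,72,87],
 [66,72,64,75,92,93,87],
 [3,73,73,72,66,93,91,93],
 [3,73,69,73,1,5,4],
 [72,3,68,81,5,75,88,92],
 [66,81,70,73,5,85,91,5],
 [64,74,70,75,2,87,87,91],
 [64,80,72,76,1,5,88,88],
 [81,77,80,69,1,91,93,91],
 [69,66,77,3,5,87,65,87],
 [68,74,77,81,2,91],
 [72,67,67,81,1,93,87,5],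
 [66,69,72,68,5,92,69,87],
 [4,68,75,70,78,5,91,2,87],
 [75,69,64,70,93,5,91],
 [3,82,70,76,79,5,86,88,94],
 [81,78,4,65,1,5,90],
 [67,82,76,4,91,2,77],
 [73,66,76,68,1,88,94,91],
 [3,71,79,72,1,5,91,93],
 [3,78,64,68,71,1,88,94,5],
 [69,80,71,76,1,88,88,94],
 [76,78,80,68,1,87,65],
 [3,72,82,66,3,1,87,85],
 [74,3,64,79,1,87,93,5],
 [79,78,4,76,91,82],
 [4,71,82,71,5,88,74,94],
 [78,74,68,66,5,91,87,86],
 [76,81,76,74,5,94,91],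
 [64,68,76,65,2,5,86],
 [3,78,71,3,5,74,93,93],
 [72,4,80,77,91,89],
 [74,82,71,78,2,5],
 [4,67,81,70,87,91,87]]
 (apd [[64,71,73,79,2,93,87,94],
 [76,80,3,68,1,5,91,87],
 [64,82,67,78,1,87,84],
 [3,73,75,81,5,74],
 [71,79,77,74,5,81,92,93],
 [64,71,77,76,5,88,94,70],
 [72,75,81,72,87,73],
 [69,70,3,71,1,87,68],
 [4,65,77,80,82,5,94,78,92],
 [71,78,76,92,92,88],
 [4,64,64,72,5,4,87,92],
 [76,80,82,70,91,93,91],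
 [80,72,82,4,91,4],
 [65,79,79,66,2,88,70],
 [66,82,79,69,2,91,91,91],
 [66,68,4,2,5,91,94],
 [69,65,70,69,91,88,5],
 [3,67,81,79,78,5,88,93,3],
 [74,81,78,68,1,92,4],
 [72,73,67,78,5,73,87,87],
 [64,78,82,79,67,2,93,87,5],
 [67,69,78,82,87,92,93],
 [72,66,78,72,92,75],
 [79,79,69,74,2,87,94,91],
 [4,81,71,77,66,5,83,94,5],
 [4,79,76,80,69,5,86,93,87],
 [65,72,79,82,1,91,67],
 [73,66,82,67,5,87,71,87],
 [64,78,70,76,5,86],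
 [79,76,79,65,2,87,85],
 [77,75,78,82,87,94,87],
 [67,81,74,80,2,87,93,5],
 [3,65,71,71,68,5,90],
 [80,81,80,76,5,73,87,94],
 [65,79,82,80,5,82,88,94],
 [3,76,65,74,71,5,83,88,88],
 [82,78,78,76,5,81,93,87],
 [4,64,78,65,69,91,79],
 [3,64,72,75,91],
 [77,75,65,73,1,5,91,91]]
 (apd [[3,67,69,70,65,2,93,93],
 [73,79,3,75,1,93,92],
 [78,72,78,92,92,83],
 [72,74,4,70,92,93],
 [72,74,65,73,2,94,94],
 [79,74,76,68,5,3,93],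
 [4,80,69,73,69,2,5,65,91],
 [65,71,80,80,87,5],
 [69,82,80,78,87,81,5],
 [70,64,77,73,88,91,71],
 [64,81,77,88,92,2],
 [66,68,77,71,5,92,84],
 [4,72,77,64,79,88,91,75],
 [66,77,69,77,5,94,71],
 [76,78,79,66,1,91,5,86],
 [67,76,79,69,5,88,90],
 [64,76,78,81,71,87,94,65],
 [71,75,65,65,92,5,85],
 [68,68,82,71,94,91,2],
 [4,79,74,65,5,90,91],
 [3,81,74,4,65,5,87,73],
 [70,3,76,70,88,93,1],
 [74,77,76,70,93,88,75],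
 [65,67,81,3,5,4,93],
 [3,74,4,73,79,2,88,93],
 [74,70,80,3,1,93,93],
 [68,72,4,69,2,94,5],
 [3,76,70,77,71,2,87,87],
 [65,77,68,78,5,87,85],
 [64,72,69,75,87,3,91],
 [68,82,68,73,5,93,67],
 [68,77,74,82,5,86,93],
 [4,68,3,79,91,84,93],
 [3,74,4,1,92,78,88],
 [70,82,80,65,5,92,71],
 [3,3,69,4,68,5,88,82],
 [4,66,68,70,72,5,93,72],
 [69,77,3,77,1,5,91,67],
 [64,81,76,81,92,2,87],
 [68,80,67,73,87,92,72]]
 (apd [[69,75,4,67,5,88,69],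
 [77,67,78,69,2,5,88],
 [3,73,66,77,81,91,71,91],
 [65,79,64,78,93,92,2],
 [3,77,65,80,67,88,5,74],
 [66,73,4,77,94,5,64],
 [66,70,75,80,87,91,65],
 [75,72,69,69,5,3,92],
 [70,78,71,64,1,5,87],
 [4,73,64,82,87,83,5],
 [75,75,81,77,87,80,5],
 [82,70,74,79,5,87,78],
 [67,81,67,76,2,5,93],
 [4,67,4,70,81,87,94,2],
 [65,75,81,68,87,94,81],
 [77,77,81,87,5,80],
 [70,76,74,70,1,5,88,85],
 [67,70,4,68,5,79,93],
 [65,70,79,67,5,94,77],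
 [3,76,78,76,64,87,93,67],
 [66,69,73,82,1,92,92],
 [70,70,75,75,5,88,77],
 [64,73,71,76,88,4,93],
 [69,66,3,71,87,93,73],
 [79,67,75,87,72,93],
 [4,64,75,81,77,87,5,74],
 [65,4,64,74,91,65,94],
 [70,81,74,4,5,64,88],
 [71,74,64,81,94,92,79],
 [81,66,64,81,5,94,78],
 [64,3,79,82,87,76,91],
 [76,79,74,77,87,68,91],
 [4,78,81,79,4,91,5,68],
 [69,82,1,88,93,3],
 [64,75,78,66,91,93,65],
 [65,68,81,78,92,88],
 [82,74,82,78,87,92,73],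
 [73,78,72,65,1,94,92],
 [73,81,3,73,5,74,87],
 [69,72,77,80,2,88,5]]
 (apd [[69,80,76,81,5,94],
 [4,80,64,79,88,93,81],
 [65,74,70,76,5,91,82],
 [74,77,66,78,93,64,87],
 [66,77,73,76,88,5,82],
 [4,72,76,77,79,5,4,92],
 [78,4,72,77,88,91,4],
 [3,76,68,79,73,5,86,88],
 [75,65,67,70,1,94,87],
 [68,66,73,82,87,72,91],
 [4,67,76,74,1,5,92],
 [3,82,68,67,67,5,92,85],
 [75,69,66,71,87,93,80],
 [3,75,73,73,81,88,93,3],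
 [64,81,80,72,5,94,68],
 [76,79,65,80,5,89,93],
 [77,72,67,74,5,92,64],
 [75,65,68,5,73,87],
 [72,3,70,78,87,94,83],
 [3,68,64,78,72,5,87,68],
 [81,80,3,81,91,94],
 [76,4,65,67,1,88,94],
 [3,76,71,64,64,5,85,94],
 [4,81,80,81,3,94,94,85],
 [3,68,4,66,75,93,4,91],
 [4,81,4,73,91,87,2],
 [74,66,64,82,2,88,91],
 [4,4,75,69,87,87,84],
 [79,81,80,78,91,75,5],
 [71,80,82,4,88,92,73],
 [76,70,81,65,91,4,93],
 [3,64,70,76,87,93,76],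
 [3,3,66,82,73,91,91,79],
 [76,4,79,73,92,93,72],
 [3,64,68,70,65,1,91,65,94],
 [3,71,79,65,74,87,83,88],
 [64,69,77,80,93,91,86],
 [4,76,64,3,88,93,64],
 [78,66,80,64,2,92,5],
 [68,77,70,76,5,65,93]]
 (apd [[64,69,79,64,93,82,91],
 [64,66,66,75,87,94,66],
 [4,67,82,78,4,5,91,85],
 [4,74,80,67,5,91,67],
 [68,80,69,82,5,88,74],
 [65,73,78,67,1,87,94,68],
 [76,81,75,3,5,81,88],
 [72,73,3,76,88,93],
 [66,75,72,67,5,88,3],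
 [3,73,69,67,74,5,93,80],
 [78,68,4,64,5,94,75],
 [73,82,76,76,1,1],
 [68,71,68,66,91,88,73],
 [69,75,81,75,87,85,94],
 [3,77,80,71,73,5,91,80],
 [68,79,4,78,87,92,83],
 [79,81,73,68,88,76,87],
 [74,64,81,75,92,92,89],
 [72,69,67,87,92],
 [75,82,69,79,2,91,5],
 [81,74,4,65,87,73,94],
 [69,4,78,78,1,5,93,80],
 [66,69,73,87,94,1],
 [68,68,4,73,5,94,81],
 [66,76,73,71,87,67,92],
 [69,77,79,4,93,5,69],
 [3,73,73,70,79,93,69,87],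
 [3,70,70,67,74,5,87,86],
 [3,75,72,67,1,5,93,76],
 [65,82,69,79,93,87,78],
 [78,82,79,73,1,92,87],
 [70,77,68,78,5,88,67],
 [65,77,69,75,5,64,87],
 [73,70,80,67,92,93,73],
 [66,64,82,82,93,5,64],
 [67,77,4,68,5,91,74],
 [66,74,79,75,91,87,69],
 [71,3,78,75,93,87],
 [70,65,67,65,91,91],
 [3,69,72,67,71,5,93,78]]
 (apd [[3,73,70,65,72,5,89,92],
 [3,67,78,67,70,5,73,5],
 [3,67,71,78,80,88,91],
 [74,75,80,78,5,87,90],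
 [3,68,78,76,67,1,87,92,85],
 [69,69,76,70,87,71,91],
 [71,72,81,68,92,71,91],
 [4,72,78,3,87,82,87],
 [4,65,76,72,87,87,69],
 [64,82,69,4,93,91,4],
 [66,76,67,78,1,87,3,88],
 [65,78,76,72,5,87,77],
 [69,71,3,75,91,88,71],
 [66,69,72,64,92,93,86],
 [3,71,78,71,5,90,87],
 [68,77,69,78,5,86,92],
 [3,75,3,73,70,88,88,89],
 [3,76,81,67,88,69,92],
 [3,70,70,79,3,92,93,90],
 [75,71,72,82,87,84,87],
 [67,69,69,72,88,91,76],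
 [79,70,70,75,1,5,88],
 [68,71,74,64,5,74,91],
 [73,3,74,87,72,92],
 [4,75,69,70,87,93,81],
 [70,76,74,76,1,91,79,94],
 [3,67,77,66,74,5,87,80],
 [73,75,80,67,5,93],
 [70,76,70,76,91,74,94],
 [3,66,74,77,70,88,93,69],
 [4,68,78,70,72,5,91,76],
 [66,77,72,79,2,5,87],
 [4,68,4,80,87,92,82],
 [79,71,3,80,1,5,93],
 [4,64,77,72,69,94,66,91],
 [3,72,76,74,88,92,76],
 [3,71,67,80,74,87,93,74],
 [4,70,69,73,66,94,92],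
 [3,73,4,80,3,2,92,92],
 [3,3,74,72,66,5,73,88]]
 (apd [[64,70,75,80,87,92,76],
 [69,82,3,68,1,87,93,68],
 [72,67,69,77,1,91,88,76],
 [3,65,81,70,64,92,88,83],
 [67,68,74,66,87,94],
 [66,80,64,3,2,92,88],
 [65,76,78,64,5,89,88],
 [3,64,77,65,82,2,5,88,86],
 [71,77,81,78,1,87,87],
 [4,65,71,4,78,1,91,4,88],
 [79,3,73,72,1,5,92,75],
 [66,3,80,88,93,66],
 [4,4,78,76,64,1,88,5],
 [65,77,71,3,88,69,93],
 [69,77,82,1,94,92,70],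
 [68,74,68,73,1,87,5],
 [75,74,77,67,5,93,76],
 [64,73,64,74,66,93,5,66],
 [82,77,76,82,92,5],
 [64,77,80,64,87,70,87],
 [68,71,68,76,93,69,88],
 [3,73,73,66,82,5,93,85],
 [65,4,67,74,66,5,3,87],
 [75,66,73,76,91,78,93],
 [70,66,3,67,88,88,86],
 [72,82,70,72,87,91,89],
 [4,69,74,66,87,4,88],
 [4,64,75,78,67,87,5,81],
 [4,68,75,66,77,5,87],
 [3,73,75,77,4,94,92,70],
 [3,64,68,4,73,87,68,92],
 [64,70,70,81,91,79,94],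
 [66,72,80,69,70,2,87,94],
 [4,64,81,64,68,88,92],
 [3,81,74,81,88,93,79],
 [71,75,75,71,5,74,92],
 [4,79,67,70,5,94,90],
 [66,82,67,77,1,5,4,94],
 [4,78,64,73,76,2],
 [66,3,80,81,5,85,5]]
 (apd [[73,72,5,87,66],
 [67,74,71,82,93,87,76],
 [74,72,67,75,88,80,5],
 [65,4,71,79,5,93,84],
 [73,77,3,71,5,92,81],
 [68,67,72,73,91,86,87],
 [82,72,77,77,5,91,3],
 [64,78,73,65,5,93,1],
 [3,71,74,66,80,5,91,79],
 [66,78,71,67,76,1,87,94],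
 [67,76,76,81,5,4,94],
 [3,77,69,74,78,88,88,80],
 [75,74,64,3,1,92,88,83],
 [64,82,67,72,5,81,93],
 [3,3,70,67,69,5,4,87],
 [77,80,77,70,5,3,94],
 [67,79,69,67,5,94,69],
 [71,68,72,78,88,94,90],
 [64,75,78,66,1,92,5],
 [4,64,81,67,70,87,72,87],
 [3,76,66,75,67,5,91,83],
 [4,67,81,77,5,75,5],
 [77,67,70,77,5,94,3],
 [4,72,78,4,66,5,4,94,82],
 [3,74,72,82,77,93,92,71],
 [3,66,69,66,71,92,69,93],
 [67,71,81,66,91,5],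
 [3,67,72,77,65,1,88,93],
 [76,76,80,64,1,94,5],
 [73,79,64,68,88,92,80],
 [67,79,73,69,5,87,65],
 [67,73,75,65,87,93],
 [76,73,4,70,5,81,87],
 [4,73,70,3,5,75,92],
 [79,65,73,76,87,94,64],
 [80,74,69,4,87,87,71],
 [79,3,82,72,87,64,93],
 [65,79,3,3,87,92,85],
 [4,74,75,80,87,87,1],
 [78,68,81,3,88,80,92]]
 (apd [[3,69,80,75,67,87,64,91],
 [64,78,64,79,92,77,87],
 [3,66,66,69,74,1,91,88,73],
 [65,4,73,81,5,86,91],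
 [79,65,4,79,5,90,5],
 [3,67,78,75,5,88,79],
 [3,81,72,77,77,87,87,73],
 [71,78,69,69,88,5,80],
 [73,68,77,66,5,94,70],
 [77,77,73,73,5,3,88],
 [82,79,76,81,91,93,89],
 [65,81,69,72,5,92,69],
 [76,69,70,69,87,93,66],
 [81,74,67,72,87,70,93],
 [71,72,78,75,5,81,92],
 [82,64,68,91,89,88],
 [78,78,66,69,5,83,94],
 [64,81,79,65,5,91,87],
 [82,67,71,80,87,67],
 [3,74,66,3,1,87,92,92],
 [65,80,76,64,5,3,92,94],
 [76,69,73,64,94,94,91],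
 [77,70,73,82,1,92,5,94],
 [74,77,67,70,5,82],
 [64,78,3,72,93,93,87],
 [75,71,3,70,5,73,5,94],
 [65,71,4,4,1,92],
 [67,72,4,69,93,93,92],
 [3,69,65,78,75,5,88,86,93],
 [75,68,78,78,1,91,5,91],
 [75,64,75,74,88,94,94],
 [64,69,72,78,75,1,88,5,91],
 [3,64,68,4,65,2,93,4],
 [4,80,3,71,3,1,93,4],
 [66,80,75,77,2,5,94,88],
 [4,76,76,82,67,5,89,93,5],
 [74,67,78,65,5,82,93,5],
 [68,70,76,69,5,81,94,92],
 [66,66,71,67,5,3,87,87],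
 [79,65,78,66,92,92,5]]
 (apd [[67,77,68,75,91,67],
 [71,76,80,74,5,3,94,88],
 [72,75,73,70,87],
 [73,64,88,91,93],
 [3,66,72,80,3,2,87,94,87],
 [3,74,72,69,5,93,69,91],
 [69,73,71,66,5,88,88,68],
 [64,73,68,5],
 [3,72,74,64,66,5,88,90,88],
 [3,67,67,77,4,5,87,5],
 [72,78,72,77,2,87,80],
 [3,67,73,3,70,92,2,70],
 [77,72,3,71,2,87,92,93],
 [65,69,79,72,5,85,93,87],
 [4,79,70,80,91,94,92],
 [4,80,78,82,5,81,88,91],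
 [65,69,64,75,1,92,93,93],
 [3,70,72,67,74,2,94,69],
 [3,75,66,76,88,80],
 [69,74,68,78,1,91,3],
 [79,70,82,65,5,89],
 [3,72,81,68,67,87,4],
 [75,71,75,77,5,87,5,71],
 [76,3,82,4,2,91,5,94],
 [81,64,72,64,92,88,88],
 [75,4,4,73,87,94,5],
 [4,69,65,65,1,88,91,88],
 [66,75,69,78,5,4,87,93],
 [4,70,73,75,67,5,3,87,92],
 [3,64,76,71,77,87,68],
 [3,73,66,64,79,91,77],
 [64,75,79,69,1,92,88,88],
 [3,64,76,68,5,88,5,79],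
 [68,65,81,69,5,3,88,92],
 [79,68,2,92,93,87],
 [81,64,82,78,2,94,91,94],
 [80,76,78,1,91,93,87],
 [76,4,79,73,1,91,91,91],
 [64,79,4,67,2,87,78],
 [81,73,76,76,1,93,93,87]]
 (apd [[3,74,64,76,69,5,94,88],
 [3,3,64,77,71,88,88,91],
 [72,4,77,3,5,92,88,77],
 [67,69,80,65,1,87,91,94],
 [75,67,68,5,92,84,87],
 [66,78,4,64,88,92,94],
 [64,79,72,74,93,92,88],
 [66,76,71,65,5,4,4],
 [76,72,74,75,93,91,94],
 [80,64,74,81,5,3,92,87],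
 [64,81,77,3,5,91,76,92],
 [3,82,74,68,73,1,93,5,91],
 [68,79,64,74,5,4,5,94],
 [66,77,64,73,1,87,82],
 [82,3,79,67,5,75,87,5],
 [71,72,64,74,2,92,5,92],
 [3,66,78,65,78,5,64,87,94],
 [3,77,76,74,5,87,5,79],
 [64,80,82,80,94,82],
 [64,70,73,79,1,92,93,91],
 [64,72,3,78,1,87,87,87],
 [78,73,76,81,5,88,92,64],
 [79,81,80,65,5,93,74,94],
 [3,70,73,80,72,2,88,67],
 [3,76,73,81,67,1,88,70],
 [72,73,69,72,94,92,88],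
 [66,78,66,69,5,74,93,91],
 [78,65,72,65,87,87,93],
 [66,69,79,67,1,93,91,5],
 [75,82,73,65,1,5,93,87],
 [64,74,76,1,87,92,93],
 [82,80,65,76,2,93,91,5],
 [4,74,69,64,75,88,94,88],
 [4,74,4,68,77,5,65,87,94],
 [78,73,73,69,93,91,87],
 [75,73,68,82,2,94,94,5],
 [78,79,70,69,93,88,91],
 [3,70,76,80,73,88,88,93],
 [3,80,78,4,78,88,5,88],
 [70,67,82,76,2,91,3]]
 (apd [[3,67,76,70,64,1,93,87,94],
 [79,76,81,69,2,5,91,87],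
 [3,70,79,4,2,5,92,94],
 [71,67,4,66,5,91,5,82],
 [71,72,74,2,87,92,92],
 [79,70,66,71,1,1,93],
 [3,72,65,65,75,5,88,92,89],
 [73,80,77,3,92,78],
 [79,67,4,76,2,93,87,92],
 [68,72,64,64,1,87,94,5],
 [4,81,78,67,72,5,64,5,88],
 [74,70,67,79,5,65,93,87],
 [82,64,75,88,94,91],
 [65,72,80,70,1,88,88,91],
 [3,75,66,81,70,5,88,88,78],
 [75,70,82,65,87,92,94,77],
 [68,71,76,74,94,91,87],
 [69,78,74,64,2,88,91,94],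
 [65,80,80,76,5,89,91,5],
 [78,64,80,81,1,91,79],
 [82,74,75,66,2,87,68],
 [72,73,76,79,5,3,93,88],
 [77,72,82,72,2,91,94,87],
 [81,76,73,71,1,94,87,92],
 [3,65,69,79,64,5,88,4,91],
 [3,81,81,79,1,92,87,91],
 [64,80,81,4,74,1,92,71],
 [3,67,80,80,3,93,88,93],
 [69,70,79,75,1,5],
 [3,66,82,68,78,87,85],
 [4,4,72,64,72,5,83],
 [77,67,67,75,1,1,91],
 [75,66,75,80,2,5,91,91],
 [69,80,70,75,5,82,5,92],
 [75,3,81,4,1,5,83],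
 [71,77,65,82,94,92,87],
 [80,65,78,75,88,69],
 [4,68,81,64,5,93,5],
 [66,68,72,77,5,82,87,94],
 [68,3,76,76,1,92,87,87]]
 (apd [[65,70,73,4,72,1,94,69],
 [3,65,80,3,5,3,80],
 [76,76,81,64,2,94,87,87],
 [74,70,75,79,5,93,5,72],
 [79,4,67,80,91,91,88],
 [68,82,76,74,87,70],
 [3,66,77,80,87,5,92],
 [76,67,74,72,92,88,93],
 [4,72,65,78,67,88],
 [69,64,77,74,5,88,93,76],
 [66,70,72,80,5,64],
 [3,70,70,67,75,5,3,93,5],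
 [72,65,78,65,1,88,91,5],
 [68,79,69,1,88,2],
 [69,67,65,1,91,94,92],
 [68,67,80,1,92,93,87],
 [65,79,4,71,87,83],
 [74,75,75,74,1,92,3],
 [71,67,74,81,87,87,87],
 [3,81,3,69,70,5,87,79,88],
 [4,71,4,64,66,5,73,92,92],
 [72,74,71,3,5,87,81,5],
 [75,68,4,67,5,74,87,5],
 [4,64,80,71,5,74,91,5],
 [3,68,64,81,77,5,65,5,92],
 [66,75,79,68,5,92,3,92],
 [3,65,81,68,71,2,88,91,88],
 [76,70,81,70,5,74,91,94],
 [78,74,75,66,2,92,88,88],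
 [3,71,4,68,74,2,91,88,5],
 [4,4,68,71,68,1,94,91,94],
 [82,65,4,70,1,93,5,87],
 [3,79,74,77,68,2,88,91,5],
 [81,76,4,66,1,87,93,87],
 [78,80,68,79,93,93,88],
 [3,64,75,71,73,91,75],
 [4,65,67,82,69,5,88,5],
 [81,74,68,4,1,92,78],
 [4,68,4,79,2,87,82],
 [4,79,73,67,81,1,87,2]]
 (apd [[72,64,3,75,5,81,93,88],
 [77,66,64,72,1,93,93,92],
 [74,78,81,67,92,5,87],
 [73,69,3,72,2,94],
 [65,65,79,91,94,94],
 [4,67,76,81,4,1,91,5,88],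
 [78,4,82,69,5,87,92],
 [3,76,69,69,5,74,87,92],
 [79,73,77,79,5,87,78,87],
 [4,69,66,78,75,1,5,93,93],
 [64,66,71,74,5,82,92,92],
 [76,69,77,66,5,3,92,92],
 [75,79,82,79,87,93,5],
 [78,69,73,69,91,91,91],
 [68,64,78,4,94,94,88],
 [69,66,70,70,92,4],
 [75,65,78,69,5,4,93,91],
 [4,82,76,72,1,1,88],
 [70,67,65,68,91,93,87],
 [76,72,4,76,91,86],
 [76,4,74,70,88,2],
 [68,74,77,81,1,91],
 [80,81,80,4,1,92,69],
 [71,4,64,74,5,91,93,83],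
 [70,65,74,4,1,88,91,94],
 [3,66,78,72,2,93,91,91],
 [64,73,73,76,1,88,5,94],
 [3,70,65,70,3,2,92,92,88],
 [3,69,75,75,74,5,87,67,93],
 [77,64,73,80,94,1],
 [3,70,66,71,3,94,87,94],
 [75,77,77,68,5,92,87],
 [4,78,71,3,68,93,5,87],
 [80,81,73,87,94,77],
 [64,68,71,74,69,88,93,73],
 [71,68,75,82,2,88,88],
 [78,75,64,72,5,94,80],
 [3,71,66,74,68,91,3,5],
 [78,3,65,72,91,89,5],
 [68,3,80,5,89,94]]
 (apd [[3,65,77,3,75,2,5,92],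
 [68,77,72,78,87,87,70],
 [81,77,82,5,92,1],
 [76,79,3,75,5,92,2],
 [65,75,69,66,87,91,82],
 [3,3,68,77,80,5,3,5],
 [3,64,81,69,73,87,4,87],
 [4,65,75,77,1],
 [82,70,72,82,94,87,64],
 [3,3,69,75,68,91,79,87],
 [3,71,3,79,74,5,65,87],
 [70,4,74,78,1,91,4,91],
 [3,77,64,68,74,88,70,93],
 [81,81,73,1,87,93],
 [80,77,4,68,1,1,88,94],
 [4,77,71,72,65,2,92,87],
 [74,72,66,75,2,87,92],
 [77,67,74,76,91,88,76],
 [74,78,71,77,87,82,92],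
 [73,4,67,78,92,87],
 [3,80,77,71,79,87,71,88],
 [67,4,67,74,5,93,68],
 [66,68,76,82,88,94,76],
 [3,68,68,74,79,87,92,69],
 [67,75,73,81,2,87,93],
 [75,81,66,5,79,5],
 [72,66,77,76,92,87,77],
 [3,70,64,73,77,5,94,64],
 [77,71,68,73,5,86,5],
 [64,69,81,66,2,88,94],
 [3,64,69,78,74,88,5,83],
 [4,72,67,68,87,94,79],
 [69,64,73,70,87,87],
 [3,79,76,68,66,88,91,1],
 [3,78,65,4,5,91,70],
 [77,66,78,82,87,67,91],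
 [79,76,70,66,91,75,94],
 [69,3,78,72,94,94],
 [64,69,77,70,70,88,75,93],
 [3,64,81,78,73,1,88,91]]
 [[64,80,77,3,77,88,92,71],
 [70,75,77,64,87,93,68],
 [3,81,3,80,3,5,85,87],
 [68,78,79,74,91,88],
 [3,69,74,70,70,5,91,75],
 [66,81,65,73,92,92,70],
 [3,82,79,5,94,72],
 [70,72,66,82,88,94],
 [3,66,68,65,1,88,94,85],
 [66,68,4,67,1,93,88],
 [3,79,74,67,87,68,87],
 [4,74,69,73,87,64,87],
 [78,74,4,79,92,75,93],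
 [3,3,72,77,3,1,88,5,81],
 [4,68,73,3,5,73,93],
 [4,71,81,4,5,91],
 [73,4,4,76,87,5,78],
 [74,80,80,73,5,64,5],
 [76,4,78,4,88,93,70],
 [78,76,70,76,92,92],
 [78,69,81,73,91,87,68],
 [64,3,82,73,2,5,87,78],
 [69,65,75,78,87,5,75],
 [77,66,80,4,2,94,92],
 [82,76,66,82,5,65,5],
 [3,67,75,4,74,5,87,75],
 [64,71,73,87,3,92],
 [68,65,70,69,91,78,5],
 [64,80,82,65,5,91,72],
 [4,65,67,94,5],
 [72,69,80,92,78,88],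
 [73,67,77,76,1,93,91,4],
 [3,79,76,68,66,88,91,2],
 [74,69,74,4,87,2,91],
 [64,81,67,82,77,5,74,93,92],
 [82,79,66,1,91,68],
 [69,78,72,77,91,3],
 [78,69,70,82,88,92,5],
 [4,70,67,77,65,1,94],
 [3,78,3,80,92,93,93]]))))))))))))))))))))))))))))))),(apd [[(1,[]),
 (2,[])],
 [(3,[]),
 (4,[])],
 [(5,[]),
 (6,[])],
 [(7,[]),
 (8,[])],
 [(9,[]),
 (10,[])],
 [(11,[]),
 (12,[])],
 [(13,[]),
 (14,[])],
 [(15,[]),
 (16,[])],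
 [(17,[]),
 (18,[])],
 [(19,[]),
 (20,[])],
 [(16,[0,1,1]),
 (21,[])],
 [(22,[]),
 (23,[])],
 [(24,[]),
 (25,[])],
 [(26,[]),
 (27,[])],
 [(28,[]),
 (29,[])],
 [(30,[]),
 (31,[])],
 [(32,[]),
 (33,[])],
 [(34,[]),
 (35,[])],
 [(36,[]),
 (37,[])],
 [(38,[]),
 (39,[])],
 [(40,[]),
 (41,[])],
 [(42,[]),
 (43,[])],
 [(44,[]),
 (45,[])],
 [(46,[]),
 (47,[])],
 [(48,[]),
 (49,[])],
 [(50,[]),
 (51,[])],
 [(52,[]),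
 (53,[])],
 [(54,[]),
 (55,[])],
 [(56,[]),
 (57,[])],
 [(58,[]),
 (59,[])],
 [(6,[1,0,1,1,0]),
 (60,[])],
 [(61,[]),
 (62,[])],
 [(63,[]),
 (64,[])],
 [(65,[]),
 (66,[])],
 [(67,[]),
 (68,[])],
 [(69,[]),
 (70,[])],
 [(71,[]),
 (72,[])],
 [(73,[]),
 (74,[])],
 [(75,[]),
 (76,[])],
 [(77,[]),
 (78,[])]]
 (apd [[(79,[]),
 (80,[])],
 [(81,[]),
 (82,[])],
 [(83,[]),
 (84,[])],
 [(85,[]),
 (86,[])],
 [(87,[]),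
 (88,[])],
 [(89,[]),
 (90,[])],
 [(91,[]),
 (92,[])],
 [(93,[]),
 (94,[])],
 [(95,[]),
 (96,[])],
 [(97,[]),
 (98,[])],
 [(99,[]),
 (100,[])],
 [(88,[0,1,0,1,1]),
 (101,[])],
 [(102,[]),
 (103,[])],
 [(104,[]),
 (105,[])],
 [(106,[]),
 (107,[])],
 [(108,[]),
 (109,[])],
 [(110,[]),
 (111,[])],
 [(112,[]),
 (113,[])],
 [(114,[]),
 (115,[])],
 [(116,[]),
 (117,[])],
 [(118,[]),
 (119,[])],
 [(120,[]),
 (121,[])],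
 [(122,[]),
 (123,[])],
 [(124,[]),
 (125,[])],
 [(126,[]),
 (127,[])],
 [(128,[]),
 (129,[])],
 [(130,[]),
 (131,[])],
 [(132,[]),
 (133,[])],
 [(134,[]),
 (135,[])],
 [(136,[]),
 (137,[])],
 [(138,[]),
 (139,[])],
 [(140,[]),
 (141,[])],
 [(142,[]),
 (143,[])],
 [(144,[]),
 (145,[])],
 [(59,[0,1,0,1,0]),
 (146,[])],
 [(147,[]),
 (148,[])],
 [(149,[]),
 (150,[])],
 [(53,[0,1,0,1,1,0,1]),
 (151,[])],
 [(145,[0]),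
 (152,[])],
 [(153,[]),
 (154,[])]]
 (apd [[(155,[]),
 (156,[])],
 [(157,[]),
 (120,[1,0,1,1])],
 [(158,[]),
 (159,[])],
 [(160,[]),
 (161,[])],
 [(162,[]),
 (163,[])],
 [(161,[0,1,1,0]),
 (164,[])],
 [(165,[]),
 (166,[])],
 [(167,[]),
 (168,[])],
 [(169,[]),
 (170,[])],
 [(171,[]),
 (172,[])],
 [(173,[]),
 (174,[])],
 [(119,[0,1,1,0,1]),
 (175,[])],
 [(176,[]),
 (177,[])],
 [(175,[0,1,1,0,1]),
 (178,[])],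
 [(179,[]),
 (180,[])],
 [(181,[]),
 (182,[])],
 [(183,[]),
 (184,[])],
 [(185,[]),
 (186,[])],
 [(187,[]),
 (188,[])],
 [(189,[]),
 (190,[])],
 [(191,[]),
 (192,[])],
 [(193,[]),
 (194,[])],
 [(195,[]),
 (196,[])],
 [(182,[0,1,1,0]),
 (197,[])],
 [(198,[]),
 (199,[])],
 [(200,[]),
 (201,[])],
 [(202,[]),
 (203,[])],
 [(204,[]),
 (205,[])],
 [(206,[]),
 (207,[])],
 [(208,[]),
 (209,[])],
 [(210,[]),
 (211,[])],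
 [(212,[]),
 (213,[])],
 [(214,[]),
 (215,[])],
 [(216,[]),
 (217,[])],
 [(218,[]),
 (219,[])],
 [(220,[]),
 (221,[])],
 [(221,[1,1,0]),
 (222,[])],
 [(223,[]),
 (224,[])],
 [(225,[]),
 (226,[])],
 [(227,[]),
 (228,[])]]
 (apd [[(229,[]),
 (230,[])],
 [(231,[]),
 (232,[])],
 [(233,[]),
 (234,[])],
 [(27,[0,1,0,1,1]),
 (235,[])],
 [(236,[]),
 (237,[])],
 [(238,[]),
 (112,[0,1,1])],
 [(239,[]),
 (240,[])],
 [(25,[0,1,0,1]),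
 (241,[])],
 [(242,[]),
 (243,[])],
 [(244,[]),
 (245,[])],
 [(246,[]),
 (247,[])],
 [(101,[0,1,0,1,1,0,1]),
 (248,[])],
 [(249,[]),
 (250,[])],
 [(251,[]),
 (252,[])],
 [(253,[]),
 (254,[])],
 [(255,[]),
 (256,[])],
 [(257,[]),
 (258,[])],
 [(259,[]),
 (260,[])],
 [(252,[0,1,0]),
 (261,[])],
 [(262,[]),
 (263,[])],
 [(240,[0,1,0,1,0]),
 (264,[])],
 [(265,[]),
 (266,[])],
 [(267,[]),
 (268,[])],
 [(269,[]),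
 (270,[])],
 [(271,[]),
 (233,[1,1])],
 [(272,[]),
 (273,[])],
 [(274,[]),
 (275,[])],
 [(276,[]),
 (91,[1,0,1,1,0])],
 [(277,[]),
 (278,[])],
 [(279,[]),
 (280,[])],
 [(281,[]),
 (282,[])],
 [(283,[]),
 (284,[])],
 [(285,[]),
 (286,[])],
 [(287,[]),
 (288,[])],
 [(289,[]),
 (290,[])],
 [(282,[0,1,0,1,0]),
 (291,[])],
 [(292,[]),
 (293,[])],
 [(294,[]),
 (295,[])],
 [(296,[]),
 (297,[])],
 [(298,[]),
 (299,[])]]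
 (apd [[(300,[]),
 (251,[0,1,1,0])],
 [(301,[]),
 (302,[])],
 [(303,[]),
 (304,[])],
 [(305,[]),
 (306,[])],
 [(307,[]),
 (308,[])],
 [(309,[]),
 (75,[1,0,1])],
 [(310,[]),
 (311,[])],
 [(312,[]),
 (313,[])],
 [(314,[]),
 (315,[])],
 [(316,[]),
 (317,[])],
 [(318,[]),
 (319,[])],
 [(320,[]),
 (321,[])],
 [(322,[]),
 (323,[])],
 [(324,[]),
 (325,[])],
 [(326,[]),
 (327,[])],
 [(328,[]),
 (329,[])],
 [(330,[]),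
 (331,[])],
 [(332,[]),
 (333,[])],
 [(334,[]),
 (335,[])],
 [(336,[]),
 (337,[])],
 [(338,[]),
 (339,[])],
 [(340,[]),
 (341,[])],
 [(342,[]),
 (343,[])],
 [(250,[1,1,0,1]),
 (344,[])],
 [(337,[0,1,0,1,1,0]),
 (277,[1,0])],
 [(345,[]),
 (346,[])],
 [(347,[]),
 (348,[])],
 [(349,[]),
 (350,[])],
 [(331,[1,1,0]),
 (351,[])],
 [(352,[]),
 (353,[])],
 [(354,[]),
 (355,[])],
 [(356,[]),
 (301,[1,0,1])],
 [(357,[]),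
 (358,[])],
 [(359,[]),
 (360,[])],
 [(361,[]),
 (362,[])],
 [(363,[]),
 (364,[])],
 [(365,[]),
 (366,[])],
 [(367,[]),
 (336,[0,1,0,1,0])],
 [(111,[0,1,1]),
 (310,[0,1,1,0,1])],
 [(368,[]),
 (369,[])]]
 (apd [[(295,[1,0,1,1,0,1]),
 (370,[])],
 [(371,[]),
 (372,[])],
 [(373,[]),
 (374,[])],
 [(284,[]),
 (26,[0,1])],
 [(375,[]),
 (376,[])],
 [(341,[1,0,1,0]),
 (377,[])],
 [(378,[]),
 (379,[])],
 [(380,[]),
 (381,[])],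
 [(382,[]),
 (383,[])],
 [(360,[0,1,1,0]),
 (384,[])],
 [(115,[1,1,0,1,0]),
 (385,[])],
 [(386,[]),
 (387,[])],
 [(293,[0,1,1]),
 (388,[])],
 [(389,[]),
 (390,[])],
 [(391,[]),
 (392,[])],
 [(393,[]),
 (394,[])],
 [(395,[]),
 (396,[])],
 [(397,[]),
 (398,[])],
 [(399,[]),
 (338,[0,1,1,0,1])],
 [(400,[]),
 (401,[])],
 [(402,[]),
 (403,[])],
 [(404,[]),
 (405,[])],
 [(406,[]),
 (375,[0,1])],
 [(60,[0,1,1]),
 (407,[])],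
 [(408,[]),
 (0,[])],
 [(43,[0,1,0,1,0]),
 (409,[])],
 [(410,[]),
 (411,[])],
 [(409,[1,1,0,1,0]),
 (412,[])],
 [(413,[]),
 (414,[])],
 [(415,[]),
 (416,[])],
 [(417,[]),
 (418,[])],
 [(419,[]),
 (420,[])],
 [(421,[]),
 (422,[])],
 [(423,[]),
 (424,[])],
 [(425,[]),
 (426,[])],
 [(427,[]),
 (428,[])],
 [(429,[]),
 (430,[])],
 [(416,[1,1]),
 (431,[])],
 [(432,[]),
 (433,[])],
 [(434,[]),
 (435,[])]]
 (apd [[(436,[]),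
 (437,[])],
 [(188,[0,1]),
 (438,[])],
 [(439,[]),
 (204,[0,1,0,1,1,0,1])],
 [(440,[]),
 (441,[])],
 [(141,[0,1,1,0]),
 (442,[])],
 [(443,[]),
 (444,[])],
 [(445,[]),
 (446,[])],
 [(447,[]),
 (448,[])],
 [(449,[]),
 (450,[])],
 [(426,[0,1,0,1,0]),
 (451,[])],
 [(10,[1,1]),
 (452,[])],
 [(139,[1,0,1,0]),
 (453,[])],
 [(454,[]),
 (455,[])],
 [(456,[]),
 (457,[])],
 [(458,[]),
 (440,[0,1,1])],
 [(459,[]),
 (460,[])],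
 [(461,[]),
 (462,[])],
 [(463,[]),
 (464,[])],
 [(412,[0,1,0]),
 (465,[])],
 [(466,[]),
 (467,[])],
 [(151,[1,1,0]),
 (468,[])],
 [(469,[]),
 (470,[])],
 [(471,[]),
 (472,[])],
 [(473,[]),
 (474,[])],
 [(475,[]),
 (476,[])],
 [(477,[]),
 (52,[1,0,1,0])],
 [(45,[0,1,1,0]),
 (478,[])],
 [(450,[1,0]),
 (479,[])],
 [(197,[1,1]),
 (480,[])],
 [(481,[]),
 (482,[])],
 [(483,[]),
 (484,[])],
 [(485,[]),
 (486,[])],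
 [(487,[]),
 (488,[])],
 [(441,[0,1,0,1,0]),
 (489,[])],
 [(490,[]),
 (491,[])],
 [(486,[1,1]),
 (492,[])],
 [(493,[]),
 (494,[])],
 [(152,[1,0,1,0]),
 (495,[])],
 [(496,[]),
 (458,[0])],
 [(497,[]),
 (214,[1,1,0,1])]]
 (apd [[(164,[1,0,1,1,0,1]),
 (498,[])],
 [(499,[]),
 (500,[])],
 [(501,[]),
 (502,[])],
 [(201,[0,1,1,0,1]),
 (503,[])],
 [(504,[]),
 (505,[])],
 [(506,[]),
 (507,[])],
 [(178,[0,1,0,1,1,0]),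
 (508,[])],
 [(494,[1,0,1,1,0,1]),
 (509,[])],
 [(510,[]),
 (511,[])],
 [(512,[]),
 (513,[])],
 [(514,[]),
 (515,[])],
 [(516,[]),
 (459,[0,1,0])],
 [(180,[1,0]),
 (517,[])],
 [(518,[]),
 (519,[])],
 [(520,[]),
 (521,[])],
 [(146,[0,1,0,1,1,0]),
 (522,[])],
 [(523,[]),
 (524,[])],
 [(525,[]),
 (526,[])],
 [(184,[1,1,0]),
 (527,[])],
 [(528,[]),
 (529,[])],
 [(530,[]),
 (142,[0])],
 [(531,[]),
 (532,[])],
 [(533,[]),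
 (534,[])],
 [(190,[1,1]),
 (449,[1,0,1,1,0,1])],
 [(535,[]),
 (536,[])],
 [(537,[]),
 (516,[1,0,1,1,0])],
 [(538,[]),
 (539,[])],
 [(540,[]),
 (541,[])],
 [(542,[]),
 (543,[])],
 [(544,[]),
 (545,[])],
 [(546,[]),
 (473,[0,1,1,0])],
 [(547,[]),
 (1,[])],
 [(548,[]),
 (549,[])],
 [(550,[]),
 (542,[1,1,0])],
 [(156,[1,0,1,0]),
 (544,[0,1,1,0,1])],
 [(507,[0,1,0]),
 (193,[0,1,0,1,1,0,1])],
 [(551,[]),
 (552,[])],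
 [(553,[]),
 (554,[])],
 [(555,[]),
 (556,[])],
 [(557,[]),
 (558,[])]]
 (apd [[(559,[]),
 (560,[])],
 [(561,[]),
 (562,[])],
 [(464,[]),
 (427,[0,1,1,0,1])],
 [(563,[]),
 (564,[])],
 [(565,[]),
 (566,[])],
 [(567,[]),
 (568,[])],
 [(215,[1,0,1]),
 (535,[0,1,1,0])],
 [(569,[]),
 (570,[])],
 [(571,[]),
 (572,[])],
 [(209,[1,0,1,1,0,1]),
 (573,[])],
 [(574,[]),
 (569,[0])],
 [(194,[1,1]),
 (575,[])],
 [(576,[]),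
 (577,[])],
 [(578,[]),
 (579,[])],
 [(580,[]),
 (423,[0,1,0,1,1,0])],
 [(431,[1]),
 (581,[])],
 [(433,[0,1,0,1,0]),
 (582,[])],
 [(583,[]),
 (584,[])],
 [(585,[]),
 (586,[])],
 [(587,[]),
 (588,[])],
 [(589,[]),
 (590,[])],
 [(591,[]),
 (592,[])],
 [(593,[]),
 (594,[])],
 [(595,[]),
 (596,[])],
 [(594,[1]),
 (597,[])],
 [(598,[]),
 (599,[])],
 [(213,[1,0]),
 (600,[])],
 [(601,[]),
 (220,[0,1,0,1])],
 [(602,[]),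
 (46,[1])],
 [(603,[]),
 (604,[])],
 [(605,[]),
 (606,[])],
 [(37,[1,0,1]),
 (607,[])],
 [(177,[0]),
 (608,[])],
 [(609,[]),
 (610,[])],
 [(611,[]),
 (576,[1,0])],
 [(612,[]),
 (613,[])],
 [(614,[]),
 (615,[])],
 [(159,[1,1,0,1,0]),
 (11,[0,1,0,1,0])],
 [(616,[]),
 (555,[0,1,0])],
 [(558,[0,1,0,1]),
 (617,[])]]
 (apd [[(618,[]),
 (155,[1])],
 [(619,[]),
 (466,[0,1,1,0,1])],
 [(620,[]),
 (621,[])],
 [(430,[1,0,1,1,0]),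
 (578,[1,1])],
 [(622,[]),
 (623,[])],
 [(513,[0]),
 (595,[1,1])],
 [(624,[]),
 (625,[])],
 [(489,[0,1,1,0]),
 (165,[0,1,0,1])],
 [(626,[]),
 (627,[])],
 [(628,[]),
 (629,[])],
 [(630,[]),
 (631,[])],
 [(632,[]),
 (40,[0,1,1,0])],
 [(633,[]),
 (634,[])],
 [(635,[]),
 (118,[0,1,1,0,1,0])],
 [(636,[]),
 (637,[])],
 [(638,[]),
 (639,[])],
 [(640,[]),
 (641,[])],
 [(51,[1,1]),
 (642,[])],
 [(541,[1,0,1,1,0]),
 (643,[])],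
 [(644,[]),
 (645,[])],
 [(642,[0,1,0,1,1]),
 (514,[0,1,1,0])],
 [(442,[1,0,1,1,0]),
 (646,[])],
 [(646,[0,1,0,1,1]),
 (601,[1,0,1,1,0])],
 [(150,[0,1,0,1,0]),
 (647,[])],
 [(648,[]),
 (649,[])],
 [(451,[1,0,1,1,0]),
 (650,[])],
 [(651,[]),
 (132,[0,1,0,1,1])],
 [(652,[]),
 (653,[])],
 [(579,[0,1,1]),
 (654,[])],
 [(655,[]),
 (415,[0,1,0,1,0])],
 [(656,[]),
 (657,[])],
 [(658,[]),
 (167,[0,1,0,1,1])],
 [(597,[]),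
 (659,[])],
 [(438,[]),
 (660,[])],
 [(661,[]),
 (662,[])],
 [(444,[]),
 (425,[0,1,0,1,0])],
 [(663,[]),
 (664,[])],
 [(41,[1,0,1,1]),
 (208,[0,1,0,1,1])],
 [(665,[]),
 (559,[1,1,0,1,0])],
 [(666,[]),
 (667,[])]]
 (apd [[(462,[]),
 (187,[0,1,1,0])],
 [(668,[]),
 (669,[])],
 [(468,[]),
 (670,[])],
 [(671,[]),
 (672,[])],
 [(673,[]),
 (528,[1,0,1,1])],
 [(674,[]),
 (675,[])],
 [(137,[0,1]),
 (676,[])],
 [(677,[]),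
 (563,[0,1,0,1])],
 [(678,[]),
 (679,[])],
 [(680,[]),
 (393,[1,0,1,1,0,1])],
 [(387,[0,1,0,1,1,0,1]),
 (681,[])],
 [(682,[]),
 (683,[])],
 [(684,[]),
 (685,[])],
 [(686,[]),
 (687,[])],
 [(688,[]),
 (689,[])],
 [(690,[]),
 (691,[])],
 [(692,[]),
 (693,[])],
 [(694,[]),
 (22,[0,1,0])],
 [(695,[]),
 (69,[0,1,0,1,1])],
 [(696,[]),
 (697,[])],
 [(698,[]),
 (373,[1,0])],
 [(699,[]),
 (700,[])],
 [(701,[]),
 (702,[])],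
 [(401,[1]),
 (305,[1,0,1,0])],
 [(703,[]),
 (61,[0,1,0,1,0])],
 [(704,[]),
 (705,[])],
 [(706,[]),
 (707,[])],
 [(329,[1,0,1,1,0]),
 (708,[])],
 [(709,[]),
 (710,[])],
 [(711,[]),
 (712,[])],
 [(713,[]),
 (714,[])],
 [(715,[]),
 (716,[])],
 [(717,[]),
 (718,[])],
 [(20,[0,1,0,1,1,0]),
 (719,[])],
 [(258,[1,1,0]),
 (307,[1,0,1,1,0,1])],
 [(327,[0,1,0]),
 (720,[])],
 [(721,[]),
 (722,[])],
 [(691,[0,1,0,1]),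
 (723,[])],
 [(708,[1,1]),
 (287,[0,1,1,0])],
 [(247,[0,1,1,0,1]),
 (724,[])]]
 (apd [[(725,[]),
 (726,[])],
 [(727,[]),
 (728,[])],
 [(302,[0,1,1,0,1,0]),
 (729,[])],
 [(730,[]),
 (731,[])],
 [(98,[1,0]),
 (732,[])],
 [(321,[1,0,1,0]),
 (688,[1,1,0,1,0])],
 [(733,[]),
 (734,[])],
 [(735,[]),
 (274,[0,1,1,0,1])],
 [(736,[]),
 (737,[])],
 [(738,[]),
 (739,[])],
 [(740,[]),
 (741,[])],
 [(390,[1]),
 (742,[])],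
 [(743,[]),
 (318,[0,1])],
 [(744,[]),
 (745,[])],
 [(746,[]),
 (747,[])],
 [(748,[]),
 (749,[])],
 [(750,[]),
 (404,[1,0])],
 [(751,[]),
 (752,[])],
 [(753,[]),
 (754,[])],
 [(755,[]),
 (87,[0,1,0,1,0])],
 [(756,[]),
 (757,[])],
 [(372,[]),
 (758,[])],
 [(379,[0,1,0]),
 (759,[])],
 [(317,[1,0,1]),
 (281,[1,1])],
 [(760,[]),
 (761,[])],
 [(762,[]),
 (763,[])],
 [(764,[]),
 (378,[0,1,0,1,1])],
 [(731,[1,1,0]),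
 (765,[])],
 [(766,[]),
 (81,[0,1,0,1,1,0])],
 [(270,[0,1]),
 (767,[])],
 [(768,[]),
 (382,[0,1,0,1,0])],
 [(769,[]),
 (770,[])],
 [(771,[]),
 (772,[])],
 [(749,[0,1,0,1]),
 (225,[1,0,1])],
 [(773,[]),
 (715,[0,1,0,1,1])],
 [(774,[]),
 (775,[])],
 [(776,[]),
 (777,[])],
 [(392,[1,0,1,1,0,1]),
 (778,[])],
 [(752,[0,1,0,1,1,0,1]),
 (257,[0,1,0,1,1])],
 [(719,[]),
 (682,[1,1,0,1,0])]]
 (apd [[(779,[]),
 (314,[1,0,1,0])],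
 [(780,[]),
 (781,[])],
 [(288,[1,0,1,1,0]),
 (371,[0,1,1])],
 [(782,[]),
 (783,[])],
 [(784,[]),
 (785,[])],
 [(109,[0,1,0]),
 (786,[])],
 [(787,[]),
 (402,[1,0,1,1,0,1])],
 [(346,[]),
 (727,[0,1,1,0,1,0])],
 [(311,[1,1,0,1,0]),
 (788,[])],
 [(789,[]),
 (790,[])],
 [(398,[1,0,1,0]),
 (791,[])],
 [(268,[1,1,0,1,0]),
 (792,[])],
 [(793,[]),
 (3,[])],
 [(794,[]),
 (795,[])],
 [(254,[0,1,0,1,0]),
 (796,[])],
 [(264,[1,0,1,1,0]),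
 (797,[])],
 [(796,[1,0,1,1,0]),
 (798,[])],
 [(799,[]),
 (800,[])],
 [(801,[]),
 (802,[])],
 [(772,[1,0,1]),
 (99,[1,0])],
 [(803,[]),
 (804,[])],
 [(805,[]),
 (806,[])],
 [(403,[1,0,1]),
 (349,[0,1,1,0])],
 [(351,[]),
 (807,[])],
 [(808,[]),
 (809,[])],
 [(810,[]),
 (811,[])],
 [(812,[]),
 (813,[])],
 [(814,[]),
 (815,[])],
 [(68,[1,0,1,1,0,1]),
 (816,[])],
 [(817,[]),
 (818,[])],
 [(117,[1,0]),
 (819,[])],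
 [(820,[]),
 (821,[])],
 [(683,[0,1,0,1,0]),
 (822,[])],
 [(823,[]),
 (738,[1,0,1,1,0,1])],
 [(62,[0,1,0,1]),
 (824,[])],
 [(825,[]),
 (826,[])],
 [(348,[1,1,0]),
 (827,[])],
 [(828,[]),
 (395,[1,0,1,1])],
 [(339,[0,1,0,1,1,0,1]),
 (829,[])],
 [(830,[]),
 (269,[0,1,0,1,0])]]
 (apd [[(385,[0,1,0,1,1,0]),
 (831,[])],
 [(306,[0,1,1,0,1]),
 (832,[])],
 [(0,[0]),
 (690,[0,1,0,1,0])],
 [(833,[]),
 (345,[0,1,1,0])],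
 [(834,[]),
 (835,[])],
 [(836,[]),
 (837,[])],
 [(838,[]),
 (839,[])],
 [(29,[]),
 (840,[])],
 [(826,[1,0,1,1,0,1]),
 (771,[0,1,0,1])],
 [(275,[0,1]),
 (841,[])],
 [(705,[1,0]),
 (359,[0,1,0,1,1,0,1])],
 [(842,[]),
 (843,[])],
 [(844,[]),
 (845,[])],
 [(394,[0]),
 (846,[])],
 [(100,[]),
 (847,[])],
 [(702,[]),
 (386,[1,1,0,1,0])],
 [(107,[]),
 (73,[0,1,1,0,1])],
 [(707,[]),
 (848,[])],
 [(263,[0,1,0,1,0]),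
 (849,[])],
 [(90,[1]),
 (836,[0,1,0,1,0])],
 [(723,[]),
 (850,[])],
 [(369,[1,0,1,1]),
 (332,[0,1,0,1,0])],
 [(851,[]),
 (852,[])],
 [(853,[]),
 (114,[1,0,1,1,0,1])],
 [(299,[0]),
 (854,[])],
 [(759,[1,0,1,0]),
 (855,[])],
 [(388,[1,0,1]),
 (320,[0,1,0,1,1,0,1])],
 [(856,[]),
 (231,[1,0,1,1,0,1])],
 [(857,[]),
 (858,[])],
 [(795,[]),
 (823,[0,1,0,1,1,0])],
 [(818,[1,0,1,1,0]),
 (859,[])],
 [(72,[0,1,1]),
 (334,[0])],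
 [(248,[0,1,1,0]),
 (860,[])],
 [(861,[]),
 (862,[])],
 [(863,[]),
 (864,[])],
 [(775,[0,1,1,0,1,0]),
 (865,[])],
 [(64,[1,0,1,0]),
 (326,[1,1,0])],
 [(304,[0,1,0,1,1,0,1]),
 (406,[0,1,0,1,0])],
 [(729,[1,1]),
 (866,[])],
 [(325,[0,1,0]),
 (867,[])]]
 (apd [[(807,[1,1]),
 (782,[0,1,0,1,0])],
 [(868,[]),
 (869,[])],
 [(870,[]),
 (871,[])],
 [(872,[]),
 (272,[1,0])],
 [(837,[0,1]),
 (873,[])],
 [(243,[1,1]),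
 (744,[1,1,0,1])],
 [(822,[0,1,0,1]),
 (352,[0,1,1,0,1])],
 [(874,[]),
 (766,[0,1,0,1,1])],
 [(256,[1,0,1]),
 (875,[])],
 [(876,[]),
 (877,[])],
 [(878,[]),
 (879,[])],
 [(880,[]),
 (881,[])],
 [(882,[]),
 (883,[])],
 [(865,[0,1,0,1,1,0,1]),
 (884,[])],
 [(885,[]),
 (886,[])],
 [(887,[]),
 (259,[0,1])],
 [(888,[]),
 (889,[])],
 [(890,[]),
 (751,[1,0,1])],
 [(687,[0,1,0,1,1,0]),
 (773,[1,0,1,1,0,1])],
 [(66,[0,1,0,1,1,0,1]),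
 (97,[1,1])],
 [(864,[1,0,1]),
 (102,[0])],
 [(891,[]),
 (104,[1,1])],
 [(892,[]),
 (893,[])],
 [(894,[]),
 (83,[1,0,1])],
 [(76,[0,1,0,1,1]),
 (895,[])],
 [(896,[]),
 (242,[])],
 [(897,[]),
 (898,[])],
 [(791,[]),
 (899,[])],
 [(230,[0,1,1,0,1,0]),
 (357,[1,0,1])],
 [(900,[]),
 (901,[])],
 [(70,[1,0,1,0]),
 (686,[1,1,0,1])],
 [(902,[]),
 (279,[1])],
 [(693,[0,1]),
 (882,[0,1,0,1,1,0])],
 [(903,[]),
 (904,[])],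
 [(819,[]),
 (380,[0,1,1,0])],
 [(886,[0,1,0]),
 (905,[])],
 [(113,[0,1,1,0,1]),
 (906,[])],
 [(907,[]),
 (77,[])],
 [(765,[1,1,0,1,0]),
 (389,[0,1,1,0,1,0])],
 [(689,[0,1,1]),
 (908,[])]]
 (apd [[(909,[]),
 (910,[])],
 [(911,[]),
 (912,[])],
 [(913,[]),
 (902,[0])],
 [(914,[]),
 (874,[1,1,0,1])],
 [(915,[]),
 (916,[])],
 [(323,[0,1]),
 (891,[1,0,1,1,0,1])],
 [(785,[1,0,1,1]),
 (368,[0,1,1,0,1,0])],
 [(917,[]),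
 (825,[1,0,1,1])],
 [(910,[0,1,0,1,1]),
 (780,[0,1,1])],
 [(358,[0,1,0,1]),
 (918,[])],
 [(280,[0,1,1,0,1]),
 (267,[1,0,1,1])],
 [(919,[]),
 (920,[])],
 [(889,[1,0,1,0]),
 (857,[0])],
 [(921,[]),
 (922,[])],
 [(94,[0,1,0]),
 (923,[])],
 [(883,[]),
 (900,[0,1,0])],
 [(924,[]),
 (925,[])],
 [(926,[]),
 (927,[])],
 [(928,[]),
 (764,[0,1,0,1,1])],
 [(929,[]),
 (930,[])],
 [(931,[]),
 (67,[1,0,1,1])],
 [(932,[]),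
 (5,[])],
 [(933,[]),
 (733,[1,1])],
 [(714,[1,0]),
 (876,[])],
 [(881,[1,0,1,1,0]),
 (934,[])],
 [(835,[1,0,1]),
 (856,[0,1,0,1,1,0,1])],
 [(234,[1,1,0,1]),
 (892,[0,1,1,0])],
 [(935,[]),
 (936,[])],
 [(937,[]),
 (298,[0,1,1])],
 [(938,[]),
 (93,[1])],
 [(732,[0,1,1,0,1,0]),
 (939,[])],
 [(335,[0]),
 (347,[0,1,0,1,0])],
 [(737,[0,1,1,0,1,0]),
 (704,[0,1])],
 [(847,[0,1,0,1,1,0,1]),
 (917,[1,0,1,0])],
 [(940,[]),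
 (106,[1,1,0])],
 [(827,[0,1,0,1,1]),
 (941,[])],
 [(377,[1,0,1,1,0,1]),
 (236,[0,1,0,1,1])],
 [(734,[1]),
 (937,[0,1,1])],
 [(767,[0,1,0,1,0]),
 (276,[0,1,0,1,1])],
 [(942,[]),
 (713,[0,1,0,1])]]
 (apd [[(943,[]),
 (24,[0,1,0,1])],
 [(21,[1,0,1,1]),
 (794,[1,1,0,1,0])],
 [(944,[]),
 (887,[0,1])],
 [(945,[]),
 (946,[])],
 [(947,[]),
 (680,[1,0,1,1,0])],
 [(948,[]),
 (888,[0,1,1,0,1,0])],
 [(949,[]),
 (950,[])],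
 [(855,[1,0,1,1,0]),
 (951,[])],
 [(781,[1,0,1,1,0,1]),
 (952,[])],
 [(757,[0,1,0,1,1,0,1]),
 (953,[])],
 [(922,[0,1,0,1]),
 (65,[1,1])],
 [(954,[]),
 (955,[])],
 [(786,[1,0,1,1]),
 (956,[])],
 [(957,[]),
 (932,[1,0])],
 [(916,[0,1,0,1,1]),
 (706,[0,1,0,1,1,0])],
 [(958,[]),
 (959,[])],
 [(232,[1,1,0,1]),
 (907,[0,1,1,0,1])],
 [(758,[1,0,1,1,0]),
 (328,[0,1,1])],
 [(761,[1]),
 (960,[])],
 [(961,[]),
 (285,[0,1,0,1,0])],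
 [(962,[]),
 (928,[0])],
 [(927,[0,1,0,1,0]),
 (271,[0,1,0])],
 [(797,[0,1]),
 (963,[])],
 [(273,[1,0]),
 (964,[])],
 [(745,[0,1]),
 (965,[])],
 [(788,[0,1,0,1,0]),
 (966,[])],
 [(718,[0,1]),
 (896,[])],
 [(964,[1,0,1,1,0,1]),
 (967,[])],
 [(353,[0,1,0,1,1]),
 (19,[0,1,0])],
 [(798,[0,1]),
 (85,[1,0,1,1,0,1])],
 [(811,[]),
 (968,[])],
 [(873,[]),
 (969,[])],
 [(308,[1,0,1,1]),
 (970,[])],
 [(875,[]),
 (947,[0,1,0,1,1])],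
 [(884,[0,1]),
 (971,[])],
 [(972,[]),
 (944,[0,1,1,0])],
 [(971,[1,0,1]),
 (973,[])],
 [(858,[1,1,0]),
 (974,[])],
 [(975,[]),
 (283,[1,1,0,1])],
 [(291,[0,1,0,1]),
 (976,[])]]
 (apd [[(552,[0,1,0,1,0]),
 (977,[])],
 [(428,[0,1,1,0]),
 (978,[])],
 [(979,[]),
 (980,[])],
 [(981,[]),
 (547,[1,1,0,1,0])],
 [(570,[1,0,1,1]),
 (982,[])],
 [(983,[]),
 (984,[])],
 [(985,[]),
 (986,[])],
 [(586,[1]),
 (987,[])],
 [(988,[]),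
 (147,[0,1,0,1])],
 [(989,[]),
 (429,[0,1,0,1,0])],
 [(990,[]),
 (991,[])],
 [(631,[0,1,0]),
 (992,[])],
 [(993,[]),
 (44,[])],
 [(994,[]),
 (995,[])],
 [(996,[]),
 (997,[])],
 [(998,[]),
 (999,[])],
 [(1000,[]),
 (1001,[])],
 [(1002,[]),
 (496,[0,1,1])],
 [(575,[1,0,1,1,0]),
 (447,[1,0,1,0])],
 [(1003,[]),
 (1004,[])],
 [(1005,[]),
 (512,[0,1,0,1])],
 [(503,[]),
 (463,[1,1,0])],
 [(1006,[]),
 (144,[1,0,1,1])],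
 [(511,[1,0,1]),
 (609,[1])],
 [(1007,[]),
 (454,[1,1,0,1])],
 [(435,[1,0]),
 (611,[1,1,0])],
 [(1008,[]),
 (1009,[])],
 [(1010,[]),
 (206,[0,1,0,1])],
 [(472,[1,0,1,1,0]),
 (1011,[])],
 [(1012,[]),
 (499,[0,1,0,1,1,0])],
 [(1013,[]),
 (1014,[])],
 [(1015,[]),
 (981,[0,1,1,0])],
 [(606,[1,1]),
 (30,[1,0,1])],
 [(1016,[]),
 (994,[0,1,1,0])],
 [(1017,[]),
 (671,[0,1,1,0])],
 [(1018,[]),
 (1019,[])],
 [(219,[1,0,1]),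
 (674,[])],
 [(166,[0,1,1,0]),
 (1002,[0,1,0,1])],
 [(488,[0,1,1,0,1]),
 (1020,[])],
 [(484,[0,1,0,1]),
 (1021,[])]]
 (apd [[(1022,[]),
 (173,[1,0,1,1,0,1])],
 [(455,[0,1,0,1,1,0,1]),
 (1023,[])],
 [(424,[0]),
 (504,[0,1,1])],
 [(123,[0,1,1,0]),
 (169,[0,1,0])],
 [(1024,[]),
 (656,[0,1,0])],
 [(599,[1,0,1]),
 (34,[1,0,1])],
 [(39,[0,1,0]),
 (1025,[])],
 [(984,[1,0,1]),
 (1026,[])],
 [(1027,[]),
 (1028,[])],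
 [(986,[0,1]),
 (1029,[])],
 [(524,[1,1,0]),
 (153,[1,0,1,1])],
 [(1030,[]),
 (518,[0,1,0,1,1,0,1])],
 [(1031,[]),
 (210,[1])],
 [(534,[0,1,1,0]),
 (421,[1,1])],
 [(163,[0,1,1,0,1]),
 (1032,[])],
 [(502,[0,1,0,1,0]),
 (1022,[1,1,0])],
 [(1033,[]),
 (626,[0,1,0])],
 [(545,[0,1,0,1,1]),
 (1034,[])],
 [(465,[0,1,0,1,0]),
 (134,[1,0,1,1,0,1])],
 [(192,[1,1,0]),
 (216,[0,1,0])],
 [(1035,[]),
 (1036,[])],
 [(1037,[]),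
 (7,[])],
 [(1038,[]),
 (988,[])],
 [(604,[1,0,1,0]),
 (525,[1,0])],
 [(1001,[]),
 (583,[1,0])],
 [(1039,[]),
 (548,[1,1,0,1,0])],
 [(554,[0,1,1]),
 (1031,[1,1])],
 [(592,[0,1,0]),
 (1040,[])],
 [(474,[1]),
 (598,[0,1,0,1,1])],
 [(1041,[]),
 (1042,[])],
 [(203,[1,0,1,1,0]),
 (1043,[])],
 [(224,[]),
 (1044,[])],
 [(1045,[]),
 (1046,[])],
 [(446,[1,0,1,1]),
 (618,[1,0,1,1,0,1])],
 [(519,[]),
 (1047,[])],
 [(641,[0]),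
 (1048,[])],
 [(1021,[0,1,0,1,1,0,1]),
 (1049,[])],
 [(1050,[]),
 (128,[0,1,0,1,1])],
 [(1051,[]),
 (1052,[])],
 [(634,[0,1,0,1,0]),
 (1053,[])]]
 (apd [[(1054,[]),
 (1055,[])],
 [(33,[0,1,1,0]),
 (1056,[])],
 [(1057,[]),
 (456,[1,1,0,1])],
 [(1058,[]),
 (1059,[])],
 [(1060,[]),
 (157,[1,0,1,1])],
 [(562,[1,0,1]),
 (1061,[])],
 [(625,[1]),
 (1062,[])],
 [(148,[0,1,0,1,1,0]),
 (1030,[0,1,1])],
 [(1063,[]),
 (1064,[])],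
 [(617,[0,1,0,1,1]),
 (1065,[])],
 [(1066,[]),
 (1067,[])],
 [(662,[]),
 (432,[1,1,0,1,0])],
 [(1068,[]),
 (603,[1,0])],
 [(1069,[]),
 (1070,[])],
 [(1071,[]),
 (1072,[])],
 [(637,[1,0,1]),
 (574,[1,1,0,1,0])],
 [(1073,[]),
 (585,[0,1,0])],
 [(1074,[]),
 (1018,[1,0])],
 [(1075,[]),
 (1076,[])],
 [(1077,[]),
 (1068,[0,1,0,1])],
 [(135,[0,1,1,0,1,0]),
 (1078,[])],
 [(1079,[]),
 (212,[0,1,0,1])],
 [(1080,[]),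
 (1081,[])],
 [(1082,[]),
 (506,[0,1,1,0,1,0])],
 [(1083,[]),
 (434,[0,1,1,0,1,0])],
 [(418,[0,1,0,1,1]),
 (989,[0,1])],
 [(532,[0,1,0,1,1,0]),
 (1084,[])],
 [(1085,[]),
 (1008,[0,1,0,1,1,0])],
 [(129,[0,1,1]),
 (553,[1,0,1,1,0])],
 [(615,[1,0,1]),
 (638,[1,0])],
 [(1086,[]),
 (162,[1,1,0,1,0])],
 [(1087,[]),
 (1088,[])],
 [(536,[1,0,1,1]),
 (567,[0,1,0,1])],
 [(1089,[]),
 (550,[1,0,1,1,0,1])],
 [(1090,[]),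
 (1091,[])],
 [(1009,[0,1,0,1,0]),
 (1092,[])],
 [(1093,[]),
 (1094,[])],
 [(1095,[]),
 (1096,[])],
 [(1097,[]),
 (1058,[1,1,0,1,0])],
 [(1098,[]),
 (1099,[])]]
 (apd [[(1100,[]),
 (419,[1,0,1,1,0])],
 [(1101,[]),
 (1102,[])],
 [(1103,[]),
 (628,[1,0,1,1])],
 [(1104,[]),
 (546,[0,1,0,1,1,0])],
 [(1105,[]),
 (1106,[])],
 [(568,[1,1,0,1]),
 (1107,[])],
 [(1081,[0]),
 (636,[1,0,1,1,0])],
 [(1108,[]),
 (493,[1,0,1])],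
 [(1109,[]),
 (160,[1])],
 [(1110,[]),
 (443,[0,1,0,1,1])],
 [(1111,[]),
 (1112,[])],
 [(588,[0,1]),
 (183,[])],
 [(1113,[]),
 (1114,[])],
 [(647,[0,1,0,1,1]),
 (1115,[])],
 [(1116,[]),
 (124,[1,0])],
 [(14,[0,1,0,1,1,0,1]),
 (591,[1])],
 [(1117,[]),
 (668,[0,1,1,0])],
 [(1099,[0,1,1,0,1]),
 (1118,[])],
 [(992,[0,1,0,1,1,0,1]),
 (32,[0,1,0])],
 [(1055,[]),
 (58,[1,1,0])],
 [(629,[1,0,1,0]),
 (469,[0,1,1])],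
 [(1114,[0,1,1,0]),
 (665,[0,1,1])],
 [(573,[1,1,0,1]),
 (1119,[])],
 [(1120,[]),
 (630,[1,0,1,1,0])],
 [(1121,[]),
 (533,[0,1])],
 [(479,[1,1,0,1]),
 (640,[0,1,1,0,1,0])],
 [(1122,[]),
 (1090,[0,1,0,1])],
 [(505,[0,1,0,1]),
 (1123,[])],
 [(1124,[]),
 (181,[1,0,1,0])],
 [(172,[1,1,0]),
 (436,[])],
 [(1014,[0,1,0,1,0]),
 (1051,[0,1,0,1,1])],
 [(121,[1,1,0,1,0]),
 (1125,[])],
 [(660,[0,1,0,1,0]),
 (1126,[])],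
 [(564,[1,0,1]),
 (644,[0,1,0])],
 [(529,[1,0,1,1,0,1]),
 (1121,[0,1,1])],
 [(1118,[0,1,1,0,1]),
 (439,[0,1,0,1,0])],
 [(1127,[]),
 (1069,[1,0,1,1,0,1])],
 [(627,[1,1,0]),
 (557,[0,1,0,1,1,0,1])],
 [(1128,[]),
 (1033,[1,0,1,0])],
 [(460,[1,0,1,1]),
 (1129,[])]]
 (apd [[(467,[1,0,1,1]),
 (149,[0,1,1,0,1])],
 [(596,[0,1,0,1,1,0]),
 (9,[])],
 [(1064,[0,1,1,0,1]),
 (580,[1,0,1])],
 [(670,[0,1]),
 (1130,[])],
 [(1131,[]),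
 (1132,[])],
 [(205,[0,1,0,1,0]),
 (1133,[])],
 [(1042,[0,1,0]),
 (1134,[])],
 [(1135,[]),
 (565,[0,1,0,1,1,0,1])],
 [(1026,[1,0,1,1]),
 (990,[1,1])],
 [(186,[1,1,0]),
 (1012,[1,0,1])],
 [(1025,[0,1,1]),
 (1015,[0,1,1,0])],
 [(1106,[]),
 (1079,[1,1])],
 [(199,[0,1,1]),
 (633,[0,1,0,1,1])],
 [(1136,[]),
 (1060,[1,1,0])],
 [(1059,[]),
 (1137,[])],
 [(1125,[1,0,1,0]),
 (1075,[0,1,0,1,1])],
 [(1130,[0,1]),
 (1138,[])],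
 [(196,[1,0,1,1,0]),
 (1139,[])],
 [(1140,[]),
 (996,[1,0])],
 [(1092,[0,1,1,0]),
 (605,[1,0,1,1])],
 [(1141,[]),
 (130,[0,1,1,0,1])],
 [(1142,[]),
 (1041,[0])],
 [(643,[1,1,0,1]),
 (223,[1,0,1,1])],
 [(672,[0]),
 (993,[0,1,0,1,0])],
 [(207,[1,0,1,1,0]),
 (126,[0,1,1,0])],
 [(657,[0,1,0,1,1,0,1]),
 (1143,[])],
 [(1144,[]),
 (1093,[0,1,0,1,1])],
 [(1091,[1,0]),
 (1145,[])],
 [(664,[1,0,1,0]),
 (998,[1,0])],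
 [(527,[1,0,1,0]),
 (195,[0])],
 [(480,[0,1,0,1,1,0]),
 (1146,[])],
 [(650,[0,1,0,1]),
 (1147,[])],
 [(217,[0,1,0,1,1]),
 (1122,[0,1,0,1,0])],
 [(1148,[]),
 (1149,[])],
 [(1096,[0,1,0,1,1,0,1]),
 (1141,[1,0])],
 [(582,[1,1,0,1]),
 (1135,[1,0,1,1,0])],
 [(143,[0,1,1,0,1,0]),
 (1101,[])],
 [(1143,[0,1,1]),
 (523,[1,0,1,1])],
 [(1150,[]),
 (1151,[])],
 [(654,[0]),
 (417,[0,1,1,0])]]
 (apd [[(653,[1,0,1]),
 (540,[0,1,0,1,1,0])],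
 [(522,[0]),
 (1087,[1,1,0])],
 [(1067,[1]),
 (1152,[])],
 [(1153,[]),
 (56,[1,0])],
 [(1034,[1,0,1]),
 (445,[])],
 [(977,[1,0,1,0]),
 (537,[0,1,1])],
 [(1154,[]),
 (1077,[])],
 [(560,[0,1,0,1,1]),
 (1153,[0,1,1])],
 [(1155,[]),
 (122,[1,0,1,1])],
 [(1146,[0,1,0]),
 (1156,[])],
 [(1078,[1,0,1,1,0]),
 (42,[1,1,0,1])],
 [(1157,[]),
 (485,[0,1,1,0,1])],
 [(675,[1,1,0]),
 (1158,[])],
 [(1159,[]),
 (1003,[1,0,1,1,0])],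
 [(639,[]),
 (1144,[1,0,1,0])],
 [(1160,[]),
 (1161,[])],
 [(539,[1,1,0,1,0]),
 (1037,[1,0])],
 [(1023,[1,1]),
 (648,[0,1,0,1,1])],
 [(47,[0,1,1,0,1]),
 (530,[0,1,0,1,0])],
 [(1115,[0]),
 (1162,[])],
 [(1163,[]),
 (1017,[1,0,1,1,0])],
 [(997,[1]),
 (520,[1,0,1])],
 [(1164,[]),
 (1124,[0,1,1])],
 [(31,[]),
 (1085,[0,1,1,0,1])],
 [(669,[0]),
 (1165,[])],
 [(1166,[]),
 (1035,[0,1,0,1])],
 [(49,[0,1,1]),
 (1167,[])],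
 [(1133,[1,0,1,1,0]),
 (1168,[])],
 [(57,[0,1,0,1,1,0,1]),
 (1113,[1,0,1,0])],
 [(1169,[]),
 (1142,[1,0])],
 [(1165,[0,1,1,0,1,0]),
 (410,[0,1,1])],
 [(1170,[]),
 (1171,[])],
 [(676,[]),
 (1127,[0,1])],
 [(1048,[1,1,0,1]),
 (189,[1,1,0,1])],
 [(1172,[]),
 (622,[1])],
 [(1173,[]),
 (1174,[])],
 [(2,[0,1,0,1,1,0]),
 (38,[0,1,0])],
 [(526,[1,1,0]),
 (1175,[])],
 [(1176,[]),
 (589,[1,1,0,1,0])],
 [(1032,[1,0,1,0]),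
 (1097,[0,1,0,1,0])]]
 (apd [[(437,[0,1]),
 (1148,[1,0,1,0])],
 [(500,[]),
 (36,[0,1,0,1,1,0])],
 [(1126,[1,1,0,1]),
 (1177,[])],
 [(1052,[1,1,0,1]),
 (1108,[1,0,1,1])],
 [(1178,[]),
 (1111,[1,0,1,0])],
 [(1179,[]),
 (632,[0,1,0,1,1,0,1])],
 [(1147,[]),
 (1110,[1])],
 [(1029,[0,1,0,1,0]),
 (218,[0,1,0,1,1])],
 [(1011,[0,1,1,0,1]),
 (198,[1,0,1,0])],
 [(607,[0,1,0,1,1,0]),
 (185,[0,1,1,0,1])],
 [(174,[1,1,0,1]),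
 (1116,[0,1,1])],
 [(35,[0,1,1]),
 (1104,[0,1,0,1,1])],
 [(645,[0,1,1,0]),
 (1180,[])],
 [(1139,[0,1,0,1,0]),
 (587,[1,1,0,1,0])],
 [(1151,[1,0,1,1,0,1]),
 (1181,[])],
 [(1072,[0,1,1]),
 (48,[0,1,0,1,1])],
 [(995,[1,0,1,1,0,1]),
 (1140,[1,1,0])],
 [(1182,[]),
 (1183,[])],
 [(1184,[]),
 (483,[0,1,0,1,1])],
 [(168,[1]),
 (1095,[0,1,0,1,0])],
 [(1088,[]),
 (1054,[0,1])],
 [(590,[0]),
 (655,[0,1,0,1])],
 [(154,[1,1]),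
 (1024,[1,1,0])],
 [(1185,[]),
 (1083,[1,0,1,0])],
 [(980,[0,1,0,1,1,0,1]),
 (510,[0,1,1])],
 [(1043,[0,1,0,1]),
 (1182,[0,1,0,1,0])],
 [(492,[1,0,1]),
 (1186,[])],
 [(133,[0]),
 (1169,[1,1,0,1])],
 [(521,[0,1,0,1,1]),
 (1016,[1,0,1,1])],
 [(1070,[1]),
 (475,[0,1,1])],
 [(1094,[1,1]),
 (1187,[])],
 [(1044,[1,0,1,1,0,1]),
 (652,[1,1,0,1,0])],
 [(1134,[1,1,0,1]),
 (651,[0,1,0,1,1,0,1])],
 [(1188,[]),
 (13,[])],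
 [(999,[0,1,1,0]),
 (1073,[0,1,1])],
 [(621,[0,1,1]),
 (1007,[0,1,0,1,1,0,1])],
 [(1004,[0,1,1,0]),
 (1157,[1,0,1])],
 [(508,[1,0,1,1,0,1]),
 (481,[0,1,0,1,1,0])],
 [(1186,[1,0,1,0]),
 (1159,[1,0,1,1,0])],
 [(1053,[1,1,0,1]),
 (471,[0,1,0,1,1,0,1])]]
 (apd [[(1189,[]),
 (612,[1,0,1,1])],
 [(991,[1]),
 (1190,[])],
 [(1028,[1,0,1,1,0,1]),
 (677,[0,1,0,1])],
 [(577,[0,1,0,1,0]),
 (1191,[])],
 [(1046,[0,1,0,1]),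
 (1089,[0,1])],
 [(1168,[1,1,0,1,0]),
 (1098,[1,1,0])],
 [(414,[0,1,0,1,1]),
 (1105,[1,1,0,1,0])],
 [(1145,[1,1]),
 (191,[0,1,0,1,1,0])],
 [(1156,[0,1,0,1,1,0,1]),
 (1164,[0,1,0,1,1,0])],
 [(125,[0,1,0,1,1,0]),
 (501,[0,1,0])],
 [(978,[0,1,0,1,1]),
 (200,[0,1,0,1,1,0,1])],
 [(1167,[0,1]),
 (1189,[0,1,0])],
 [(1138,[0,1,1,0]),
 (477,[0,1,0,1])],
 [(982,[0,1,0,1,1]),
 (1080,[0,1,0,1,1])],
 [(170,[0,1,0,1,1,0,1]),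
 (1192,[])],
 [(1036,[0,1,1,0,1]),
 (616,[0,1,0,1,1])],
 [(211,[1,0,1]),
 (1050,[0,1])],
 [(1193,[]),
 (746,[1,1,0,1])],
 [(976,[1,1,0,1]),
 (929,[0,1,0,1,1,0,1])],
 [(1194,[]),
 (229,[0])],
 [(1195,[]),
 (913,[1,0,1,1,0,1])],
 [(754,[]),
 (1196,[])],
 [(854,[1,1,0,1,0]),
 (1197,[])],
 [(1198,[]),
 (309,[1,0,1,0])],
 [(1199,[]),
 (238,[0,1,1,0])],
 [(832,[1,0,1,1,0,1]),
 (1200,[])],
 [(80,[0,1,1,0,1,0]),
 (774,[0,1,0])],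
 [(849,[]),
 (851,[1,0,1,1,0,1])],
 [(869,[1,0,1,0]),
 (1201,[])],
 [(939,[1,0,1,1]),
 (921,[0,1,1,0])],
 [(747,[1,0,1]),
 (1202,[])],
 [(895,[0,1,0,1,1,0]),
 (753,[0,1,0,1])],
 [(1202,[1,0]),
 (756,[1,1])],
 [(1203,[]),
 (1204,[])],
 [(956,[0,1,0,1,1,0]),
 (924,[0,1,0,1])],
 [(245,[1,1,0,1,0]),
 (853,[])],
 [(344,[0,1,1,0,1]),
 (808,[0,1,0,1,1,0])],
 [(946,[0,1,0,1,0]),
 (108,[])],
 [(955,[]),
 (801,[0,1,1,0,1])],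
 [(18,[1,1]),
 (1205,[])]]
 (apd [[(804,[0,1]),
 (1206,[])],
 [(726,[0,1,0,1,1,0]),
 (110,[1,1,0])],
 [(1206,[1]),
 (833,[0,1,1,0,1])],
 [(350,[0,1,0,1,1]),
 (265,[1,0])],
 [(1207,[]),
 (1208,[])],
 [(867,[1,0]),
 (1199,[1,0,1,1,0,1])],
 [(912,[0,1,0]),
 (1209,[])],
 [(228,[1]),
 (909,[0,1,0,1,1,0,1])],
 [(333,[1,1,0]),
 (769,[0,1,0,1,0])],
 [(1210,[]),
 (957,[1,0,1,1,0,1])],
 [(1211,[]),
 (1212,[])],
 [(74,[1]),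
 (1213,[])],
 [(800,[0,1,0]),
 (940,[0,1,0,1,0])],
 [(1214,[]),
 (1215,[])],
 [(739,[1,0]),
 (15,[])],
 [(1216,[]),
 (1210,[0,1,0,1,0])],
 [(366,[]),
 (1217,[])],
 [(860,[1,1,0,1]),
 (1218,[])],
 [(1219,[]),
 (1220,[])],
 [(852,[0,1,1,0,1,0]),
 (17,[1,0,1,1,0])],
 [(1215,[0,1,0,1,1,0]),
 (762,[1,0])],
 [(1221,[]),
 (227,[0,1,0])],
 [(879,[0,1,0,1,0]),
 (340,[1,0,1,1])],
 [(407,[0,1,0,1,0]),
 (1216,[0,1,0])],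
 [(728,[1,0,1,1,0,1]),
 (803,[1,1])],
 [(1208,[1,0,1,1,0]),
 (289,[1,0])],
 [(313,[0]),
 (1222,[])],
 [(1223,[]),
 (89,[0,1,0,1])],
 [(846,[0,1,1,0,1]),
 (255,[1,0,1,1,0])],
 [(260,[]),
 (1224,[])],
 [(1225,[]),
 (870,[0,1,0,1])],
 [(965,[0,1,0,1]),
 (717,[1,1,0])],
 [(261,[]),
 (1226,[])],
 [(405,[1,0,1,1,0]),
 (356,[1,1])],
 [(930,[1,0,1,1,0,1]),
 (316,[1,1,0,1,0])],
 [(1227,[]),
 (805,[1,1,0,1])],
 [(1213,[1]),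
 (799,[1,1,0,1,0])],
 [(96,[0,1,0,1]),
 (948,[0,1,1,0])],
 [(777,[1,0,1,0]),
 (828,[0,1,0,1,1,0])],
 [(969,[1,0,1]),
 (1228,[])]]
 (apd [[(843,[0,1,0,1,1]),
 (975,[0,1,0,1,0])],
 [(809,[0,1,0]),
 (365,[1,1,0])],
 [(1229,[]),
 (1219,[1,0,1,1,0])],
 [(904,[1,0,1]),
 (817,[1,1,0])],
 [(770,[1,0]),
 (784,[0,1])],
 [(1205,[1,0,1,1]),
 (262,[0,1,0,1,0])],
 [(831,[0,1,0,1,0]),
 (1230,[])],
 [(1231,[]),
 (367,[1,0,1,1,0,1])],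
 [(1232,[]),
 (312,[0,1,0,1,1])],
 [(816,[0,1,1,0]),
 (748,[1])],
 [(1233,[]),
 (810,[0,1,1,0,1,0])],
 [(86,[1,0,1,1,0]),
 (789,[0,1,1,0,1])],
 [(845,[1,1,0,1,0]),
 (1234,[])],
 [(966,[1,0]),
 (725,[0,1,0,1,0])],
 [(815,[0,1]),
 (699,[0,1,0,1,1,0])],
 [(850,[1,0,1,1,0,1]),
 (1235,[])],
 [(941,[0,1,0,1,1,0,1]),
 (71,[1,0,1,1,0])],
 [(1226,[0,1,1]),
 (1229,[0,1])],
 [(376,[1]),
 (1236,[])],
 [(1237,[]),
 (1238,[])],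
 [(824,[1]),
 (1239,[])],
 [(923,[0,1,0,1,1,0,1]),
 (1240,[])],
 [(685,[0,1,0,1]),
 (698,[])],
 [(1239,[1,0]),
 (1241,[])],
 [(1217,[1,1,0]),
 (249,[1,0,1,0])],
 [(960,[0,1,1,0]),
 (294,[0,1,1,0,1,0])],
 [(1197,[0,1,1,0,1]),
 (933,[1,1,0,1])],
 [(1240,[0,1,1]),
 (1242,[])],
 [(319,[0,1,0,1,1]),
 (885,[1,0,1,1,0])],
 [(970,[1,0,1,1,0,1]),
 (890,[1,0,1,1,0])],
 [(813,[1,1]),
 (972,[1,0,1,1,0])],
 [(241,[1,0]),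
 (354,[1])],
 [(700,[0,1,1,0]),
 (735,[0,1])],
 [(697,[1,0,1,1]),
 (1243,[])],
 [(1243,[1,1,0,1,0]),
 (872,[0,1,0,1])],
 [(936,[1,1]),
 (760,[1,0,1,1,0])],
 [(918,[0,1,1,0,1]),
 (363,[0,1,0])],
 [(1228,[1,1]),
 (1223,[1,0,1,1])],
 [(374,[1,1,0]),
 (961,[1,0,1,0])],
 [(716,[1,0]),
 (695,[0,1,0,1,1,0,1])]]
 (apd [[(839,[]),
 (743,[0,1,0,1,0])],
 [(23,[0,1,1,0,1]),
 (942,[0,1,1,0])],
 [(383,[]),
 (721,[])],
 [(974,[1,0,1,0]),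
 (95,[1,0,1,1])],
 [(290,[0,1,0,1,1,0,1]),
 (793,[0])],
 [(1244,[]),
 (958,[1,0,1,1,0])],
 [(802,[0,1,0]),
 (1245,[])],
 [(1230,[]),
 (244,[1])],
 [(381,[1,0,1]),
 (880,[0,1,1])],
 [(968,[0,1,0,1]),
 (863,[1,1])],
 [(364,[1,0,1,1,0]),
 (1194,[1,0,1])],
 [(871,[0,1,0,1,1,0]),
 (776,[1,0])],
 [(1241,[0]),
 (1246,[])],
 [(821,[1,0,1,0]),
 (692,[1,0,1,1,0])],
 [(1247,[]),
 (830,[0,1,0,1,1,0,1])],
 [(1248,[]),
 (755,[1,0,1,0])],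
 [(370,[1,0,1,1,0]),
 (935,[1,1,0])],
 [(1249,[]),
 (954,[1,0,1,1])],
 [(950,[0,1,0,1,1]),
 (303,[1,0])],
 [(1250,[]),
 (878,[1,1,0,1,0])],
 [(893,[0,1,0,1,0]),
 (1251,[])],
 [(1242,[0,1,0,1,1,0,1]),
 (1252,[])],
 [(1253,[]),
 (736,[0,1,0,1,1,0,1])],
 [(722,[0,1,1]),
 (1254,[])],
 [(1255,[]),
 (1256,[])],
 [(1256,[0,1,0,1,1]),
 (730,[1,1,0,1,0])],
 [(952,[]),
 (1221,[0,1,1,0,1])],
 [(1257,[]),
 (861,[0,1,1])],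
 [(1258,[]),
 (894,[0,1,0,1,0])],
 [(898,[0,1,1,0,1,0]),
 (1249,[0,1,0,1,1,0,1])],
 [(712,[1,1,0,1]),
 (1259,[])],
 [(934,[1]),
 (116,[0,1,0,1,1,0])],
 [(963,[]),
 (911,[1,1,0])],
 [(710,[1,0,1,0]),
 (330,[0,1,0,1,1])],
 [(1222,[1,0]),
 (740,[1])],
 [(742,[0,1,0,1,0]),
 (1255,[0,1,0,1,1,0,1])],
 [(266,[1,0,1]),
 (1260,[])],
 [(862,[1,1,0,1]),
 (701,[1,0,1,1,0])],
 [(829,[1,0,1,1,0,1]),
 (1261,[])],
 [(778,[1,1,0]),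
 (914,[0,1,0,1,1])]]
 (apd [[(720,[0,1,0,1]),
 (1227,[1,0,1,1])],
 [(681,[1,0,1,1,0,1]),
 (1257,[0])],
 [(866,[0,1,0,1,1]),
 (750,[0])],
 [(1200,[0,1,0]),
 (1237,[1,0])],
 [(297,[1,0,1,0]),
 (246,[1,1,0,1])],
 [(1262,[]),
 (703,[0,1])],
 [(1260,[1,1,0,1,0]),
 (787,[1,0,1])],
 [(396,[0,1,1]),
 (1225,[0,1,0,1,1,0,1])],
 [(1236,[1,1,0,1,0]),
 (949,[0,1,0,1,1])],
 [(1259,[1,1]),
 (915,[1,0,1,0])],
 [(959,[0,1,0]),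
 (322,[])],
 [(790,[0,1,0]),
 (253,[0,1,1,0,1])],
 [(84,[1,0,1,1,0]),
 (1214,[0,1,1,0,1,0])],
 [(1201,[1,1,0,1,0]),
 (399,[0,1,1,0,1])],
 [(1263,[]),
 (342,[1,0])],
 [(1209,[1,1,0]),
 (239,[1])],
 [(78,[1,0,1,0]),
 (834,[0,1])],
 [(1220,[1,0]),
 (300,[1,0])],
 [(235,[0,1,1,0,1]),
 (842,[1,0,1])],
 [(1264,[]),
 (1231,[1,1,0,1,0])],
 [(1238,[1,1,0,1]),
 (400,[0,1,1,0,1])],
 [(741,[1,0,1]),
 (1265,[])],
 [(1245,[0,1,0,1,1,0]),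
 (897,[1,0,1,0])],
 [(4,[0,1,0]),
 (1266,[])],
 [(1252,[1,0,1]),
 (1267,[])],
 [(1268,[]),
 (28,[0,1,1,0,1])],
 [(237,[0]),
 (1250,[0,1,0,1,0])],
 [(384,[1,1,0]),
 (1253,[1,1])],
 [(908,[1,0,1,1]),
 (292,[0,1,1])],
 [(105,[0,1,0,1,0]),
 (1244,[])],
 [(1218,[]),
 (1248,[1,0])],
 [(1224,[0,1,1,0]),
 (812,[1,0,1,1,0,1])],
 [(92,[1]),
 (1247,[0,1,0])],
 [(1269,[]),
 (1232,[1])],
 [(848,[0,1,0,1,1]),
 (711,[0,1,0,1,1])],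
 [(905,[0,1,1,0,1,0]),
 (838,[0,1])],
 [(1270,[]),
 (1203,[1,1,0,1])],
 [(840,[1,0,1,1]),
 (397,[1,1,0])],
 [(1261,[0,1,1]),
 (868,[0,1,0,1,1])],
 [(925,[1,1,0,1]),
 (945,[])]]
 (apd [[(1267,[1,1]),
 (938,[1])],
 [(1271,[]),
 (1264,[1,1,0,1])],
 [(792,[0,1,0,1,0]),
 (1195,[1,1,0,1])],
 [(343,[1,1,0,1,0]),
 (919,[0,1,0,1,0])],
 [(278,[1,0,1,1,0]),
 (1271,[0,1,1,0,1])],
 [(763,[1,0,1,1,0,1]),
 (1258,[0,1,0,1,0])],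
 [(973,[0,1,1,0,1,0]),
 (79,[1,0,1,0])],
 [(1212,[0,1,1]),
 (943,[1,1,0])],
 [(315,[1,0,1,1]),
 (296,[0,1])],
 [(920,[1,1,0,1,0]),
 (1270,[1,0,1,1,0,1])],
 [(362,[1,0]),
 (768,[0,1,1,0,1])],
 [(1272,[]),
 (408,[1,0,1,1])],
 [(724,[1,1,0]),
 (779,[0,1,1,0,1])],
 [(1265,[0,1,1,0]),
 (1269,[1,0,1])],
 [(953,[1,1,0]),
 (1273,[])],
 [(82,[0,1,0,1]),
 (391,[1,1,0])],
 [(1235,[1]),
 (1272,[0,1,0,1,0])],
 [(783,[0,1,1,0,1]),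
 (709,[1,0,1,1,0,1])],
 [(951,[]),
 (962,[1,0,1,1])],
 [(1254,[0,1]),
 (361,[1,1])],
 [(967,[0,1,1,0,1,0]),
 (696,[0,1,1,0,1])],
 [(1246,[0,1,1,0]),
 (1262,[0,1,1,0,1])],
 [(1266,[0,1,0,1,0]),
 (1207,[1,0,1,1,0])],
 [(286,[1,0,1,1]),
 (684,[])],
 [(226,[1,0,1,1,0,1]),
 (931,[1])],
 [(1204,[0,1,0,1]),
 (1263,[0,1])],
 [(899,[0,1,1,0]),
 (1268,[1,0,1,1,0])],
 [(877,[1,1,0]),
 (694,[])],
 [(901,[1,0,1,0]),
 (820,[1])],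
 [(841,[1,1,0,1]),
 (814,[0,1])],
 [(906,[1,1,0]),
 (324,[0,1,0,1,0])],
 [(806,[1,1,0,1,0]),
 (63,[1,0])],
 [(1251,[0,1,0,1,1,0]),
 (926,[1,1])],
 [(608,[1,0,1,1]),
 (1184,[1,0,1,1,0])],
 [(55,[0,1,0,1,0]),
 (1166,[1,0,1])],
 [(457,[0,1,1,0,1,0]),
 (1109,[1,0,1,1])],
 [(1162,[1,0,1,1]),
 (619,[1,1,0,1,0])],
 [(1084,[1]),
 (202,[1,0])],
 [(1061,[1,1,0,1,0]),
 (179,[0,1,1])],
 [(613,[0,1,0,1,0]),
 (1071,[1,0,1])]]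
 (apd [[(411,[1,1,0]),
 (1131,[1,1,0,1,0])],
 [(1149,[0,1,1,0]),
 (1170,[0,1,0,1,1])],
 [(12,[0,1,1,0,1]),
 (1172,[1,0,1])],
 [(452,[0,1,1]),
 (1005,[0,1,1,0,1,0])],
 [(1137,[1]),
 (1086,[0,1,1,0,1,0])],
 [(600,[0,1,1,0,1]),
 (413,[1,1,0])],
 [(1190,[0,1,0,1]),
 (1173,[0,1])],
 [(1274,[]),
 (1275,[])],
 [(549,[1,0,1,1]),
 (538,[0,1,1,0,1])],
 [(131,[]),
 (658,[0,1,1,0,1,0])],
 [(1040,[1,0,1,1,0,1]),
 (490,[1,1,0,1])],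
 [(515,[1,0,1,0]),
 (1150,[1,1])],
 [(1177,[1,1,0,1,0]),
 (461,[1,1,0])],
 [(1183,[1,0,1]),
 (531,[1,1,0,1,0])],
 [(1276,[]),
 (1000,[1,1,0])],
 [(1187,[1,1]),
 (614,[1,1,0,1,0])],
 [(623,[0,1,1,0,1,0]),
 (1277,[])],
 [(498,[0,1,0,1,1,0,1]),
 (1057,[0,1,0])],
 [(679,[1,1]),
 (1155,[1,1,0])],
 [(649,[0,1,1,0,1,0]),
 (620,[0])],
 [(1152,[0,1,0,1,0]),
 (1103,[0,1,0,1,1])],
 [(1132,[1,0]),
 (1117,[0,1,0,1,0])],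
 [(1062,[1,1]),
 (593,[1,0,1,1,0])],
 [(1065,[0,1,0,1,1]),
 (1128,[0,1,1,0])],
 [(610,[1,1]),
 (571,[1,1,0,1])],
 [(667,[]),
 (138,[0,1,1,0,1,0])],
 [(1102,[1,0,1,1,0]),
 (602,[0,1,0,1,0])],
 [(1112,[0,1,0,1,1]),
 (1010,[1,0,1,1,0])],
 [(476,[0,1,0,1,1,0]),
 (136,[0,1,1,0])],
 [(1019,[0,1,1,0]),
 (666,[0,1,1,0,1,0])],
 [(1158,[0,1,0,1,1]),
 (985,[])],
 [(420,[1,1,0,1,0]),
 (1006,[1,0,1,1])],
 [(556,[0,1,1,0,1]),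
 (54,[0,1,1,0])],
 [(478,[0,1,0]),
 (1163,[])],
 [(1278,[]),
 (1120,[0,1,0])],
 [(1174,[0,1,1]),
 (983,[1,0,1,0])],
 [(1107,[1,1,0]),
 (497,[0,1])],
 [(1129,[]),
 (551,[0,1])],
 [(8,[1,0,1,1,0,1]),
 (1039,[0,1,0])],
 [(572,[1,1,0,1,0]),
 (979,[0,1,0])]]
 [[(1049,[1]),
 (176,[1,1,0])],
 [(1076,[0]),
 (1136,[1])],
 [(482,[]),
 (635,[0,1,0,1,0])],
 [(543,[1,1]),
 (1274,[1,1])],
 [(1180,[1,0,1,1]),
 (1027,[0,1,0,1])],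
 [(987,[0]),
 (663,[0,1])],
 [(1192,[1,1,0,1]),
 (678,[1,0,1,1,0])],
 [(1047,[1,0]),
 (1038,[0,1,0,1,1])],
 [(448,[1,1,0]),
 (1082,[1,0,1,1])],
 [(470,[1,1,0]),
 (1066,[1,0,1,1,0])],
 [(491,[1,1,0,1]),
 (1188,[1,1,0,1])],
 [(1123,[0,1,0]),
 (1063,[1,0,1,1,0,1])],
 [(1161,[0,1,0,1,1,0,1]),
 (561,[0])],
 [(1191,[1,0,1,1,0]),
 (1185,[1,0])],
 [(222,[0,1,0,1]),
 (140,[1,0,1])],
 [(517,[0,1,0,1,1,0,1]),
 (1160,[0,1,0])],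
 [(581,[1,1,0,1]),
 (1176,[0,1,1,0,1,0])],
 [(495,[1,1,0,1,0]),
 (1100,[1,1,0])],
 [(584,[1,1,0]),
 (487,[1,0,1,1,0,1])],
 [(127,[0,1]),
 (1178,[0,1,1,0,1,0])],
 [(1175,[1,0,1,1,0]),
 (1154,[1,0])],
 [(453,[1,0,1,0]),
 (1074,[0,1])],
 [(422,[0,1,0,1,0]),
 (673,[0,1,0,1,1])],
 [(1171,[1,1]),
 (171,[1,1])],
 [(1020,[]),
 (1276,[0,1])],
 [(1275,[1]),
 (1045,[0,1,0,1,1])],
 [(1181,[1,1,0,1,0]),
 (50,[0,1,1,0])],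
 [(509,[0,1,0,1]),
 (1013,[1,0,1,0])],
 [(1119,[1,0]),
 (1179,[1,0,1,1,0])],
 [(659,[1,1,0,1]),
 (1279,[])],
 [(1279,[0,1,0,1]),
 (624,[1,0,1,1])],
 [(566,[0,1,1,0,1]),
 (661,[1,1,0,1])],
 [(1056,[1,0,1,1,0,1]),
 (1278,[1,1,0,1])],
 [(1277,[0,1,0,1,1,0]),
 (158,[1,0,1,0])],
 [(103,[0]),
 (1233,[])],
 [(1234,[0,1,0,1,1]),
 (903,[0,1,0,1,1,0])],
 [(1196,[1,1,0]),
 (1198,[0,1])],
 [(355,[1,1,0]),
 (1211,[1,0,1,1,0,1])],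
 [(1273,[0,1,0]),
 (1193,[0,1,1])],
 [(859,[0,1,0,1,1,0]),
 (844,[0,1,1,0])]]))))))))))))))))))))))))))))))))

noncomputable def xN : ℕ → XN := nth ([],[],0,0,0,[],[]) [xN0,
 xN1,
 xN2,
 xN3,
 xN4,
 xN5,
 xN6,
 xN7,
 xN8]

noncomputable def xDs : List (List SD) := [[(0,0,[],[]),
 (0,0,[],[]),
 (0,0,[],[]),
 (0,0,[],[]),
 (0,0,[],[]),
 (0,0,[],[]),
 (0,0,[],[]),
 (0,0,[],[]),
 (0,0,[],[]),
 (0,0,[],[]),
 (0,0,[],[]),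
 (0,0,[],[]),
 (0,0,[],[]),
 (0,0,[],[]),
 (0,0,[],[]),
 (0,0,[],[]),
 (0,0,[],[]),
 (0,0,[],[]),
 (0,0,[],[]),
 (0,999,[],[0,2,1]),
 (0,999,[],[38,3,38]),
 (0,999,[],[39,39,3,3,3,3,39,39]),
 (0,999,[],[42,41,42,41,42,42,41,42,41]),
 (0,999,[],[40,40,43,41,41,43,43,43,40,40,43]),
 (0,999,[],[42,40,2,43,40,43,43,2,41]),
 (0,999,[],[38,42,46,45,42,49,42,2,46]),
 (0,999,[],[46,38,49,41,46,51,2,42,40]),
 (0,999,[],[3,53,48,53,50,53,41,43,52]),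
 (0,999,[],[44,2,49,39,41,45,51,46,39]),
 (0,999,[],[52,56,41,2,44,50,54,50,57]),
 (0,999,[],[48,39,42,55,51,59,46,51,59]),
 (0,999,[],[53,44,1,56,48,60,3,4,58])],
 [(0,999,[],[61,48,44,55,56,46,2,43,40]),
 (0,999,[],[45,38,62,49,65,55,46,0,56]),
 (0,999,[],[63,50,4,42,3,42,66,51,55]),
 (0,999,[],[9,7,9,9,6,6]),
 (0,999,[],[6,71,6,71,8,70]),
 (0,999,[],[8,6,70,9,9,71]),
 (0,999,[],[9,7,71,72,70,7]),
 (0,999,[],[73,71,70,8,7,6]),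
 (0,999,[],[11,11,10,11,13,10]),
 (0,999,[],[11,10,11,13,80,81]),
 (0,999,[],[81,83,81,12,80,83]),
 (0,999,[],[81,11,81,11,80,84]),
 (0,999,[],[83,87,12,83,82,84]),
 (0,999,[],[16,14,17,15,16,16]),
 (0,999,[],[15,90,16,15,91,14]),
 (0,999,[],[14,90,17,14,92,15]),
 (0,999,[],[15,17,94,95,92,91]),
 (0,999,[],[91,14,96,95,16,14]),
 (0,999,[],[21,19,18,19,20,20]),
 (0,999,[],[100,101,101,21,18,20]),
 (0,999,[],[18,100,21,21,20,101]),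
 (0,999,[],[19,105,104,104,18,104]),
 (0,999,[],[19,102,19,105,21,101]),
 (0,999,[],[24,22,23,22,25,25]),
 (0,999,[],[111,24,24,22,110,22]),
 (0,999,[],[113,23,113,111,111,110]),
 (0,999,[],[114,24,114,110,25,112]),
 (0,999,[],[111,117,115,112,111,116]),
 (0,999,[],[26,27,28,27,27,26]),
 (0,999,[],[121,26,120,28,29,121]),
 (0,999,[],[120,121,26,28,27,28]),
 (0,999,[],[26,122,125,121,29,28])],
 [(0,999,[],[120,124,126,27,120,123]),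
 (0,999,[],[33,30,31,33,31,32]),
 (0,999,[],[33,131,30,32,131,131]),
 (0,999,[],[33,32,30,130,130,30]),
 (0,999,[],[131,135,132,30,135,131]),
 (0,999,[],[135,31,136,132,132,135]),
 (0,999,[],[37,35,37,37,37,35]),
 (0,999,[],[36,37,34,141,34,140]),
 (0,999,[],[37,37,35,141,35,37]),
 (0,999,[],[34,142,34,142,36,35]),
 (0,999,[],[142,35,142,147,35,142]),
 (0,999,[],[0,63,61,64,54,4]),
 (0,999,[],[1,67,60,58,67,0]),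
 (0,999,[],[2,153,39,150,38,38]),
 (0,999,[],[152,2,38,2,150,2]),
 (0,999,[],[151,3,153,2,151,151]),
 (0,999,[],[157,154,158,158,158,158,156,154,154]),
 (0,999,[],[7,7,7,7,8,8,7,9,9,6]),
 (0,999,[],[7,7,7,7,8,6,6,6,6,8]),
 (0,999,[],[7,9,7,7,7,8,7,8,6,6,6]),
 (0,999,[],[165,163,166,164,167,163,166]),
 (0,999,[],[9,7,72,76,74,70,6]),
 (0,999,[],[75,75,8,6,6]),
 (0,999,[],[170,170,172,170,170,170,172,171,171,172,170,172,170]),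
 (0,999,[],[172,170,170,172,172,171,171,171]),
 (0,999,[],[8,7,7,8,6,9,6,6,8]),
 (0,999,[],[7,9,7,8,7,7,8,7,7,9,7,7]),
 (0,999,[],[6,6,6,9,6,6,9,9,7]),
 (0,999,[],[178,182,180,180,180,179,180]),
 (0,999,[],[9,6,8,8,6,6,6,9,7]),
 (0,999,[],[9,7,8,8,7,8,8]),
 (0,999,[],[9,7,8,7,7,8,7,9,6,6,8])],
 [(0,999,[],[187,189,186,190,188,190,188,187]),
 (0,999,[],[6,9,9,7,8,6,8,8,7,8,6]),
 (0,999,[],[9,6,6,6,8,8,6,9]),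
 (0,999,[],[8,8,7,7,8,7,8,7,7]),
 (0,999,[],[194,194,196,194,198,197,198]),
 (0,999,[],[7,71,7,76,76,8]),
 (0,999,[],[9,6,6,8]),
 (0,999,[],[8,78,6,8]),
 (0,999,[],[7,76,76,71,7]),
 (0,999,[],[202,207,202,202,208,202,202]),
 (0,999,[],[206,203,204,202,206,206,202]),
 (0,999,[],[9,79,72,76,71]),
 (0,999,[],[73,78,6,71,7]),
 (0,999,[],[9,76,76,75,6]),
 (0,999,[],[9,76,76,75,6]),
 (0,999,[],[6,74,78,7]),
 (0,999,[],[217,219,223,216,214,217]),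
 (0,999,[],[222,222,216,218]),
 (0,999,[],[7,71,76,72]),
 (0,999,[],[78,6]),
 (0,999,[],[230,230,228,231,228,231,229,230,229]),
 (0,999,[],[229,231,231,229,230,228,231,231,228]),
 (0,999,[],[70,9,78,70,74,74]),
 (0,999,[],[73,73,74,76,7]),
 (0,999,[],[237,239,237,238,236,238,236]),
 (0,999,[],[7,71,75,78,70,7]),
 (0,999,[],[77,73,78,76]),
 (0,999,[],[74,78,70,76,8]),
 (0,999,[],[6,6,76,70]),
 (0,999,[],[247,242,248,247,244]),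
 (0,999,[],[7,74,73,8,77,70]),
 (0,999,[],[72,71,72,72,6])],
 [(0,999,[],[71,7,78,7,7]),
 (0,999,[],[6,9,77,74,72,7]),
 (0,999,[],[6,75,8,78,78,7]),
 (0,999,[],[259,256,253]),
 (0,999,[],[11,84,11,11,84,10,10,85]),
 (0,999,[],[11,11,84,11,85,10,10,84,11,85,11]),
 (0,999,[],[10,10,85,10,10,84,11,11,85,11]),
 (0,999,[],[85,10,84,10,10,85,10,84,10,10]),
 (0,999,[],[86,10,83]),
 (0,999,[],[87,84,80]),
 (0,999,[],[273,275,272,275,272,274,272,274]),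
 (0,999,[],[82,88,87,12]),
 (0,999,[],[12,88,84,86,12]),
 (0,999,[],[85,85,11,85,10,84,84,10,10]),
 (0,999,[],[10,10,84,10,10,85,10,84]),
 (0,999,[],[84,10,84,84,10,84,84,11]),
 (0,999,[],[85,10,84,10,84,11,84,84,10,10]),
 (0,999,[],[11,12,80,10,10]),
 (0,999,[],[11,86,86,88,12,11]),
 (0,999,[],[85,89,86,84,10]),
 (0,999,[],[11,12,84,88,86,13]),
 (0,999,[],[85,80,82]),
 (0,999,[],[89,10,80]),
 (0,999,[],[301,301,299,299,300,298,300,298,300,299,301,298,298]),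
 (0,999,[],[13,13,86,82,10]),
 (0,999,[],[82,82,88,88,10]),
 (0,999,[],[10,10,82,82]),
 (0,999,[],[85,11,82,81,11]),
 (0,999,[],[12,12,12,83]),
 (0,999,[],[11,12,80]),
 (0,999,[],[313,313,314,312,314,312,312,314,312,314,313]),
 (0,999,[],[12,80,10])],
 [(0,999,[],[81,82,84,10]),
 (0,999,[],[319,321,319,319,321,319,321,318,320,319,319,320,319,319]),
 (0,999,[],[11,84,80,88,82,86]),
 (0,999,[],[13,88,10,10,80,83]),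
 (0,999,[],[91,95,90,92,91,95]),
 (0,999,[],[15,97,94,90,15]),
 (0,999,[],[17,90,16,14,16]),
 (0,999,[],[16,94,98]),
 (0,999,[],[15,94,94,90,17]),
 (0,999,[],[90,94,94,92,94,94]),
 (0,999,[],[91,95,90,95,92,95,91,95]),
 (0,999,[],[90,94,92,94]),
 (0,999,[],[14,97,92,98,90]),
 (0,999,[],[15,16,98,96,16]),
 (0,999,[],[92,16,91,14]),
 (0,999,[],[16,90,98,16,14]),
 (0,999,[],[15,95,96,14]),
 (0,999,[],[14,97,98,96]),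
 (0,999,[],[15,95,96,14]),
 (0,999,[],[97,92,90]),
 (0,999,[],[98,16,94,16,15]),
 (0,999,[],[16,16,94,16,14]),
 (0,999,[],[15,17,98,91,14]),
 (0,999,[],[93,94,90,15,15]),
 (0,999,[],[15,96,94,99]),
 (0,999,[],[14,93,94,96,16]),
 (0,999,[],[17,98,14,92,14]),
 (0,999,[],[90,17,90,96,15]),
 (0,999,[],[108,106,109,107,107,108,106,109,107,109]),
 (0,999,[],[18,106,104,102]),
 (0,999,[],[106,18,108,19]),
 (0,999,[],[103,100,20,18])],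
 [(0,999,[],[20,383,20,20,382,21,382,20,20,20]),
 (0,999,[],[106,109,107,107,109,106,106,109,106,108,106]),
 (0,999,[],[19,106,108,100,21]),
 (0,999,[],[100,104,108]),
 (0,999,[],[109,107,107,109,106,108,107,108,107]),
 (0,999,[],[19,21,108,101]),
 (0,999,[],[19,20,18,20]),
 (0,999,[],[106,100,19]),
 (0,999,[],[100,18]),
 (0,999,[],[104,104]),
 (0,999,[],[398,20,20,402,21]),
 (0,999,[],[102,102,107]),
 (0,999,[],[21,406,21,406,20,407,21]),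
 (0,999,[],[107,109,107,109,106,108,106,109,106,106,108,107]),
 (0,999,[],[106,102,104,19]),
 (0,999,[],[21,21,21,412,20,20,20]),
 (0,999,[],[104,107,102,108,18]),
 (0,999,[],[18,21,108,107,101]),
 (0,999,[],[108,103,100,107,19]),
 (0,999,[],[104,21,18,102,20]),
 (0,999,[],[104,18,102,100,18]),
 (0,999,[],[105,102,18,107]),
 (0,999,[],[19,21,18,100,19]),
 (0,999,[],[107,100,20,18]),
 (0,999,[],[20,108,20,105,18]),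
 (0,999,[],[18,105,19,108,104,21]),
 (0,999,[],[113,114,114,114,114,24,112]),
 (0,999,[],[22,114,111]),
 (0,999,[],[24,22,24,110]),
 (0,999,[],[111,118,116,24]),
 (0,999,[],[22,25,114,23]),
 (0,999,[],[25,115,110,24,23])],
 [(0,999,[],[114,24]),
 (0,999,[],[25,22,110]),
 (0,999,[],[24,114,25,114,24,115,24]),
 (0,999,[],[113,114,114,24,114,114,25,115]),
 (0,999,[],[25,25,113,24,115,112,24]),
 (0,999,[],[22,22,112]),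
 (0,999,[],[111,115,118,112,23]),
 (0,999,[],[22,117,112,116,23]),
 (0,999,[],[110,110]),
 (0,999,[],[24,118,25]),
 (0,999,[],[22,113,116,112,24]),
 (0,999,[],[23,118,110]),
 (0,999,[],[22,25,118,112,110]),
 (0,999,[],[23,23,110,110,24]),
 (0,999,[],[23,114,110]),
 (0,999,[],[25,112,24]),
 (0,999,[],[114,24,116,25,22]),
 (0,999,[],[24,23,114,24,22]),
 (0,999,[],[24,110,110,25]),
 (0,999,[],[110,114,110,25]),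
 (0,999,[],[111,119,110,115]),
 (0,999,[],[25,114,24,115]),
 (0,999,[],[25,114,116,114,22]),
 (0,999,[],[113,116,25,23]),
 (0,999,[],[23,25,116,116,23]),
 (0,999,[],[113,110,23]),
 (0,999,[],[22,117,114,25]),
 (0,999,[],[117,25,22,116,23]),
 (0,999,[],[116,114,22,112,24]),
 (0,999,[],[24,115,22,24,110]),
 (0,999,[],[25,111,118,114,22]),
 (0,999,[],[23,24,116])],
 [(0,999,[],[111,114,116,24]),
 (0,999,[],[24,114,24,117,22]),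
 (0,999,[],[23,24,111,116,118,22]),
 (0,999,[],[26,129,124,121,122]),
 (0,999,[],[29,29,124,28,125,29]),
 (0,999,[],[519,521,518,521,518,518,520,519,520,518]),
 (0,999,[],[121,128,26,126,26]),
 (0,999,[],[121,126,128,128,120]),
 (0,999,[],[525,525,527,525,525,525,527,525,526,525,526,525,525,525,526,524]),
 (0,999,[],[524,524,524,527,524,524,526,524,524,526,524,526,525]),
 (0,999,[],[127,124,122,129,26]),
 (0,999,[],[122,124,28,122,28]),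
 (0,999,[],[533,535,533,534,534,532,535,532,534,532,532]),
 (0,999,[],[533,535,533,534,534,534,532,535,533,533]),
 (0,999,[],[27,27,122,128,124,28]),
 (0,999,[],[27,125,26,123,29]),
 (0,999,[],[541,541,542,541,542,542,541,543,540,540]),
 (0,999,[],[33,31,132,30,32]),
 (0,999,[],[133,131,138,136]),
 (0,999,[],[33,135,136,131,32]),
 (0,999,[],[30,136,134,33]),
 (0,999,[],[31,33,139,32,31,131,30]),
 (0,999,[],[32,32,135,32]),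
 (0,999,[],[30,130,138,132]),
 (0,999,[],[30,32,132,136,32]),
 (0,999,[],[130,31,134,31,31]),
 (0,999,[],[32,30,134,131,33]),
 (0,999,[],[30,138,132,130]),
 (0,999,[],[35,37,37,148,142,34]),
 (0,999,[],[37,34,140,142]),
 (0,999,[],[569,570,568,568,570,570,568,571,569]),
 (0,999,[],[142,34,142,142,36])],
 [(0,999,[],[37,147,36,149])]]

noncomputable def xD : ℕ → SD := nth2 (0,0,[],[]) xDs

end Cfsg.Lib.Comp.HNn
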