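import Cfsg.Agent.Lib.Comp.HNn.X0

set_option maxRecDepth 100000
set_option Elab.async false

namespace Cfsg.Lib.Comp.HNn

universe u

theorem xD_19 : allR 19 270 1 (fun j => der tb B Lc civ [] al [] [] [] xF (xD j) j) = true := by decide +kernel

theorem xD_ok : ∀ j, 19 ≤ j → j < 289 → der tb B Lc civ [] al [] [] [] xF (xD j) j = true :=
  (rng_of_allR xD_19)

end Cfsg.Lib.Comp.HNn
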