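import Cfsg.Agent.Lib.Comp.HNn.X1

set_option maxRecDepth 100000
set_option Elab.async false

namespace Cfsg.Lib.Comp.HNn

universe u

theorem xN_0 : allR 0 1 1 (xnode nets tb B Lc civ L0 al xF 289 11 9 1408 177408000 xN) = true := by decide +kernel

theorem xN_1 : allR 1 1 1 (xnode nets tb B Lc civ L0 al xF 289 11 9 1408 177408000 xN) = true := by decide +kernel

theorem xN_2 : allR 2 1 1 (xnode nets tb B Lc civ L0 al xF 289 11 9 1408 177408000 xN) = true := by decide +kernel

theorem xN_3 : allR 3 1 1 (xnode nets tb B Lc civ L0 al xF 289 11 9 1408 177408000 xN) = true := by decide +kernel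

theorem xN_4 : allR 4 1 1 (xnode nets tb B Lc civ L0 al xF 289 11 9 1408 177408000 xN) = true := by decide +kernel

theorem xN_5 : allR 5 1 1 (xnode nets tb B Lc civ L0 al xF 289 11 9 1408 177408000 xN) = true := by decide +kernel

theorem xN_6 : allR 6 1 1 (xnode nets tb B Lc civ L0 al xF 289 11 9 1408 177408000 xN) = true := by decide +kernel

theorem xN_7 : allR 7 1 1 (xnode nets tb B Lc civ L0 al xF 289 11 9 1408 177408000 xN) = true := by decide +kernel

theorem xN_8 : allR 8 1 1 (xnode nets tb B Lc civ L0 al xF 289 11 9 1408 177408000 xN) = true := by decide +kernel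

theorem xN_ok : ∀ k < 9, xnode nets tb B Lc civ L0 al xF 289 11 9 1408 177408000 xN k = true :=
  rng_zero (rng_app (rng_app (rng_app (rng_app (rng_app (rng_app (rng_app (rng_app (rng_of_allR xN_0) (rng_of_allR xN_1)) (rng_of_allR xN_2)) (rng_of_allR xN_3)) (rng_of_allR xN_4)) (rng_of_allR xN_5)) (rng_of_allR xN_6)) (rng_of_allR xN_7)) (rng_of_allR xN_8))

end Cfsg.Lib.Comp.HNn
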